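import Mathlib
import Cfsg.Agent.Mrg.Omega.NO3S.Fit.Char
import Cfsg.Agent.Mrg.Omega.NO3S.Fit.AbsNat
import Cfsg.Agent.Mrg.Omega.NO3S.TwoOne.Three

section


/-!
# NO-3S, `q = 2`, `n = 1`, transvection types (helper311's text #16747): the abstract transvection system

`Sys TT B` : `TT` a set of vectors of the elementary abelian 2-group `M`, `B` an alternating form, `TT` spans, no
element of `TT` is in the radical, and `u + v ∈ TT` for `u, v ∈ TT` with `B u v = 1`.

* `Sys.fun_eq` : (1.2);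
* `Sys.exists_nonperp` : (1.4);
* `Sys.common`, `Sys.swap` : (3.1);
* `Sys.all_of_planar` : section 5.
-/

set_option autoImplicit false
set_option linter.unusedSectionVars false

namespace Cfsg.Agent.Omega.NO3S.TV

variable {M : Type*} [AddCommGroup M]

/-- the output of (1.1) -/
structure Sys (TT : Set M) (B : M → M → ZMod 2) : Prop where
  two : ∀ m : M, m + m = 0
  add_left : ∀ a b c, B (a + b) c = B a c + B b c
  symm : ∀ a b, B a b = B b a
  alt : ∀ a, B a a = 0
  span : AddSubgroup.closure TT = ⊤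
  nd : ∀ v ∈ TT, ∃ m, B v m = 1
  refl : ∀ u ∈ TT, ∀ v ∈ TT, B u v = 1 → u + v ∈ TT

/-- (1.3) -/
def Inj (TT : Set M) (B : M → M → ZMod 2) : Prop := ∀ u ∈ TT, ∀ v ∈ TT, (∀ m, B u m = B v m) → u = v

/-- the graph 'not perpendicular' is connected -/
def Conn (TT : Set M) (B : M → M → ZMod 2) : Prop :=
  ∀ S : Set M, S ⊆ TT → S.Nonempty → (∀ u ∈ S, ∀ v ∈ TT, B u v = 1 → v ∈ S) → TT ⊆ S

/-- the transvections act: `H` preserves `TT` and `B` and contains all `m ↦ m + (m, v) v`, `v ∈ TT` -/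
structure Act (TT : Set M) (B : M → M → ZMod 2) (H : Type*) [Group H] [DistribMulAction H M] : Prop where
  smul_mem : ∀ (h : H), ∀ v ∈ TT, h • v ∈ TT
  form : ∀ (h : H) (a b : M), B (h • a) (h • b) = B a b
  tv : ∀ v ∈ TT, ∃ a : H, ∀ m : M, (B m v = 0 → a • m = m) ∧ (B m v = 1 → a • m = m + v)

theorem z2 (a : ZMod 2) : a = 0 ∨ a = 1 := by
  revert a; decide

theorem z2_ne {a : ZMod 2} (h : a ≠ 0) : a = 1 := (z2 a).resolve_left h

theorem z2_ne' {a : ZMod 2} (h : a ≠ 1) : a = 0 := (z2 a).resolve_right h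

theorem z2_add (a : ZMod 2) : a + a = 0 := by revert a; decide

theorem z2_eq_of_add {a b : ZMod 2} (h : a + b = 0) : a = b := by revert a b; decide

namespace Sys

variable {TT : Set M} {B : M → M → ZMod 2}

theorem add_right (S : Sys TT B) (a b c : M) : B a (b + c) = B a b + B a c := by
  rw [S.symm, S.add_left, S.symm b, S.symm c]

theorem zero_left (S : Sys TT B) (a : M) : B 0 a = 0 := by
  have := S.add_left 0 0 a
  rw [add_zero] at this
  have h2 := z2_add (B 0 a)
  rw [← this] at h2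
  exact h2

theorem zero_right (S : Sys TT B) (a : M) : B a 0 = 0 := by rw [S.symm]; exact S.zero_left a

theorem neg_eq (S : Sys TT B) (m : M) : -m = m := neg_eq_of_add_eq_zero_left (S.two m)

theorem sub_eq (S : Sys TT B) (m n : M) : m - n = m + n := by rw [sub_eq_add_neg, S.neg_eq]

theorem add_cancel (S : Sys TT B) (m n : M) : m + (m + n) = n := by rw [← add_assoc, S.two, zero_add]

theorem add_cancel' (S : Sys TT B) (m n : M) : m + n + n = m := by rw [add_assoc, S.two, add_zero]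

theorem eq_of_add (S : Sys TT B) {m n : M} (h : m + n = 0) : m = n := by
  rw [← S.add_cancel' m n, h, zero_add]

/-- two additive functions which agree on `TT` are equal -/
theorem fun_ext (S : Sys TT B) {f g : M → ZMod 2} (hf : ∀ a b, f (a + b) = f a + f b)
    (hg : ∀ a b, g (a + b) = g a + g b) (h : ∀ u ∈ TT, f u = g u) (m : M) : f m = g m := by
  have hf0 : f 0 = 0 := by
    have := hf 0 0
    rw [add_zero] at this
    simpa using this
  have hg0 : g 0 = 0 := by
    have := hg 0 0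
    rw [add_zero] at this
    simpa using this
  have hm : m ∈ AddSubgroup.closure TT := by rw [S.span]; exact AddSubgroup.mem_top m
  induction hm using AddSubgroup.closure_induction with
  | mem x hx => exact h x hx
  | zero => rw [hf0, hg0]
  | add x y _ _ hx hy => rw [hf, hg, hx, hy]
  | neg x _ hx => rwa [S.neg_eq]

/-- (1.2) -/
theorem fun_eq (S : Sys TT B) {v : M} (hv : v ∈ TT) {g : M → ZMod 2} (hg : ∀ a b, g (a + b) = g a + g b)
    (h0 : ∀ u ∈ TT, B v u = 0 → g u = 0) : (∀ m, g m = 0) ∨ ∀ m, g m = B v m := by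
  have gv : g v = 0 := h0 v hv (S.alt v)
  have key1 : ∀ u ∈ TT, ∀ u' ∈ TT, B v u = 1 → B v u' = 1 → B u u' = 1 → g u = g u' := by
    intro u hu u' hu' h1 h2 h3
    have := h0 _ (S.refl u hu u' hu' h3) (by rw [S.add_right, h1, h2]; decide)
    rw [hg] at this
    exact z2_eq_of_add this
  have key : ∀ u ∈ TT, ∀ u' ∈ TT, B v u = 1 → B v u' = 1 → g u = g u' := by
    intro u hu u' hu' h1 h2
    rcases z2 (B u u') with h3 | h3
    · have h4 : v + u ∈ TT := S.refl v hv u hu h1
      have := key1 _ h4 u' hu' (by rw [S.add_right, S.alt, h1]; decide) h2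
        (by rw [S.add_left, h2, h3]; decide)
      rwa [hg, gv, zero_add] at this
    · exact key1 u hu u' hu' h1 h2 h3
  by_cases hu : ∃ u ∈ TT, B v u = 1
  · obtain ⟨u, hu, hu1⟩ := hu
    rcases z2 (g u) with hgu | hgu
    · left
      refine S.fun_ext hg (fun _ _ => by simp) fun u' hu' => ?_
      rcases z2 (B v u') with h1 | h1
      · exact h0 u' hu' h1
      · rw [← key u hu u' hu' hu1 h1, hgu]
    · right
      refine S.fun_ext hg (S.add_right v) fun u' hu' => ?_
      rcases z2 (B v u') with h1 | h1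
      · rw [h1]; exact h0 u' hu' h1
      · rw [h1, ← key u hu u' hu' hu1 h1, hgu]
  · left
    refine S.fun_ext hg (fun _ _ => by simp) fun u' hu' => ?_
    refine h0 u' hu' (z2_ne' fun h => hu ⟨u', hu', h⟩)

theorem exists_nd (S : Sys TT B) {v : M} (hv : v ∈ TT) : ∃ u ∈ TT, B v u = 1 := by
  by_contra hc
  push Not at hc
  obtain ⟨m, hm⟩ := S.nd v hv
  have := S.fun_ext (f := B v) (g := fun _ => 0) (S.add_right v) (fun _ _ => by simp)
    (fun u hu => z2_ne' (hc u hu)) m
  rw [hm] at this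
  exact one_ne_zero this

theorem ne_zero (S : Sys TT B) {v : M} (hv : v ∈ TT) : v ≠ 0 := by
  rintro rfl
  obtain ⟨m, hm⟩ := S.nd _ hv
  rw [S.zero_left] at hm
  exact zero_ne_one hm

/-- (1.4) -/
theorem exists_nonperp (S : Sys TT B) (I : Inj TT B) {v μ : M} (hv : v ∈ TT) (hμ : μ ∈ TT)
    (hne : μ ≠ v) : ∃ u ∈ TT, B v u = 0 ∧ B u μ = 1 := by
  by_contra hc
  push Not at hc
  rcases S.fun_eq hv (g := B μ) (S.add_right μ) (fun u hu h => by
    rw [S.symm]; exact z2_ne' (hc u hu h)) with h | h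
  · obtain ⟨m, hm⟩ := S.nd μ hμ
    rw [h] at hm
    exact zero_ne_one hm
  · exact hne (I μ hμ v hv h)

/-- the transvection with centre `u` -/
noncomputable def rf (B : M → M → ZMod 2) (u m : M) : M := by
  classical exact if B m u = 1 then m + u else m

theorem rf_one {u m : M} (h : B m u = 1) : rf B u m = m + u := by
  unfold rf; exact if_pos h

theorem rf_zero {u m : M} (h : B m u = 0) : rf B u m = m := by
  unfold rf; rw [if_neg]; rw [h]; exact zero_ne_one

theorem rf_mem (S : Sys TT B) {u m : M} (hu : u ∈ TT) (hm : m ∈ TT) : rf B u m ∈ TT := by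
  rcases z2 (B m u) with h | h
  · rw [rf_zero h]; exact hm
  · rw [rf_one h]; exact S.refl m hm u hu h

theorem rf_form (S : Sys TT B) (u a b : M) : B (rf B u a) (rf B u b) = B a b := by
  rcases z2 (B a u) with h | h <;> rcases z2 (B b u) with h' | h'
  · rw [rf_zero h, rf_zero h']
  · rw [rf_zero h, rf_one h', S.add_right, h, add_zero]
  · rw [rf_one h, rf_zero h', S.add_left, S.symm u b, h', add_zero]
  · rw [rf_one h, rf_one h', S.add_left, S.add_right, S.add_right, h, S.symm u b, h', S.alt, add_zero, add_assoc]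
    rw [z2_add 1, add_zero]

theorem rf_rf (S : Sys TT B) (u a : M) : rf B u (rf B u a) = a := by
  rcases z2 (B a u) with h | h
  · rw [rf_zero h, rf_zero h]
  · rw [rf_one h, rf_one (by rw [S.add_left, h, S.alt, add_zero]), S.add_cancel']

theorem rf_add (S : Sys TT B) (u a b : M) : rf B u (a + b) = rf B u a + rf B u b := by
  rcases z2 (B a u) with h | h <;> rcases z2 (B b u) with h' | h'
  · rw [rf_zero h, rf_zero h', rf_zero (by rw [S.add_left, h, h', add_zero])]
  · rw [rf_zero h, rf_one h', rf_one (by rw [S.add_left, h, h', zero_add]), add_assoc]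
  · rw [rf_one h, rf_zero h', rf_one (by rw [S.add_left, h, h', add_zero])]
    abel
  · rw [rf_one h, rf_one h', rf_zero (by rw [S.add_left, h, h', z2_add])]
    have : a + u + (b + u) = a + b + (u + u) := by abel
    rw [this, S.two, add_zero]

/-- common neighbours: the diameter is at most 2 -/
theorem common (S : Sys TT B) (C : Conn TT B) {u v : M} (hu : u ∈ TT) (hv : v ∈ TT) :
    ∃ t ∈ TT, B u t = 1 ∧ B t v = 1 ∨ B u v = 1 := by
  let D : Set M := {w | w ∈ TT ∧ (B u w = 1 ∨ ∃ t ∈ TT, B u t = 1 ∧ B t w = 1)}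
  obtain ⟨t0, ht0, ht01⟩ := S.exists_nd hu
  have hD : TT ⊆ D := by
    refine C D (fun w hw => hw.1) ⟨u, hu, Or.inr ⟨t0, ht0, ht01, by rw [S.symm]; exact ht01⟩⟩ ?_
    rintro w ⟨hw, hw1⟩ w' hw' hww
    refine ⟨hw', ?_⟩
    rcases hw1 with h1 | ⟨t, ht, h1, h2⟩
    · exact Or.inr ⟨w, hw, h1, hww⟩
    · rcases z2 (B u w) with h3 | h3
      · rcases z2 (B t w') with h4 | h4
        · refine Or.inr ⟨t + w, S.refl t ht w hw h2, ?_, ?_⟩
          · rw [S.add_right, h1, h3, add_zero]
          · rw [S.add_left, h4, hww, zero_add]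
        · exact Or.inr ⟨t, ht, h1, h4⟩
      · exact Or.inr ⟨w, hw, h3, hww⟩
  rcases (hD hv).2 with h | ⟨t, ht, h1, h2⟩
  · exact ⟨t0, ht0, Or.inr h⟩
  · exact ⟨t, ht, Or.inl ⟨h1, h2⟩⟩

/-- common neighbours of two perpendicular elements -/
theorem common' (S : Sys TT B) (C : Conn TT B) {u v : M} (hu : u ∈ TT) (hv : v ∈ TT) (h : B u v = 0) :
    ∃ t ∈ TT, B u t = 1 ∧ B t v = 1 := by
  obtain ⟨t, ht, h1 | h1⟩ := S.common C hu hv
  · exact ⟨t, ht, h1⟩
  · rw [h] at h1; exact absurd h1 zero_ne_one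

/-- (3.1), abstract part: `a_t a_t'` interchanges `v` and `μ` -/
theorem swap (S : Sys TT B) (C : Conn TT B) {v μ : M} (hv : v ∈ TT) (hμ : μ ∈ TT) (h : B v μ = 0) :
    ∃ t ∈ TT, ∃ t' ∈ TT, B t t' = 0 ∧ B v t = 1 ∧ B μ t = 1 ∧ B v t' = 1 ∧ B μ t' = 1 ∧ t' = v + t + μ ∧
      rf B t (rf B t' v) = μ ∧ rf B t (rf B t' μ) = v := by
  obtain ⟨t, ht, h1, h2⟩ := S.common' C hv hμ h
  have h2' : B μ t = 1 := by rw [S.symm]; exact h2
  have h1' : B t v = 1 := by rw [S.symm]; exact h1
  have h' : B μ v = 0 := by rw [S.symm]; exact h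
  have hvt : v + t ∈ TT := S.refl v hv t ht h1
  have ht' : v + t + μ ∈ TT := S.refl _ hvt μ hμ (by rw [S.add_left, h, h2, zero_add])
  have a1 : B v (v + t + μ) = 1 := by rw [S.add_right, S.add_right, S.alt, h1, h]; decide
  have a2 : B μ (v + t + μ) = 1 := by rw [S.add_right, S.add_right, S.alt, h2', h']; decide
  refine ⟨t, ht, v + t + μ, ht', ?_, h1, h2', a1, a2, rfl, ?_, ?_⟩
  · rw [S.add_right, S.add_right, h1', S.alt, h2]; decide
  · have e : v + (v + t + μ) = t + μ := by rw [add_assoc, S.add_cancel]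
    have e1 : rf B (v + t + μ) v = t + μ := by rw [rf_one a1, e]
    have e2 : B (t + μ) t = 1 := by rw [S.add_left, S.alt, h2', zero_add]
    have e3 : t + μ + t = μ + (t + t) := by abel
    rw [e1, rf_one e2, e3, S.two, add_zero]
  · have e : μ + (v + t + μ) = v + t + (μ + μ) := by abel
    have e1 : rf B (v + t + μ) μ = v + t := by rw [rf_one a2, e, S.two, add_zero]
    have e2 : B (v + t) t = 1 := by rw [S.add_left, S.alt, h1, add_zero]
    rw [e1, rf_one e2, add_assoc, S.two, add_zero]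

/-- `(u, v)` is planar: perpendicular, different, `u + v` is in `TT` modulo the radical -/
def Planar (TT : Set M) (B : M → M → ZMod 2) (u v : M) : Prop :=
  B u v = 0 ∧ u ≠ v ∧ ∃ w ∈ TT, ∀ m, B w m = B u m + B v m

theorem planar_symm (S : Sys TT B) {u v : M} (h : Planar TT B u v) : Planar TT B v u := by
  obtain ⟨h1, h2, w, hw, h3⟩ := h
  exact ⟨by rw [S.symm]; exact h1, h2.symm, w, hw, fun m => by rw [h3, add_comm]⟩

theorem planar_rf (S : Sys TT B) {t u v : M} (ht : t ∈ TT) (h : Planar TT B u v) :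
    Planar TT B (rf B t u) (rf B t v) := by
  obtain ⟨h1, h2, w, hw, h3⟩ := h
  refine ⟨by rw [S.rf_form]; exact h1, fun e => h2 ?_, rf B t w, S.rf_mem ht hw, fun m => ?_⟩
  · rw [← S.rf_rf t u, e, S.rf_rf]
  · have : m = rf B t (rf B t m) := (S.rf_rf t m).symm
    rw [this, S.rf_form, S.rf_form, S.rf_form, h3]

/-- planarity at one point gives planarity at every point -/
theorem planar_all (S : Sys TT B) (C : Conn TT B) {u v : M} (hu : u ∈ TT) (hv : v ∈ TT) (h : Planar TT B u v)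
    {l : M} (hl : l ∈ TT) : ∃ m ∈ TT, Planar TT B l m := by
  let D : Set M := {w | w ∈ TT ∧ ∃ m ∈ TT, Planar TT B w m}
  have hD : TT ⊆ D := by
    refine C D (fun w hw => hw.1) ⟨u, hu, v, hv, h⟩ ?_
    rintro w ⟨hw, m, hm, hp⟩ w' hw' hww
    have ht : w + w' ∈ TT := S.refl w hw w' hw' hww
    have e : rf B (w + w') w = w' := by
      rw [rf_one (by rw [S.add_right, S.alt, hww, zero_add]), S.add_cancel]
    refine ⟨hw', rf B (w + w') m, S.rf_mem ht hm, ?_⟩
    have := S.planar_rf ht hp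
    rwa [e] at this
  exact (hD hl).2

end Sys

end Cfsg.Agent.Omega.NO3S.TV

end

section


/-!
# The form of a symmetric orbit of transvections over `F₂` (helper311's text #16747, (1.1), (1.2))

`H` acts on the finite elementary abelian 2-group `M`, `v0 : M`, `a0 : H` a transvection with centre `v0` centralised by
the stabiliser of `v0`, `M` spanned by the orbit of `v0`, and `a_{v0}` fixes `x • v0` implies that `a_{x • v0}` fixes `v0`,
`a_{x • v0} = x a0 x⁻¹`.

* `Pre v0 a0` : these hypotheses; `IsForm v0 a0 B` : `B` is a symmetric `H`-invariant alternating form with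
  `a_{x • v0} m = m + B m (x • v0) (x • v0)`; `Pre.exists_form`;
* `IsForm.sys`, `IsForm.act` : the structures `Sys`, `Act` of `TV/Sys.lean`.
-/

set_option autoImplicit false

namespace Cfsg.Agent.Omega.NO3S.TV.Abs

universe u v

variable {M : Type u} {H : Type v} [AddCommGroup M] [Group H] [DistribMulAction H M]

/-- a symmetric orbit of transvections -/
structure Pre (v0 : M) (a0 : H) : Prop where
  two : ∀ m : M, m + m = 0
  ne : ∃ m : M, a0 • m ≠ m
  mv : ∀ m : M, a0 • m = m ∨ a0 • m = m + v0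
  stab : ∀ x : H, x • v0 = v0 → x * a0 = a0 * x
  span : AddSubgroup.closure (Set.range fun x : H => x • v0) = ⊤
  sym : ∀ x : H, a0 • (x • v0) = x • v0 → (x * a0 * x⁻¹) • v0 = v0

/-- the form -/
structure IsForm (v0 : M) (a0 : H) (B : M → M → ZMod 2) : Prop where
  two : ∀ m : M, m + m = 0
  add_left : ∀ m n k, B (m + n) k = B m k + B n k
  add_right : ∀ k m n, B k (m + n) = B k m + B k n
  symm : ∀ m n, B m n = B n m
  self : ∀ m, B m m = 0
  inv : ∀ (x : H) (m n : M), B (x • m) (x • n) = B m n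
  fix : ∀ (x : H) (m : M), B m (x • v0) = 0 → (x * a0 * x⁻¹) • m = m
  mv : ∀ (x : H) (m : M), B m (x • v0) = 1 → (x * a0 * x⁻¹) • m = m + x • v0
  ne : ∃ m, B m v0 = 1
  span : AddSubgroup.closure (Set.range fun x : H => x • v0) = ⊤

theorem zmod_cases (a : ZMod 2) : a = 0 ∨ a = 1 := by
  fin_cases a
  · exact Or.inl rfl
  · exact Or.inr rfl

theorem zmod_ne_zero {a : ZMod 2} : a ≠ 0 ↔ a = 1 := by
  rcases zmod_cases a with rfl | rfl <;> simp

theorem zmod_ne_one {a : ZMod 2} : a ≠ 1 ↔ a = 0 := by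
  rcases zmod_cases a with rfl | rfl <;> simp

namespace Pre

variable {v0 : M} {a0 : H} (P : Pre v0 a0)
include P

theorem v0_ne : v0 ≠ 0 := by
  intro e
  obtain ⟨m, hm⟩ := P.ne
  rcases P.mv m with h | h
  · exact hm h
  · rw [e, add_zero] at h; exact hm h

theorem fix0 : a0 • v0 = v0 := by
  rcases P.mv v0 with h | h
  · exact h
  · rw [P.two] at h
    exact absurd (smul_eq_zero_iff_eq a0 |>.mp h) P.v0_ne

/-- `a_{x • v0}` -/
theorem mv' (x : H) (m : M) : (x * a0 * x⁻¹) • m = m ∨ (x * a0 * x⁻¹) • m = m + x • v0 := by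
  rcases P.mv (x⁻¹ • m) with h | h
  · left
    rw [mul_smul, mul_smul, h, smul_inv_smul]
  · right
    rw [mul_smul, mul_smul, h, smul_add, smul_inv_smul]

theorem ax_eq {x y : H} (h : x • v0 = y • v0) : x * a0 * x⁻¹ = y * a0 * y⁻¹ := by
  have h1 : (y⁻¹ * x) • v0 = v0 := by rw [mul_smul, h, inv_smul_smul]
  have h2 := P.stab _ h1
  calc x * a0 * x⁻¹ = y * ((y⁻¹ * x) * a0) * x⁻¹ := by group
    _ = y * (a0 * (y⁻¹ * x)) * x⁻¹ := by rw [h2]
    _ = y * a0 * y⁻¹ := by group

open Classical in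
/-- the functional of `a_{x • v0}` -/
noncomputable def fn (x : H) : M →+ ZMod 2 where
  toFun m := if (x * a0 * x⁻¹) • m = m then 0 else 1
  map_zero' := by simp
  map_add' m n := by
    have hne : x • v0 ≠ 0 := fun e => P.v0_ne ((smul_eq_zero_iff_eq x).mp e)
    have e11 : (1 : ZMod 2) + 1 = 0 := by decide
    have h0 : ∀ k : M, k + x • v0 ≠ k := fun k hk => hne (by simpa using hk)
    rcases P.mv' x m with h1 | h1 <;> rcases P.mv' x n with h2 | h2 <;> rw [smul_add, h1, h2]
    · simp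
    · have : m + (n + x • v0) ≠ m + n := fun e => h0 n (add_left_cancel e)
      simp [this, h0]
    · have : m + x • v0 + n ≠ m + n := fun e => h0 m (add_right_cancel e)
      simp [this, h0]
    · have : m + x • v0 + (n + x • v0) = m + n := by
        calc m + x • v0 + (n + x • v0) = m + n + (x • v0 + x • v0) := by abel
          _ = m + n := by rw [P.two, add_zero]
      rw [if_pos this, if_neg (h0 m), if_neg (h0 n), e11]

open Classical in
theorem fn_apply {x : H} {m : M} : P.fn x m = if (x * a0 * x⁻¹) • m = m then 0 else 1 := rfl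

theorem fn_eq_zero {x : H} {m : M} : P.fn x m = 0 ↔ (x * a0 * x⁻¹) • m = m := by
  rw [P.fn_apply]
  split_ifs with h
  · simp [h]
  · simp [h]

theorem fn_eq_one {x : H} {m : M} : P.fn x m = 1 ↔ (x * a0 * x⁻¹) • m = m + x • v0 := by
  rw [← zmod_ne_zero, Ne, P.fn_eq_zero]
  have hne : x • v0 ≠ 0 := fun e => P.v0_ne ((smul_eq_zero_iff_eq x).mp e)
  constructor
  · intro h
    exact (P.mv' x m).resolve_left h
  · intro h h1
    rw [h1] at h
    exact hne (by simpa using h.symm)

theorem fn_symm_aux {x y : H} (h : P.fn x (y • v0) = 0) : P.fn y (x • v0) = 0 := by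
  rw [P.fn_eq_zero] at h ⊢
  have h1 : a0 • ((x⁻¹ * y) • v0) = (x⁻¹ * y) • v0 := by
    have := congrArg (fun m => x⁻¹ • m) h
    simp only [mul_smul, inv_smul_smul] at this
    rw [mul_smul]
    exact this
  have h2 := P.sym _ h1
  have h3 := congrArg (fun m => x • m) h2
  simp only [mul_smul, mul_inv_rev, inv_inv, smul_inv_smul] at h3
  simp only [mul_smul]
  exact h3

theorem fn_symm (x y : H) : P.fn x (y • v0) = P.fn y (x • v0) := by
  rcases zmod_cases (P.fn x (y • v0)) with h | h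
  · rw [h, P.fn_symm_aux h]
  · rcases zmod_cases (P.fn y (x • v0)) with h' | h'
    · rw [P.fn_symm_aux h', h']
    · rw [h, h']

theorem fn_smul (x y : H) (m : M) : P.fn (y * x) (y • m) = P.fn x m := by
  have key : P.fn (y * x) (y • m) = 0 ↔ P.fn x m = 0 := by
    rw [P.fn_eq_zero, P.fn_eq_zero]
    have e : (y * x * a0 * (y * x)⁻¹) • y • m = y • ((x * a0 * x⁻¹) • m) := by
      rw [← mul_smul, ← mul_smul]
      congr 1
      group
    rw [e]
    exact smul_left_cancel_iff y
  rcases zmod_cases (P.fn x m) with h | h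
  · rw [h]; exact key.mpr h
  · rcases zmod_cases (P.fn (y * x) (y • m)) with h' | h'
    · rw [key.mp h'] at h; exact absurd h (by decide)
    · rw [h, h']

/-- the graph of the form -/
noncomputable def gr : AddSubgroup (M × (M →+ ZMod 2)) :=
  AddSubgroup.closure (Set.range fun x : H => (x • v0, P.fn x))

theorem gr_apply {q : M × (M →+ ZMod 2)} (hq : q ∈ P.gr) (y : H) : q.2 (y • v0) = P.fn y q.1 := by
  unfold gr at hq
  induction hq using AddSubgroup.closure_induction with
  | mem q hq =>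
    obtain ⟨x, rfl⟩ := hq
    exact P.fn_symm x y
  | zero => simp
  | add a b _ _ ha hb =>
    change (a.2 + b.2) (y • v0) = P.fn y (a.1 + b.1)
    rw [AddMonoidHom.add_apply, ha, hb, map_add]
  | neg a _ ha =>
    change (-a.2) (y • v0) = P.fn y (-a.1)
    rw [AddMonoidHom.neg_apply, ha, map_neg]

theorem ext_orbit {g g' : M →+ ZMod 2} (h : ∀ y : H, g (y • v0) = g' (y • v0)) : g = g' := by
  ext m
  have hm : m ∈ AddSubgroup.closure (Set.range fun x : H => x • v0) := by rw [P.span]; trivial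
  induction hm using AddSubgroup.closure_induction with
  | mem m hm => obtain ⟨x, rfl⟩ := hm; exact h x
  | zero => simp
  | add a b _ _ ha hb => rw [map_add, map_add, ha, hb]
  | neg a _ ha => rw [map_neg, map_neg, ha]

theorem gr_unique {m : M} {g g' : M →+ ZMod 2} (h : (m, g) ∈ P.gr) (h' : (m, g') ∈ P.gr) : g = g' :=
  P.ext_orbit fun y => (P.gr_apply h y).trans (P.gr_apply h' y).symm

theorem gr_exists (m : M) : ∃ g, (m, g) ∈ P.gr := by
  have hm : m ∈ AddSubgroup.closure (Set.range fun x : H => x • v0) := by rw [P.span]; trivial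
  induction hm using AddSubgroup.closure_induction with
  | mem m hm => obtain ⟨x, rfl⟩ := hm; exact ⟨P.fn x, AddSubgroup.subset_closure ⟨x, rfl⟩⟩
  | zero => exact ⟨0, zero_mem _⟩
  | add a b _ _ ha hb =>
    obtain ⟨g, hg⟩ := ha
    obtain ⟨g', hg'⟩ := hb
    exact ⟨g + g', add_mem hg hg'⟩
  | neg a _ ha =>
    obtain ⟨g, hg⟩ := ha
    exact ⟨-g, neg_mem hg⟩

/-- **(1.1)**: the form. -/
theorem exists_form : ∃ B : M → M → ZMod 2, IsForm v0 a0 B := by
  classical
  choose g hg using P.gr_exists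
  have hgx : ∀ x : H, g (x • v0) = P.fn x := fun x =>
    P.gr_unique (hg _) (AddSubgroup.subset_closure ⟨x, rfl⟩)
  have hadd : ∀ m n, g (m + n) = g m + g n := fun m n =>
    P.gr_unique (hg _) (add_mem (hg m) (hg n))
  have hsym0 : ∀ (y : H) (m : M), g m (y • v0) = g (y • v0) m := fun y m => by
    rw [P.gr_apply (hg m) y, hgx]
  have hsym : ∀ m n, g m n = g n m := by
    intro m n
    have hn : n ∈ AddSubgroup.closure (Set.range fun x : H => x • v0) := by rw [P.span]; trivial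
    induction hn using AddSubgroup.closure_induction with
    | mem n hn => obtain ⟨y, rfl⟩ := hn; exact hsym0 y m
    | zero =>
      have : g 0 = 0 := P.gr_unique (hg 0) (zero_mem _)
      rw [this, map_zero, AddMonoidHom.zero_apply]
    | add a b _ _ ha hb => rw [map_add, hadd, AddMonoidHom.add_apply, ha, hb]
    | neg a _ ha =>
      have : g (-a) = - g a := P.gr_unique (hg _) (neg_mem (hg a))
      rw [map_neg, this, AddMonoidHom.neg_apply, ha]
  have e2 : ∀ a : ZMod 2, a + a = 0 := by decide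
  have hself : ∀ m, g m m = 0 := by
    intro m
    have hm : m ∈ AddSubgroup.closure (Set.range fun x : H => x • v0) := by rw [P.span]; trivial
    induction hm using AddSubgroup.closure_induction with
    | mem m hm =>
      obtain ⟨y, rfl⟩ := hm
      rw [hgx, P.fn_eq_zero, mul_smul, mul_smul, inv_smul_smul, P.fix0]
    | zero => rw [map_zero]
    | add a b _ _ ha hb =>
      rw [map_add, hadd, AddMonoidHom.add_apply, AddMonoidHom.add_apply, ha, hb, hsym b a, zero_add, add_zero, e2]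
    | neg a _ ha =>
      have : g (-a) = - g a := P.gr_unique (hg _) (neg_mem (hg a))
      rw [this, AddMonoidHom.neg_apply, map_neg, ha, neg_zero, neg_zero]
  refine ⟨fun m n => g n m, ?_, ?_, ?_, ?_, ?_, ?_, ?_, ?_, ?_, ?_⟩
  · exact P.two
  · intro m n k; exact map_add _ _ _
  · intro k m n
    rw [hadd, AddMonoidHom.add_apply]
  · intro m n; exact hsym n m
  · exact hself
  · intro x m n
    have hn : n ∈ AddSubgroup.closure (Set.range fun x : H => x • v0) := by rw [P.span]; trivial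
    induction hn using AddSubgroup.closure_induction with
    | mem n hn =>
      obtain ⟨y, rfl⟩ := hn
      change g (x • y • v0) (x • m) = g (y • v0) m
      rw [← mul_smul, hgx, hgx, P.fn_smul]
    | zero =>
      have : g 0 = 0 := P.gr_unique (hg 0) (zero_mem _)
      change g (x • 0) (x • m) = g 0 m
      rw [smul_zero, this, AddMonoidHom.zero_apply, AddMonoidHom.zero_apply]
    | add a b _ _ ha hb =>
      change g (x • (a + b)) (x • m) = g (a + b) m
      rw [smul_add, hadd, hadd, AddMonoidHom.add_apply, AddMonoidHom.add_apply]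
      exact congrArg₂ (· + ·) ha hb
    | neg a _ ha =>
      have h1 : ∀ k, g (-k) = - g k := fun k => P.gr_unique (hg _) (neg_mem (hg k))
      change g (x • (-a)) (x • m) = g (-a) m
      rw [smul_neg, h1, h1, AddMonoidHom.neg_apply, AddMonoidHom.neg_apply]
      exact congrArg Neg.neg ha
  · intro x m hm
    rw [hgx] at hm
    exact P.fn_eq_zero.mp hm
  · intro x m hm
    rw [hgx] at hm
    exact P.fn_eq_one.mp hm
  · obtain ⟨m, hm⟩ := P.ne
    refine ⟨m, ?_⟩
    have h1 : g v0 = P.fn 1 := by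
      have := hgx 1
      rwa [one_smul] at this
    change g v0 m = 1
    rw [h1, ← zmod_ne_zero, Ne, P.fn_eq_zero]
    simpa using hm
  · exact P.span

end Pre

namespace IsForm

variable {v0 : M} {a0 : H} {B : M → M → ZMod 2} (F : IsForm v0 a0 B)
include F

theorem sys : Sys (Set.range fun x : H => x • v0) B where
  two := F.two
  add_left := F.add_left
  symm := F.symm
  alt := F.self
  span := F.span
  nd := by
    rintro _ ⟨x, rfl⟩
    obtain ⟨m, hm⟩ := F.ne
    exact ⟨x • m, by rw [F.symm, F.inv, hm]⟩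
  refl := by
    rintro _ ⟨x, rfl⟩ _ ⟨y, rfl⟩ h
    exact ⟨y * a0 * y⁻¹ * x, by
      change (y * a0 * y⁻¹ * x) • v0 = x • v0 + y • v0
      rw [mul_smul, F.mv y _ h]⟩

theorem act : Act (Set.range fun x : H => x • v0) B H where
  smul_mem := by
    rintro h _ ⟨x, rfl⟩
    exact ⟨h * x, mul_smul _ _ _⟩
  form := F.inv
  tv := by
    rintro _ ⟨x, rfl⟩
    exact ⟨x * a0 * x⁻¹, fun m => ⟨F.fix x m, F.mv x m⟩⟩

end IsForm

end Cfsg.Agent.Omega.NO3S.TV.Abs

end

section


/-!
# NO-3S, `q = 2`, `n = 1`, transvection types (helper311's text #16747), section 5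

One planar pair: every vector outside the radical is in `TT` modulo the radical (`Sys.all_of_planar`), the radical is
`{0, r}` and `u + v + r ∈ TT` for different perpendicular `u, v ∈ TT` (`Sys.exists_r`).
-/

set_option autoImplicit false
set_option linter.unusedSectionVars false

namespace Cfsg.Agent.Omega.NO3S.TV.Sys

variable {M : Type*} [AddCommGroup M] {TT : Set M} {B : M → M → ZMod 2}

/-- `m` is in `TT` modulo the radical -/
def InT (TT : Set M) (B : M → M → ZMod 2) (m : M) : Prop := ∃ t ∈ TT, ∀ x, B t x = B m x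

/-- the set `S` of the proof: `u` perpendicular to `l`, `u ≠ l`, `u + l ∈ TT` modulo the radical -/
def PS (TT : Set M) (B : M → M → ZMod 2) (l u : M) : Prop := u ∈ TT ∧ B l u = 0 ∧ u ≠ l ∧ InT TT B (u + l)

/-- (i) -/
theorem ps_adj (S : Sys TT B) {l u u' : M} (h : PS TT B l u) (hu' : u' ∈ TT) (h1 : B l u' = 0)
    (h2 : B u u' = 1) : PS TT B l u' := by
  obtain ⟨hu, hlu, hne, w, hw, hwe⟩ := h
  have e1 : B w u' = 1 := by rw [hwe, S.add_left, h2, h1, add_zero]
  have hw1 : w + u' ∈ TT := S.refl w hw u' hu' e1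
  have e2 : B (w + u') u = 1 := by
    rw [S.add_left, hwe, S.add_left, S.alt, hlu, S.symm u' u, h2]; decide
  have hw2 : w + u' + u ∈ TT := S.refl _ hw1 u hu e2
  refine ⟨hu', h1, ?_, w + u' + u, hw2, fun x => ?_⟩
  · rintro rfl
    rw [S.symm] at h2
    rw [hlu] at h2
    exact zero_ne_one h2
  · rw [S.add_left, S.add_left, S.add_left, hwe, S.add_left]
    have := z2_add (B u x)
    linear_combination this

/-- the partner of `u ∈ S` is in `S` -/
theorem ps_partner (S : Sys TT B) {l u w : M} (h : PS TT B l u) (hw : w ∈ TT)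
    (he : ∀ x, B w x = B (u + l) x) : PS TT B l w := by
  obtain ⟨hu, hlu, hne, -⟩ := h
  refine ⟨hw, ?_, ?_, u, hu, fun x => ?_⟩
  · rw [S.symm, he, S.add_left, S.symm u l, hlu, S.alt, add_zero]
  · rintro rfl
    obtain ⟨m, hm⟩ := S.nd u hu
    have := he m
    rw [S.add_left, hm] at this
    revert this
    generalize B w m = a
    revert a; decide
  · rw [S.add_left, he, S.add_left]
    have := z2_add (B l x)
    linear_combination -this

/-- (ii) -/
theorem ps_sum (S : Sys TT B) (C : Conn TT B) {l t μ : M} (hl : l ∈ TT) (ht : t ∈ TT) (hlt : B l t = 0)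
    (hperp : ∀ u, PS TT B l u → B t u = 0) (hμ : PS TT B l μ) : μ + t + l ∈ TT := by
  have hμt : B μ t = 0 := by rw [S.symm]; exact hperp μ hμ
  obtain ⟨w, hw, h1, h2⟩ := S.common' C hμ.1 ht hμt
  have hwl : B w l = 1 := by
    apply z2_ne
    intro h0
    have h3 : PS TT B l w := S.ps_adj hμ hw (by rw [S.symm]; exact h0) h1
    have := hperp w h3
    rw [S.symm, h2] at this
    exact one_ne_zero this
  have k1 : w + μ ∈ TT := S.refl w hw μ hμ.1 (by rw [S.symm]; exact h1)
  have k2 : w + μ + t ∈ TT := S.refl _ k1 t ht (by rw [S.add_left, h2, hμt, add_zero])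
  have k3 : w + l ∈ TT := S.refl w hw l hl hwl
  have k4 : B (w + μ + t) (w + l) = 1 := by
    have a1 : B t w = 1 := by rw [S.symm]; exact h2
    have a2 : B t l = 0 := by rw [S.symm]; exact hlt
    have a3 : B μ l = 0 := by rw [S.symm]; exact hμ.2.1
    rw [S.add_left, S.add_left, S.add_right, S.add_right, S.add_right, S.alt, hwl, h1, a1, a2, a3]
    decide
  have k5 := S.refl _ k2 _ k3 k4
  have e : w + μ + t + (w + l) = μ + t + l + (w + w) := by abel
  rwa [e, S.two, add_zero] at k5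

/-- perpendicular vectors of `TT` have their sum in `TT` modulo the radical -/
theorem sum_perp (S : Sys TT B) (I : Inj TT B) (C : Conn TT B) (hp : ∃ u ∈ TT, ∃ v ∈ TT, Planar TT B u v)
    {l t : M} (hl : l ∈ TT) (ht : t ∈ TT) (hne : t ≠ l) (hlt : B l t = 0) : InT TT B (t + l) := by
  by_contra hc
  have hperp : ∀ u, PS TT B l u → B t u = 0 := by
    intro u hu
    apply z2_ne'
    intro h1
    exact hc (S.ps_adj hu ht hlt (by rw [S.symm]; exact h1)).2.2.2
  obtain ⟨u0, hu0, v0, hv0, hp0⟩ := hp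
  obtain ⟨μ, hμ, hpl⟩ := S.planar_all C hu0 hv0 hp0 hl
  obtain ⟨p1, p2, w0, hw0, p3⟩ := hpl
  have hμS : PS TT B l μ := ⟨hμ, p1, p2.symm, w0, hw0, fun x => by rw [p3, S.add_left, add_comm]⟩
  have hν : PS TT B l w0 := S.ps_partner hμS hw0 (fun x => by rw [p3, S.add_left, add_comm])
  have x1 : μ + t + l ∈ TT := S.ps_sum C hl ht hlt hperp hμS
  have x2 : w0 + t + l ∈ TT := S.ps_sum C hl ht hlt hperp hν
  have x3 : ∀ x, B (w0 + t + l) x = B μ x + B t x := by
    intro x
    rw [S.add_left, S.add_left, p3]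
    have := z2_add (B l x)
    linear_combination this
  have x4 : PS TT B l (w0 + t + l) := by
    refine ⟨x2, ?_, ?_, μ + t + l, x1, fun x => ?_⟩
    · rw [S.symm, x3, S.symm μ l, hμS.2.1, S.symm t l, hlt, add_zero]
    · intro e
      apply hc
      have : t = w0 := by
        apply I t ht w0 hw0
        intro m
        have h1 := x3 m
        rw [e] at h1
        rw [p3, h1]
        have := z2_add (B μ m)
        linear_combination -this
      rw [this]
      exact hν.2.2.2
    · rw [S.add_left (w0 + t + l), x3, S.add_left, S.add_left]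
  obtain ⟨u, hu, hu1, hu2⟩ := S.exists_nonperp I hl ht hne
  have y1 : ¬ PS TT B l u := by
    intro h
    have := hperp u h
    rw [S.symm, hu2] at this
    exact one_ne_zero this
  have y2 : B μ u = 0 := z2_ne' fun h => y1 (S.ps_adj hμS hu hu1 h)
  refine y1 (S.ps_adj x4 hu hu1 ?_)
  rw [x3, y2, S.symm t u, hu2, zero_add]

/-- **section 5** -/
theorem all_of_planar (S : Sys TT B) (I : Inj TT B) (C : Conn TT B)
    (hp : ∃ u ∈ TT, ∃ v ∈ TT, Planar TT B u v) (m : M) : (∀ x, B m x = 0) ∨ InT TT B m := by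
  have hm : m ∈ AddSubgroup.closure TT := by rw [S.span]; exact AddSubgroup.mem_top m
  induction hm using AddSubgroup.closure_induction with
  | mem x hx => exact Or.inr ⟨x, hx, fun _ => rfl⟩
  | zero => exact Or.inl S.zero_left
  | add a b _ _ ha hb =>
    rcases ha with ha | ⟨t, ht, hta⟩
    · rcases hb with hb | ⟨t', ht', htb⟩
      · exact Or.inl fun x => by rw [S.add_left, ha, hb, add_zero]
      · exact Or.inr ⟨t', ht', fun x => by rw [S.add_left, ha, htb, zero_add]⟩
    · rcases hb with hb | ⟨t', ht', htb⟩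
      · exact Or.inr ⟨t, ht, fun x => by rw [S.add_left, hb, hta, add_zero]⟩
      · by_cases he : t = t'
        · left
          intro x
          rw [S.add_left, ← hta, ← htb, he, z2_add]
        · rcases z2 (B t' t) with h | h
          · obtain ⟨w, hw, hwe⟩ := S.sum_perp I C hp ht' ht he h
            exact Or.inr ⟨w, hw, fun x => by rw [hwe, S.add_left, S.add_left, hta, htb]⟩
          · exact Or.inr ⟨t' + t, S.refl t' ht' t ht h, fun x => by
              rw [S.add_left, S.add_left, hta, htb, add_comm]⟩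
  | neg a _ ha => rwa [S.neg_eq]

/-- the output of section 5 -/
structure Full (TT : Set M) (B : M → M → ZMod 2) (r : M) : Prop where
  rad : ∀ x, B r x = 0
  rad_eq : ∀ m, (∀ x, B m x = 0) → m = 0 ∨ m = r
  perp : ∀ u ∈ TT, ∀ v ∈ TT, u ≠ v → B u v = 0 → u + v + r ∈ TT
  cases : ∀ m, m = 0 ∨ m = r ∨ m ∈ TT ∨ m + r ∈ TT

/-- a common neighbour in `v^⊥` of two vectors of `v^⊥` -/
theorem common_perp (S : Sys TT B) (I : Inj TT B) (C : Conn TT B)
    (hp : ∃ u ∈ TT, ∃ v ∈ TT, Planar TT B u v) {v u u' : M} (hv : v ∈ TT) (hu : u ∈ TT) (hu' : u' ∈ TT)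
    (h1 : u ≠ v) (h2 : u' ≠ v) : ∃ w ∈ TT, B v w = 0 ∧ B w u = 1 ∧ B w u' = 1 := by
  obtain ⟨a, ha, ha1, ha2⟩ := S.exists_nonperp I hv hu h1
  obtain ⟨b, hb, hb1, hb2⟩ := S.exists_nonperp I hv hu' h2
  rcases z2 (B a u') with h | h
  · rcases z2 (B b u) with h' | h'
    · rcases S.all_of_planar I C hp (a + b) with h3 | ⟨w, hw, hwe⟩
      · have := h3 u
        rw [S.add_left, ha2, h', add_zero] at this
        exact absurd this one_ne_zero
      · refine ⟨w, hw, ?_, ?_, ?_⟩
        · rw [S.symm, hwe, S.add_left, S.symm a v, S.symm b v, ha1, hb1, add_zero]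
        · rw [hwe, S.add_left, ha2, h', add_zero]
        · rw [hwe, S.add_left, hb2, h, zero_add]
    · exact ⟨b, hb, hb1, h', hb2⟩
  · exact ⟨a, ha, ha1, ha2, h⟩

theorem rf_rad (S : Sys TT B) {w r : M} (h : ∀ x, B r x = 0) : rf B w r = r := rf_zero (h w)

theorem exists_r (S : Sys TT B) (I : Inj TT B) (C : Conn TT B)
    (hp : ∃ u ∈ TT, ∃ v ∈ TT, Planar TT B u v) : ∃ r, Full TT B r := by
  obtain ⟨u0, hu0, v0, hv0, hp0⟩ := id hp
  -- `Z u v z`: `z = u + v + w`, `w ∈ TT`, in the radical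
  let Z : M → M → M → Prop := fun u v z => (∀ x, B z x = 0) ∧ u + v + z ∈ TT
  have Zex : ∀ u ∈ TT, ∀ v ∈ TT, u ≠ v → B u v = 0 → ∃ z, Z u v z := by
    intro u hu v hv hne huv
    obtain ⟨w, hw, hwe⟩ := S.sum_perp I C hp hv hu hne (by rw [S.symm]; exact huv)
    refine ⟨u + v + w, fun x => ?_, ?_⟩
    · rw [S.add_left, hwe, z2_add]
    · rw [S.add_cancel]; exact hw
  have Zun : ∀ u v z z', Z u v z → Z u v z' → z = z' := by
    intro u v z z' ⟨h1, h2⟩ ⟨h3, h4⟩
    have := I _ h2 _ h4 (fun m => by rw [S.add_left _ z, S.add_left _ z', h1, h3])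
    exact add_left_cancel this
  have Zsymm : ∀ u v z, Z u v z → Z v u z := by
    intro u v z ⟨h1, h2⟩
    refine ⟨h1, ?_⟩
    rwa [add_comm v u]
  have Zrf : ∀ w ∈ TT, ∀ u v z, Z u v z → Z (rf B w u) (rf B w v) z := by
    intro w hw u v z ⟨h1, h2⟩
    refine ⟨h1, ?_⟩
    have := S.rf_mem hw h2
    rwa [S.rf_add, S.rf_add, S.rf_rad h1] at this
  -- constant for fixed `v`
  have adj : ∀ v ∈ TT, ∀ u ∈ TT, ∀ u' ∈ TT, B v u = 0 → B v u' = 0 → B u u' = 1 → ∀ z, Z v u z → Z v u' z := by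
    intro v hv u hu u' hu' h1 h2 h3 z hz
    have hw : u + u' ∈ TT := S.refl u hu u' hu' h3
    have := Zrf _ hw _ _ _ hz
    rw [rf_zero (by rw [S.add_right, h1, h2, add_zero]),
      rf_one (by rw [S.add_right, S.alt, h3, zero_add]), S.add_cancel] at this
    exact this
  have fixv : ∀ v ∈ TT, ∀ u ∈ TT, ∀ u' ∈ TT, B v u = 0 → B v u' = 0 → u ≠ v → u' ≠ v →
      ∀ z, Z v u z → Z v u' z := by
    intro v hv u hu u' hu' h1 h2 h3 h4 z hz
    obtain ⟨w, hw, w1, w2, w3⟩ := S.common_perp I C hp hv hu hu' h3 h4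
    have := adj v hv u hu w hw h1 w1 (by rw [S.symm]; exact w2) z hz
    exact adj v hv w hw u' hu' w1 h2 w3 z this
  obtain ⟨r, hr⟩ := Zex u0 hu0 v0 hv0 hp0.2.1 hp0.1
  -- every vertex
  have all1 : ∀ v ∈ TT, ∃ u ∈ TT, B v u = 0 ∧ u ≠ v := by
    intro v hv
    obtain ⟨m, hm, h1, h2, -⟩ := S.planar_all C hu0 hv0 hp0 hv
    exact ⟨m, hm, h1, h2.symm⟩
  let D : Set M := {v | v ∈ TT ∧ ∀ u ∈ TT, B v u = 0 → u ≠ v → Z v u r}
  have hD : TT ⊆ D := by
    refine C D (fun v hv => hv.1) ⟨u0, hu0, fun u hu h1 h2 => ?_⟩ ?_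
    · exact fixv u0 hu0 v0 hv0 u hu hp0.1 h1 hp0.2.1.symm h2 r hr
    · rintro v ⟨hv, hvZ⟩ u hu hvu
      refine ⟨hu, fun u' hu' h1 h2 => ?_⟩
      -- common perpendicular vector of `u`, `v`
      obtain ⟨c, hc, hc1, hc2⟩ := all1 v hv
      obtain ⟨w, hw, w1, w2, w3⟩ : ∃ w ∈ TT, B v w = 0 ∧ B u w = 0 ∧ w ≠ v := by
        rcases z2 (B u c) with h | h
        · exact ⟨c, hc, hc1, h, hc2⟩
        · obtain ⟨w, hw, hwe⟩ := S.sum_perp I C hp hv hc hc2 hc1
          refine ⟨w, hw, ?_, ?_, ?_⟩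
          · rw [S.symm, hwe, S.add_left, S.symm c v, hc1, S.alt, add_zero]
          · rw [S.symm, hwe, S.add_left, S.symm c u, h, hvu, z2_add]
          · rintro rfl
            obtain ⟨m, hm⟩ := S.nd c hc
            have := hwe m
            rw [S.add_left, hm] at this
            revert this
            generalize B w m = a
            revert a; decide
      have w4 : w ≠ u := by
        rintro rfl
        rw [hvu] at w1
        exact one_ne_zero w1
      have z1 := hvZ w hw w1 w3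
      have z2' : Z w v r := Zsymm _ _ _ z1
      -- from `v` to `u` at `w`
      have hvw : v ≠ w := w3.symm
      have z3 := fixv w hw v hv u hu (by rw [S.symm]; exact w1) (by rw [S.symm]; exact w2) hvw w4.symm r z2'
      exact fixv u hu w hw u' hu' w2 h1 w4 h2 r (Zsymm _ _ _ z3)
  have perp : ∀ u ∈ TT, ∀ v ∈ TT, u ≠ v → B u v = 0 → u + v + r ∈ TT := fun u hu v hv hne huv =>
    ((hD hu).2 v hv huv hne.symm).2
  have cases : ∀ m, m = 0 ∨ m = r ∨ m ∈ TT ∨ m + r ∈ TT := by
    intro m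
    have hm : m ∈ AddSubgroup.closure TT := by rw [S.span]; exact AddSubgroup.mem_top m
    -- the set is closed under addition
    have key : ∀ a b, a ∈ TT → b ∈ TT → a + b = 0 ∨ a + b ∈ TT ∨ a + b + r ∈ TT := by
      intro a b ha hb
      by_cases he : a = b
      · left; rw [he, S.two]
      · rcases z2 (B a b) with h | h
        · exact Or.inr (Or.inr (perp a ha b hb he h))
        · exact Or.inr (Or.inl (S.refl a ha b hb h))
    induction hm using AddSubgroup.closure_induction with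
    | mem x hx => exact Or.inr (Or.inr (Or.inl hx))
    | zero => exact Or.inl rfl
    | add a b _ _ ha hb =>
      have rr := S.two r
      rcases ha with rfl | rfl | ha | ha
      · rwa [zero_add]
      · rcases hb with rfl | rfl | hb | hb
        · rw [add_zero]; exact Or.inr (Or.inl rfl)
        · left; exact rr
        · right; right; right
          have : a + b + a = b + (a + a) := by abel
          rwa [this, rr, add_zero]
        · right; right; left
          rwa [add_comm a b]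
      · rcases hb with rfl | rfl | hb | hb
        · rw [add_zero]; exact Or.inr (Or.inr (Or.inl ha))
        · right; right; right
          rwa [S.add_cancel']
        · rcases key a b ha hb with h | h | h
          · exact Or.inl h
          · exact Or.inr (Or.inr (Or.inl h))
          · exact Or.inr (Or.inr (Or.inr h))
        · rcases key a _ ha hb with h | h | h
          · right; left
            have : a + b = r := by
              have e : a + b + r = 0 := by rw [← h]; abel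
              exact S.eq_of_add e
            exact this
          · right; right; right
            rwa [← add_assoc] at h
          · right; right; left
            have e : a + (b + r) + r = a + b := by rw [← add_assoc, S.add_cancel']
            rwa [e] at h
      · rcases hb with rfl | rfl | hb | hb
        · rw [add_zero]; exact Or.inr (Or.inr (Or.inr ha))
        · right; right; left; exact ha
        · rcases key _ b ha hb with h | h | h
          · right; left
            have e : a + b + r = 0 := by rw [← h]; abel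
            exact S.eq_of_add e
          · right; right; right
            have e : a + r + b = a + b + r := by abel
            rwa [e] at h
          · right; right; left
            have e : a + r + b + r = a + b + (r + r) := by abel
            rwa [e, rr, add_zero] at h
        · have e0 : a + r + (b + r) = a + b := by
            have : a + r + (b + r) = a + b + (r + r) := by abel
            rw [this, rr, add_zero]
          rcases key _ _ ha hb with h | h | h
          · left; rwa [e0] at h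
          · right; right; left; rwa [e0] at h
          · right; right; right; rwa [e0] at h
    | neg a _ ha => rwa [S.neg_eq]
  refine ⟨r, hr.1, fun m hm => ?_, perp, cases⟩
  rcases cases m with h | h | h | h
  · exact Or.inl h
  · exact Or.inr h
  · exfalso
    obtain ⟨x, hx⟩ := S.nd m h
    rw [hm] at hx
    exact zero_ne_one hx
  · exfalso
    obtain ⟨x, hx⟩ := S.nd _ h
    rw [S.add_left, hm, hr.1, add_zero] at hx
    exact zero_ne_one hx

end Cfsg.Agent.Omega.NO3S.TV.Sys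

end

section


/-!
# NO-3S, `q = 2`, `n = 1`, transvection types (helper311's text #16747), section 2: `W_x ∩ W_y = V` in the full family

* `exists_rot` (F2): `u ∈ I - V`: some `n ∈ N_G(V)` centralizes `u` and moves `x` to `y`;
* `jj_eq` : `I = V`, for the full family `cf p = C_G(p)`.
-/

set_option autoImplicit false
set_option linter.unusedSectionVars false

namespace Cfsg.Agent.Omega.NO3S.TV

open Subgroup Cfsg Cfsg.Agent.ZN Cfsg.Agent.MinSimple.Geo Cfsg.Agent.Omega.CaseL
  Cfsg.Agent.Omega.NO3S.Fit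
open Cfsg.Agent.ZN.Block (conj_mem_of_normalizer conj_mem_of_normalizer' le_normalizer_of_forall
  mem_normalizer_of)

universe u

variable {G : Type u} [Group G] [Finite G] {T V : Subgroup G} {z : G} {cf : G → Subgroup G}

/-- the elements of `I` which are centralized by all `Q_p`, `p ∈ V#`, are trivial -/
theorem eq_one_of_qq (h : Fam T V z cf) {u : G} (hu : u ∈ jj V cf)
    (hc : ∀ p ∈ V, p ≠ 1 → ∀ k ∈ qq V cf p, k * u = u * k) : u = 1 := by
  have hz := h.ln.z_mem
  have hz1 := h.ln.z_ne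
  let F : Subgroup G :=
    { carrier := {f | f ∈ jj V cf ∧ ∀ p ∈ V, p ≠ 1 → ∀ k ∈ qq V cf p, k * f = f * k}
      mul_mem' := by
        rintro a b ⟨ha, ha1⟩ ⟨hb, hb1⟩
        exact ⟨mul_mem ha hb, fun p hp hp1 k hk => comm_mul_of (ha1 p hp hp1 k hk) (hb1 p hp hp1 k hk)⟩
      one_mem' := ⟨one_mem _, fun p _ _ k _ => by simp⟩
      inv_mem' := by
        rintro a ⟨ha, ha1⟩
        exact ⟨inv_mem ha, fun p hp hp1 k hk => comm_inv_of (ha1 p hp hp1 k hk)⟩ }
  have hFn : normalizer (V : Set G) ≤ normalizer (F : Set G) := by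
    refine le_normalizer_of_forall fun g hg f hf => ?_
    refine ⟨conj_mem_of_normalizer h.normalizer_le_normalizer_jj hg hf.1, fun p hp hp1 k hk => ?_⟩
    have h1 := h.conj_qq (inv_mem hg) hp hp1 hk
    rw [inv_inv] at h1
    have h2 := hf.2 _ (h.conj_pt' hg hp) (Fam.conj_ne' hp1) _ h1
    calc k * (g * f * g⁻¹) = g * (g⁻¹ * k * g * f) * g⁻¹ := by group
      _ = g * (f * (g⁻¹ * k * g)) * g⁻¹ := by rw [h2]
      _ = g * f * g⁻¹ * k := by group
  have hFV : F ≤ normalizer (V : Set G) := fun f hf => centralizer_le_normalizer _ (h.jj_le_cent hf.1)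
  by_contra hu1
  have hne : F ≠ ⊥ := by
    intro e
    have : u ∈ F := ⟨hu, hc⟩
    rw [e, mem_bot] at this
    exact hu1 this
  have hzF : z ∈ F := h.ln.z_mem_of_normal hFV hFn hne
  obtain ⟨y, hy, hy1, hyz⟩ := h.ln.exists_y
  obtain ⟨k, hk, hk1⟩ := h.exists_mover hy hy1
  have h1 := h.move hy hy1 hz hz1 (Ne.symm hyz) hk hk1
  have h2 := conj_eq_of_comm (hzF.2 y hy hy1 k hk)
  rw [h1] at h2
  exact hy1 (by simpa using h2)

/-- **(F2)** : for `u ∈ I - V` some `n ∈ N_G(V)` centralizes `u` and moves `x` to `y` -/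
theorem exists_rot (h : Fam T V z cf) {u : G} (hu : u ∈ jj V cf) (huV : u ∉ V) {x y : G} (hx : x ∈ V)
    (hx1 : x ≠ 1) (hy : y ∈ V) (hy1 : y ≠ 1) (hyx : y ≠ x) :
    ∃ n ∈ normalizer (V : Set G), n * u * n⁻¹ = u ∧ n * x * n⁻¹ = y := by
  by_contra hcon
  push Not at hcon
  have sq := h.ln.sq
  obtain ⟨s, hs⟩ : ∃ s, s = x * y := ⟨_, rfl⟩
  have hsV : s ∈ V := by rw [hs]; exact mul_mem hx hy
  have hxy : x * y = y * x := h.ln.comm hx hy
  have hs1 : s ≠ 1 := by rw [hs]; exact h.mul_ne_one hy (Ne.symm hyx)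
  have hxs : x ≠ s := fun e => hy1 (by rw [hs] at e; simpa using e.symm)
  have hys : y ≠ s := fun e => hx1 (by rw [hs] at e; simpa using e.symm)
  have hxys : x * s = y := by rw [hs, ← mul_assoc, sq x hx, one_mul]
  have hsx : s * x = y := by rw [h.ln.comm hsV hx, hxys]
  have hyxs : y * x = s := by rw [hs, hxy]
  have hys' : y * s = x := by rw [← hyxs, ← mul_assoc, sq y hy, one_mul]
  have hsy : s * y = x := by rw [h.ln.comm hsV hy, hys']
  have huc : ∀ v ∈ V, v * u = u * v := fun v hv => h.V_comm hv (h.jj_le_cent hu)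
  -- action of `Q_p` on `u`
  have hqc : ∀ p ∈ V, p ≠ 1 → ∀ k ∈ qq V cf p, k * u * k⁻¹ = u ∨ k * u * k⁻¹ = p * u :=
    fun p hp hp1 k hk => h.qq_cases hp hk (Fam.jj_le hp hp1 hu)
  have hpfix : ∀ {p k : G}, k ∈ qq V cf p → k * p * k⁻¹ = p := fun hk => conj_eq_of_comm (h.qq_p hk)
  have hcfix : ∀ {v c : G}, v ∈ V → c ∈ centralizer (V : Set G) → c * v * c⁻¹ = v :=
    fun hv hc => conj_eq_of_comm (h.V_comm hv hc).symm
  have hmul : ∀ a b k : G, k * (a * b) * k⁻¹ = (k * a * k⁻¹) * (k * b * k⁻¹) := fun a b k => by group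
  obtain ⟨qx, hqx, hqx1⟩ := h.exists_mover hx hx1
  obtain ⟨qy, hqy, hqy1⟩ := h.exists_mover hy hy1
  obtain ⟨qs, hqs, hqs1⟩ := h.exists_mover hsV hs1
  have exy : qx * y * qx⁻¹ = s := by rw [h.move hx hx1 hy hy1 hyx hqx hqx1, hs]
  have exs : qx * s * qx⁻¹ = y := by rw [h.move hx hx1 hsV hs1 (Ne.symm hxs) hqx hqx1, hxys]
  have exx : qx * x * qx⁻¹ = x := hpfix hqx
  have eyx : qy * x * qy⁻¹ = s := by rw [h.move hy hy1 hx hx1 (Ne.symm hyx) hqy hqy1, hyxs]
  have eys : qy * s * qy⁻¹ = x := by rw [h.move hy hy1 hsV hs1 (Ne.symm hys) hqy hqy1, hys']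
  have eyy : qy * y * qy⁻¹ = y := hpfix hqy
  have esx : qs * x * qs⁻¹ = y := by rw [h.move hsV hs1 hx hx1 hxs hqs hqs1, hsx]
  have esy : qs * y * qs⁻¹ = x := by rw [h.move hsV hs1 hy hy1 hys hqs hqs1, hsy]
  have ess : qs * s * qs⁻¹ = s := hpfix hqs
  have nx := h.qq_le_normalizer hx hqx
  have ny := h.qq_le_normalizer hy hqy
  have ns := h.qq_le_normalizer hsV hqs
  -- `q_s` moves `u`
  have hsu : qs * u * qs⁻¹ = s * u := by
    rcases hqc s hsV hs1 qs hqs with e | e
    · exact absurd esx (hcon qs ns e)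
    · exact e
  -- claim A
  have hA : ∀ c ∈ centralizer (V : Set G), c * u * c⁻¹ ≠ s * u := by
    intro c hc e
    refine hcon (c * qs) (mul_mem (centralizer_le_normalizer _ hc) ns) ?_ ?_
    · calc c * qs * u * (c * qs)⁻¹ = c * (qs * u * qs⁻¹) * c⁻¹ := by group
        _ = (c * s * c⁻¹) * (c * u * c⁻¹) := by rw [hsu]; group
        _ = s * s * u := by rw [hcfix hsV hc, e]; group
        _ = u := by rw [sq s hsV, one_mul]
    · calc c * qs * x * (c * qs)⁻¹ = c * (qs * x * qs⁻¹) * c⁻¹ := by group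
        _ = y := by rw [esx, hcfix hy hc]
  -- conjugation of translations
  have hT : ∀ r ∈ V, r ≠ 1 → ∀ k ∈ qq V cf r, ∀ p ∈ V, ∀ c ∈ centralizer (V : Set G), c * u * c⁻¹ = p * u →
      (k * c * k⁻¹) * u * (k * c * k⁻¹)⁻¹ = (k * p * k⁻¹) * u := by
    intro r hr hr1 k hk p hp c hc e
    have hk' := inv_mem hk
    rcases hqc r hr hr1 _ hk' with e1 | e1
    · rw [inv_inv] at e1
      have e2 : k * u * k⁻¹ = u := by
        calc k * u * k⁻¹ = k * (k⁻¹ * u * k) * k⁻¹ := by rw [e1]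
          _ = u := by group
      calc (k * c * k⁻¹) * u * (k * c * k⁻¹)⁻¹ = k * (c * (k⁻¹ * u * k) * c⁻¹) * k⁻¹ := by group
        _ = (k * p * k⁻¹) * (k * u * k⁻¹) := by rw [e1, e]; group
        _ = (k * p * k⁻¹) * u := by rw [e2]
    · rw [inv_inv] at e1
      have e2 : k * (r * u) * k⁻¹ = u := by rw [← e1]; group
      calc (k * c * k⁻¹) * u * (k * c * k⁻¹)⁻¹ = k * (c * (k⁻¹ * u * k) * c⁻¹) * k⁻¹ := by group
        _ = k * ((c * r * c⁻¹) * (c * u * c⁻¹)) * k⁻¹ := by rw [e1]; group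
        _ = k * (r * p * u) * k⁻¹ := by rw [hcfix hr hc, e]; group
        _ = k * (p * (r * u)) * k⁻¹ := by rw [h.ln.comm hr hp]; group
        _ = (k * p * k⁻¹) * (k * (r * u) * k⁻¹) := by group
        _ = (k * p * k⁻¹) * u := by rw [e2]
  have hnc : ∀ {g c : G}, g ∈ normalizer (V : Set G) → c ∈ centralizer (V : Set G) →
      g * c * g⁻¹ ∈ centralizer (V : Set G) := fun hg hc =>
    conj_mem_of_normalizer (normalizer_le_normalizer_centralizer V) hg hc
  -- claim B
  have hB : ∀ p ∈ V, p ≠ 1 → ∀ c ∈ centralizer (V : Set G), c * u * c⁻¹ ≠ p * u := by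
    intro p hp hp1 c hc e
    rcases h.ln.four hx hy hx1 hy1 (Ne.symm hyx) hp with e1 | e1 | e1 | e1
    · exact hp1 e1
    · have := hT y hy hy1 qy hqy p hp c hc e
      rw [e1, eyx] at this
      exact hA _ (hnc ny hc) this
    · have := hT x hx hx1 qx hqx p hp c hc e
      rw [e1, exy] at this
      exact hA _ (hnc nx hc) this
    · rw [← hs] at e1
      rw [e1] at e
      exact hA c hc e
  have hfixC : ∀ p ∈ V, p ≠ 1 → ∀ k ∈ qq V cf p, k ∈ centralizer (V : Set G) → k * u * k⁻¹ = u := by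
    intro p hp hp1 k hk hkV
    rcases hqc p hp hp1 k hk with e | e
    · exact e
    · exact absurd e (hB p hp hp1 k hkV)
  -- a fixed point
  have hend : ∀ u0 ∈ jj V cf, u0 ≠ 1 → (∀ k ∈ centralizer (V : Set G), k * u * k⁻¹ = u → k * u0 * k⁻¹ = u0) →
      qx * u0 * qx⁻¹ = u0 → qy * u0 * qy⁻¹ = u0 → qs * u0 * qs⁻¹ = u0 → False := by
    intro u0 hu0 hu01 hk0 h1 h2 h3
    refine hu01 (eq_one_of_qq h hu0 ?_)
    have key : ∀ p ∈ V, p ≠ 1 → ∀ m ∈ qq V cf p, m ∉ centralizer (V : Set G) → m * u0 * m⁻¹ = u0 →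
        ∀ k ∈ qq V cf p, k * u0 = u0 * k := by
      intro p hp hp1 m hm hm1 hm0 k hk
      by_cases hkV : k ∈ centralizer (V : Set G)
      · exact comm_of_conj_eq (hk0 k hkV (hfixC p hp hp1 k hk hkV))
      · have h4 := h.coset_of hp hp1 (h.qq_le_normalizer hp hm) (h.qq_p hm) hm1
          (h.qq_le_normalizer hp hk) (h.qq_p hk) hkV
        have h5 := comm_of_conj_eq (hk0 _ h4 (hfixC p hp hp1 _ (mul_mem hk (inv_mem hm)) h4))
        have h6 := mul_comm_of h5 (comm_of_conj_eq hm0)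
        simpa using h6
    intro p hp hp1 k hk
    rcases h.ln.four hx hy hx1 hy1 (Ne.symm hyx) hp with e1 | e1 | e1 | e1
    · exact absurd e1 hp1
    · rw [e1] at hk; exact key x hx hx1 qx hqx hqx1 h1 k hk
    · rw [e1] at hk; exact key y hy hy1 qy hqy hqy1 h2 k hk
    · rw [e1, ← hs] at hk; exact key s hsV hs1 qs hqs hqs1 h3 k hk
  have hunV : ∀ v ∈ V, u * v ≠ 1 := fun v hv e => huV (by
    rw [mul_eq_one_iff_eq_inv.mp e]; exact inv_mem hv)
  have hend' : ∀ v ∈ V, qx * (u * v) * qx⁻¹ = u * v → qy * (u * v) * qy⁻¹ = u * v →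
      qs * (u * v) * qs⁻¹ = u * v → False := by
    intro v hv
    refine hend (u * v) (mul_mem hu (h.V_le_jj hv)) (hunV v hv) fun k hkV e => ?_
    rw [hmul, e, hcfix hv hkV]
  rcases hqc x hx hx1 qx hqx with e1 | e1 <;> rcases hqc y hy hy1 qy hqy with e2 | e2
  · refine hcon (qx * qy) (mul_mem nx ny) ?_ ?_
    · calc qx * qy * u * (qx * qy)⁻¹ = qx * (qy * u * qy⁻¹) * qx⁻¹ := by group
        _ = u := by rw [e2, e1]
    · calc qx * qy * x * (qx * qy)⁻¹ = qx * (qy * x * qy⁻¹) * qx⁻¹ := by group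
        _ = y := by rw [eyx, exs]
  · refine hend' x hx ?_ ?_ ?_
    · rw [hmul, e1, exx]
    · rw [hmul, e2, eyx, huc y hy, mul_assoc, hys']
    · rw [hmul, hsu, esx, huc s hsV, mul_assoc, hsy]
  · refine hend' y hy ?_ ?_ ?_
    · rw [hmul, e1, exy, huc x hx, mul_assoc, hxys]
    · rw [hmul, e2, eyy]
    · rw [hmul, hsu, esy, huc s hsV, mul_assoc, hsx]
  · refine hcon (qx * qy * qx⁻¹) (mul_mem (mul_mem nx ny) (inv_mem nx)) ?_ ?_
    · have e3 : qx⁻¹ * u * qx = x * u := by
        have : qx⁻¹ * (x * u) * qx = u := by rw [← e1]; group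
        have e4 : qx⁻¹ * x * qx = x := by
          calc qx⁻¹ * x * qx = qx⁻¹ * (qx * x * qx⁻¹) * qx := by rw [exx]
            _ = x := by group
        have e5 : x * (qx⁻¹ * u * qx) = u := by
          calc x * (qx⁻¹ * u * qx) = (qx⁻¹ * x * qx) * (qx⁻¹ * u * qx) := by rw [e4]
            _ = qx⁻¹ * (x * u) * qx := by group
            _ = u := this
        calc qx⁻¹ * u * qx = (x * x) * (qx⁻¹ * u * qx) := by rw [sq x hx, one_mul]
          _ = x * (x * (qx⁻¹ * u * qx)) := by group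
          _ = x * u := by rw [e5]
      calc qx * qy * qx⁻¹ * u * (qx * qy * qx⁻¹)⁻¹ = qx * (qy * (qx⁻¹ * u * qx) * qy⁻¹) * qx⁻¹ := by group
        _ = qx * ((qy * x * qy⁻¹) * (qy * u * qy⁻¹)) * qx⁻¹ := by rw [e3, hmul x u qy]
        _ = qx * (s * y * u) * qx⁻¹ := by rw [eyx, e2]; group
        _ = (qx * x * qx⁻¹) * (qx * u * qx⁻¹) := by rw [hsy, hmul]
        _ = x * x * u := by rw [exx, e1]; group
        _ = u := by rw [sq x hx, one_mul]
    · have e4 : qx⁻¹ * x * qx = x := by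
        calc qx⁻¹ * x * qx = qx⁻¹ * (qx * x * qx⁻¹) * qx := by rw [exx]
          _ = x := by group
      calc qx * qy * qx⁻¹ * x * (qx * qy * qx⁻¹)⁻¹ = qx * (qy * (qx⁻¹ * x * qx) * qy⁻¹) * qx⁻¹ := by group
        _ = y := by rw [e4, eyx, exs]

/-- `[W_p, W_q] ≤ ⟨p q⟩` for the points `p ≠ q` of `V` (a consequence of (1.2)) -/
def CommTwo (V : Subgroup G) (cf : G → Subgroup G) : Prop :=
  ∀ p ∈ V, p ≠ 1 → ∀ q ∈ V, q ≠ 1 → q ≠ p → ∀ a ∈ ww V cf p, ∀ b ∈ ww V cf q,
    a * b * a⁻¹ * b⁻¹ = 1 ∨ a * b * a⁻¹ * b⁻¹ = p * q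

section two

variable {M H : Type u} [AddCommGroup M] [Finite M] [Group H] [Finite H] [DistribMulAction H M] {B : M → M → ZMod 2} {y : G}

/-- **(2.1)** : no `μ ≠ v0` of `TT` lies in the image of `I` (full family) -/
theorem eq_v0_of_mem (h : Fam T V z cf) (full : ∀ p ∈ V, p ≠ 1 → centralizer ({p} : Set G) ≤ cf p)
    (R : MRep V cf z M H) (hy : y ∈ V) (hy1 : y ≠ 1) (hyz : y ≠ z) (hcomm : CommTwo V cf)
    (S : Sys (Set.range fun x : H => x • R.pi y) B) (I : Inj (Set.range fun x : H => x • R.pi y) B)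
    (A : Act (Set.range fun x : H => x • R.pi y) B H)
    (hB : ∀ w ∈ ww V cf z, (∀ b ∈ ww V cf y, w * b = b * w) → B (R.pi w) (R.pi y) = 0)
    {t : G} (ht : t ∈ jj V cf) (htT : R.pi t ∈ Set.range fun x : H => x • R.pi y) : R.pi t = R.pi y := by
  have hz := h.ln.z_mem
  have hz1 := h.ln.z_ne
  have hyW : y ∈ ww V cf z := h.V_le hy
  by_contra hne
  have hyT : R.pi y ∈ Set.range fun x : H => x • R.pi y := ⟨1, one_smul _ _⟩
  have htW := Fam.jj_le hz hz1 ht
  have htV : t ∉ V := by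
    intro htV
    rcases h.ln.four hz hy hz1 hy1 (Ne.symm hyz) htV with e | e | e | e
    · rw [e, R.pi_one h] at htT
      exact S.ne_zero htT rfl
    · rw [e, R.pi_z h] at htT
      exact S.ne_zero htT rfl
    · exact hne (by rw [e])
    · exact hne (by rw [e, R.pi_mul z h.z_mem_ww y hyW, R.pi_z h, zero_add])
  -- `t = c y c⁻¹` or `t = c (z y) c⁻¹`: in any case `t = c y' c⁻¹`
  obtain ⟨x, hx⟩ := htT
  obtain ⟨c, hc, rfl⟩ := R.phi_surj x
  have hcz := h.cf_comm hz hz1 hc
  have hcz' : c * z * c⁻¹ = z := conj_eq_of_comm hcz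
  have hx' : R.pi (c * y * c⁻¹) = R.pi t := by rw [← R.act c hc y hyW]; exact hx
  obtain ⟨y', hy'V, hy'1, hy'z, ht'⟩ : ∃ y' ∈ V, y' ≠ 1 ∧ y' ≠ z ∧ t = c * y' * c⁻¹ := by
    rcases (R.pi_eq h (conj_mem_wf hc hyW) htW).mp hx' with e | e
    · exact ⟨y, hy, hy1, hyz, e.symm⟩
    · refine ⟨z * y, mul_mem hz hy, h.mul_ne_one hy (Ne.symm hyz), fun e' => hy1 (by simpa using e'), ?_⟩
      calc t = (z * z) * t := by rw [h.ln.zz, one_mul]
        _ = z * (z * t) := by group
        _ = (c * z * c⁻¹) * (c * y * c⁻¹) := by rw [← e, hcz']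
        _ = c * (z * y) * c⁻¹ := by group
  have hpiy' : R.pi y' = R.pi y := by
    rw [R.pi_eq h (h.V_le hy'V) hyW]
    rcases h.ln.four hz hy hz1 hy1 (Ne.symm hyz) hy'V with e | e | e | e
    · exact absurd e hy'1
    · exact absurd e hy'z
    · exact Or.inl e
    · exact Or.inr e
  -- (F2) at `y`
  obtain ⟨n, hn, hnt, hnz⟩ := exists_rot h ht htV hz hz1 hy hy1 hyz
  -- `c'' := n c n⁻¹ ∈ C_y`, `y'' := n y' n⁻¹ ∈ V`
  have hc'' : n * c * n⁻¹ ∈ cf y := by
    rw [← hnz, ← h.cj_cf n hn z hz hz1]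
    exact conj_mem_cj hc
  have ht'' : t = (n * c * n⁻¹) * (n * y' * n⁻¹) * (n * c * n⁻¹)⁻¹ := by
    calc t = n * t * n⁻¹ := hnt.symm
      _ = n * (c * y' * c⁻¹) * n⁻¹ := by rw [ht']
      _ = (n * c * n⁻¹) * (n * y' * n⁻¹) * (n * c * n⁻¹)⁻¹ := by group
  obtain ⟨c2, hc2⟩ : ∃ c2, c2 = n * c * n⁻¹ := ⟨_, rfl⟩
  obtain ⟨y2, hy2⟩ : ∃ y2, y2 = n * y' * n⁻¹ := ⟨_, rfl⟩
  rw [← hc2] at hc''
  rw [← hc2, ← hy2] at ht''
  have hy2V : y2 ∈ V := by rw [hy2]; exact h.conj_pt hn hy'V
  have hy21 : y2 ≠ 1 := by rw [hy2]; exact Fam.conj_ne hy'1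
  have hy2y : y2 ≠ y := by
    rw [hy2, ← hnz]
    intro e
    exact hy'z (by simpa using e)
  -- `W_t` is the same from both sides
  have hW : cj c (ww V cf y') = cj c2 (ww V cf y2) := by
    obtain ⟨g, hg, hgy⟩ := h.ln.trans y' hy'V hy'1
    obtain ⟨g2, hg2, hgy2⟩ := h.ln.trans y2 hy2V hy21
    have e1 : ww V cf y' = cj g (ww V cf z) := by rw [h.cj_ww hg hz hz1, hgy]
    have e2 : ww V cf y2 = cj g2 (ww V cf z) := by rw [h.cj_ww hg2 hz hz1, hgy2]
    rw [e1, e2, cj_cj, cj_cj]
    have h1 : (c * g)⁻¹ * (c2 * g2) ∈ centralizer ({z} : Set G) := by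
      rw [mem_centralizer_singleton_iff]
      have e3 : c * g * z * (c * g)⁻¹ = t := by
        rw [ht', ← hgy]; group
      have e4 : c2 * g2 * z * (c2 * g2)⁻¹ = t := by
        rw [ht'', ← hgy2]; group
      calc (c * g)⁻¹ * (c2 * g2) * z = (c * g)⁻¹ * (c2 * g2 * z * (c2 * g2)⁻¹) * (c2 * g2) := by group
        _ = (c * g)⁻¹ * (c * g * z * (c * g)⁻¹) * (c2 * g2) := by rw [e3, e4]
        _ = z * ((c * g)⁻¹ * (c2 * g2)) := by group
    have h2 : cj ((c * g)⁻¹ * (c2 * g2)) (ww V cf z) = ww V cf z :=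
      cj_eq_of_mem_normalizer (h.cf_norm (full z hz hz1 h1))
    have h3 : cj (c2 * g2) (ww V cf z) = cj (c * g) (cj ((c * g)⁻¹ * (c2 * g2)) (ww V cf z)) := by
      rw [cj_cj, mul_inv_cancel_left]
    rw [h3, h2]
  -- T3 : `W_z ∩ W_t ≤ C(W_y)`
  have hT3 : ∀ e ∈ ww V cf z, e ∈ cj c (ww V cf y') → ∀ b ∈ ww V cf y, e * b = b * e := by
    intro e he he' b hb
    rw [hW, mem_cj] at he'
    have hb' : c2⁻¹ * b * c2 ∈ ww V cf y := by
      have := conj_mem_wf (inv_mem hc'') hb
      rwa [inv_inv] at this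
    have hc2y : c2 * y * c2⁻¹ = y := conj_eq_of_comm (h.cf_comm hy hy1 hc'')
    rcases hcomm y2 hy2V hy21 y hy hy1 (Ne.symm hy2y) _ he' _ hb' with e1 | e1
    · have e2 : e * b * e⁻¹ * b⁻¹ = 1 := by
        calc e * b * e⁻¹ * b⁻¹ = c2 * ((c2⁻¹ * e * c2) * (c2⁻¹ * b * c2) * (c2⁻¹ * e * c2)⁻¹ *
              (c2⁻¹ * b * c2)⁻¹) * c2⁻¹ := by group
          _ = 1 := by rw [e1]; group
      exact comm_of_conj_eq (mul_inv_eq_one.mp e2)
    · have e2 : e * b * e⁻¹ * b⁻¹ = t * y := by
        calc e * b * e⁻¹ * b⁻¹ = c2 * ((c2⁻¹ * e * c2) * (c2⁻¹ * b * c2) * (c2⁻¹ * e * c2)⁻¹ *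
              (c2⁻¹ * b * c2)⁻¹) * c2⁻¹ := by group
          _ = (c2 * y2 * c2⁻¹) * (c2 * y * c2⁻¹) := by rw [e1]; group
          _ = t * y := by rw [← ht'', hc2y]
      rcases hcomm z hz hz1 y hy hy1 hyz e he b hb with e3 | e3
      · exact comm_of_conj_eq (mul_inv_eq_one.mp e3)
      · exfalso
        rw [e3] at e2
        exact htV (by rw [← mul_right_cancel e2]; exact hz)
  -- (1.4)
  obtain ⟨u', hu', hu1, hu2⟩ := S.exists_nonperp I (v := R.pi t) (μ := R.pi y) ⟨_, hx⟩ hyT
    (fun e => hne e.symm)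
  obtain ⟨a, ha⟩ := A.tv u' hu'
  have ha1 : a • R.pi t = R.pi t := (ha _).1 hu1
  have ha2 : a • R.pi y = R.pi y + u' := (ha _).2 (by rw [S.symm]; exact hu2)
  -- `a' := phi c⁻¹ a phi c` fixes `v0`
  have hx2 : R.phi c • R.pi y = R.pi t := hx
  have ha' : ((R.phi c)⁻¹ * a * R.phi c) • R.pi y = R.pi y := by
    rw [mul_smul, mul_smul, hx2, ha1, ← hx2, inv_smul_smul]
  obtain ⟨d, hd, hda⟩ := R.stab h hy hy1 hyz ha'
  -- `i := c⁻¹ y c ∈ I`
  have hi : c⁻¹ * y * c ∈ jj V cf := by
    refine h.mem_jj hz hz1 hy'V hy'1 hy'z ?_ ?_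
    · have := conj_mem_wf (inv_mem hc) hyW
      rwa [inv_inv] at this
    · have h1 : y ∈ cj c2 (ww V cf y2) := by
        rw [mem_cj]
        have hc2y : c2⁻¹ * y * c2 = y := by
          have := conj_eq_of_comm (h.cf_comm hy hy1 (inv_mem hc''))
          rwa [inv_inv] at this
        rw [hc2y]
        exact h.V_le hy
      rw [← hW, mem_cj] at h1
      exact h1
  have hdi : d * (c⁻¹ * y * c) * d⁻¹ ∈ jj V cf :=
    conj_mem_of_normalizer h.normalizer_le_normalizer_jj (centralizer_le_normalizer _ hd) hi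
  have hdc := h.cent_le_cf hz hz1 hd
  obtain ⟨e, he⟩ : ∃ e, e = c * (d * (c⁻¹ * y * c) * d⁻¹) * c⁻¹ := ⟨_, rfl⟩
  have heW : e ∈ ww V cf z := by
    rw [he]; exact conj_mem_wf hc (Fam.jj_le hz hz1 hdi)
  have heW' : e ∈ cj c (ww V cf y') := by
    rw [he]; exact conj_mem_cj (Fam.jj_le hy'V hy'1 hdi)
  have hyW' : y ∈ cj c (ww V cf y') := by
    rw [mem_cj]; exact Fam.jj_le hy'V hy'1 hi
  have hpie : R.pi e = R.pi y + u' := by
    have e1 : c⁻¹ * y * c = c⁻¹ * y * c⁻¹⁻¹ := by rw [inv_inv]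
    rw [he, ← R.act c hc _ (Fam.jj_le hz hz1 hdi), ← R.act d hdc _ (Fam.jj_le hz hz1 hi), e1,
      ← R.act _ (inv_mem hc) y hyW, hda, R.phi_inv hc, mul_smul, mul_smul, smul_inv_smul, smul_inv_smul, ha2]
  have h1 := hB (e * y) (mul_mem heW hyW) (hT3 _ (mul_mem heW hyW) (mul_mem heW' hyW'))
  rw [R.pi_mul e heW y hyW, hpie, S.add_left, S.add_left, S.alt, zero_add, add_zero, hu2] at h1
  exact one_ne_zero h1

/-- **(2.2)** : `I = V` (full family) -/
theorem jj_le_V (h : Fam T V z cf) (full : ∀ p ∈ V, p ≠ 1 → centralizer ({p} : Set G) ≤ cf p)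
    (R : MRep V cf z M H) (hy : y ∈ V) (hy1 : y ≠ 1) (hyz : y ≠ z) (hcomm : CommTwo V cf)
    (S : Sys (Set.range fun x : H => x • R.pi y) B) (I : Inj (Set.range fun x : H => x • R.pi y) B)
    (A : Act (Set.range fun x : H => x • R.pi y) B H)
    (hB : ∀ w ∈ ww V cf z, (∀ b ∈ ww V cf y, w * b = b * w) → B (R.pi w) (R.pi y) = 0) : jj V cf ≤ V := by
  have hz := h.ln.z_mem
  have hz1 := h.ln.z_ne
  have hyW : y ∈ ww V cf z := h.V_le hy
  have hyT : R.pi y ∈ Set.range fun x : H => x • R.pi y := ⟨1, one_smul _ _⟩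
  -- `(i, v0) = 0`
  have hi0 : ∀ i ∈ jj V cf, B (R.pi i) (R.pi y) = 0 := fun i hi =>
    hB i (Fam.jj_le hz hz1 hi) fun b hb => h.comm hy hy1 i (Fam.jj_le hy hy1 hi) b hb
  -- `(i, u) = 0` for `u ⟂ v0`
  have hi1 : ∀ i ∈ jj V cf, ∀ u ∈ (Set.range fun x : H => x • R.pi y), B (R.pi y) u = 0 →
      B (R.pi i) u = 0 := by
    intro i hi u hu huy
    rcases z2 (B (R.pi i) u) with e | e
    · exact e
    exfalso
    obtain ⟨a, ha⟩ := A.tv u hu
    have ha1 : a • R.pi y = R.pi y := (ha _).1 huy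
    have ha2 : a • R.pi i = R.pi i + u := (ha _).2 e
    obtain ⟨d, hd, rfl⟩ := R.stab h hy hy1 hyz ha1
    have hdc := h.cent_le_cf hz hz1 hd
    have hdi : d * i * d⁻¹ ∈ jj V cf :=
      conj_mem_of_normalizer h.normalizer_le_normalizer_jj (centralizer_le_normalizer _ hd) hi
    have hiW := Fam.jj_le hz hz1 hi
    rw [R.act d hdc i hiW] at ha2
    have h1 : R.pi (d * i * d⁻¹ * i) = u := by
      rw [R.pi_mul _ (Fam.jj_le hz hz1 hdi) _ hiW, ha2, add_comm (R.pi i) u, S.add_cancel']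
    have h2 := eq_v0_of_mem h full R hy hy1 hyz hcomm S I A hB (mul_mem hdi hi) (by rw [h1]; exact hu)
    rw [h1] at h2
    rw [h2, hi0 i hi] at e
    exact zero_ne_one e
  -- the radical part
  have hrad : ∀ i ∈ jj V cf, (∀ m, B (R.pi i) m = 0) → R.pi i = 0 := by
    let N : AddSubgroup M :=
      { carrier := {m | (∃ i ∈ jj V cf, R.pi i = m) ∧ ∀ m', B m m' = 0}
        add_mem' := by
          rintro a b ⟨⟨i, hi, rfl⟩, ha⟩ ⟨⟨j, hj, rfl⟩, hb⟩
          exact ⟨⟨i * j, mul_mem hi hj, R.pi_mul i (Fam.jj_le hz hz1 hi) j (Fam.jj_le hz hz1 hj)⟩,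
            fun m' => by rw [S.add_left, ha, hb, add_zero]⟩
        zero_mem' := ⟨⟨1, one_mem _, R.pi_one h⟩, fun m' => S.zero_left m'⟩
        neg_mem' := by
          rintro a ⟨⟨i, hi, rfl⟩, ha⟩
          rw [S.neg_eq]
          exact ⟨⟨i, hi, rfl⟩, ha⟩ }
    have hN : N = ⊥ := by
      by_contra hN
      obtain ⟨m, hm, hm0, hmT⟩ := Abs.exists_fixed (fun m => R.two h m) (R.img_T_two h) (N := N) (by
        rintro x hx m ⟨⟨i, hi, rfl⟩, hm⟩
        obtain ⟨t, ht, rfl⟩ := (R.mem_img h.T_le_cf).mp hx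
        have hti := conj_mem_of_normalizer h.normalizer_le_normalizer_jj (h.ln.T_norm ht) hi
        refine ⟨⟨t * i * t⁻¹, hti, (R.act t (h.T_le_cf ht) i (Fam.jj_le hz hz1 hi)).symm⟩, fun m' => ?_⟩
        have e : m' = R.phi t • (R.phi t)⁻¹ • m' := (smul_inv_smul _ _).symm
        rw [e, A.form, hm]) hN
      obtain ⟨⟨i, hi, rfl⟩, hm⟩ := hm
      rcases R.fixI h hy hy1 hyz hi hmT with e | e
      · exact hm0 e
      · obtain ⟨m', hm'⟩ := S.nd _ hyT
        rw [← e, hm] at hm'
        exact zero_ne_one hm'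
    intro i hi h1
    have : R.pi i ∈ N := ⟨⟨i, hi, rfl⟩, h1⟩
    rw [hN] at this
    exact this
  intro i hi
  have hiW := Fam.jj_le hz hz1 hi
  rcases S.fun_eq hyT (g := B (R.pi i)) (S.add_right _) (hi1 i hi) with e | e
  · rcases (R.pi_ker i hiW).mp (hrad i hi e) with e1 | e1
    · rw [e1]; exact one_mem _
    · rw [e1]; exact hz
  · have hyj : y ∈ jj V cf := h.V_le_jj hy
    have h1 := hrad (i * y) (mul_mem hi hyj) fun m => by
      rw [R.pi_mul i hiW y hyW, S.add_left, e, z2_add]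
    rcases (R.pi_ker _ (mul_mem hiW hyW)).mp h1 with e1 | e1
    · rw [mul_eq_one_iff_eq_inv.mp e1]; exact inv_mem hy
    · rw [eq_mul_inv_of_mul_eq e1]
      exact mul_mem hz (inv_mem hy)

theorem jj_eq_V (h : Fam T V z cf) (full : ∀ p ∈ V, p ≠ 1 → centralizer ({p} : Set G) ≤ cf p)
    (R : MRep V cf z M H) (hy : y ∈ V) (hy1 : y ≠ 1) (hyz : y ≠ z) (hcomm : CommTwo V cf)
    (S : Sys (Set.range fun x : H => x • R.pi y) B) (I : Inj (Set.range fun x : H => x • R.pi y) B)
    (A : Act (Set.range fun x : H => x • R.pi y) B H)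
    (hB : ∀ w ∈ ww V cf z, (∀ b ∈ ww V cf y, w * b = b * w) → B (R.pi w) (R.pi y) = 0) : jj V cf = V :=
  le_antisymm (jj_le_V h full R hy hy1 hyz hcomm S I A hB) h.V_le_jj

end two

end Cfsg.Agent.Omega.NO3S.TV

end

section


/-!
# Text #16747 (helper311), section 9: THEOREM TV2, module level

`H` faithful on the elementary abelian 2-group `M`, spanned by the orbit of `v0`; `O₂(H) = 1`; `A ≤ Stab(v0)` is normal in
`Stab(v0)`, `[M,A] = ⟨v0⟩` (all elements of `A` are transvections with centre `v0`), `|A| ≥ 4`. Then `M` is the direct sum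
of the conjugates of a subgroup `M1 ∋ v0` with `|M1| = 2 |A|` on which `H` induces `GL(M1)`.
-/

set_option autoImplicit false
set_option linter.unusedSectionVars false

namespace Cfsg.Agent.Omega.NO3S.TV

open Cfsg.Agent.Omega.NO3S.Fit.Abs

variable {H M : Type*} [Group H] [AddCommGroup M] [Module (ZMod 2) M] [DistribMulAction H M]

theorem z2_cases (c : ZMod 2) : c = 0 ∨ c = 1 := by
  revert c; decide

theorem two_of_module (m : M) : m + m = 0 := by
  have h : (2 : ZMod 2) • m = m + m := two_smul _ m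
  rw [← h, show (2 : ZMod 2) = 0 from rfl, zero_smul]

/-- the action of `h` as a linear map -/
def actL (M : Type*) [AddCommGroup M] [Module (ZMod 2) M] [DistribMulAction H M] (h : H) :
    M →ₗ[ZMod 2] M :=
  (DistribSMul.toAddMonoidHom M h).toZModLinearMap 2

@[simp] theorem actL_apply (h : H) (m : M) : actL M h m = h • m := rfl

theorem smul_zsmul (h : H) (c : ZMod 2) (m : M) : h • c • m = c • h • m := by
  rcases z2_cases c with rfl | rfl <;> simp

/-- the setting of TV2 -/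
structure TVA (v0 : M) (A : Subgroup H) : Prop where
  ne : v0 ≠ 0
  span : AddSubgroup.closure (Set.range fun h : H => h • v0) = ⊤
  o2 : ∀ N : Subgroup H, N.Normal → IsPGroup 2 N → N = ⊥
  nor : ∀ h : H, h • v0 = v0 → ∀ a ∈ A, h * a * h⁻¹ ∈ A
  tv : ∀ a ∈ A, ∀ m : M, a • m = m ∨ a • m = m + v0
  fix : ∀ a ∈ A, a • v0 = v0

namespace TVA

variable {v0 : M} {A : Subgroup H}

/-- the functional of a transvection -/
theorem exists_dual (c : TVA v0 A) {a : H} (ha : a ∈ A) :
    ∃ f : Module.Dual (ZMod 2) M, ∀ m, a • m = m + f m • v0 := by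
  classical
  let g : M →+ ZMod 2 :=
    { toFun := fun m => if a • m = m then 0 else 1
      map_zero' := by simp
      map_add' := by
        intro m n
        have h0 := c.ne
        rcases c.tv a ha m with h1 | h1 <;> rcases c.tv a ha n with h2 | h2
        · have h3 : a • (m + n) = m + n := by rw [smul_add, h1, h2]
          simp [h1, h2, h3]
        · have h3 : a • (m + n) = m + n + v0 := by rw [smul_add, h1, h2, add_assoc]
          simp [h1, h2, h3, h0]
        · have h3 : a • (m + n) = m + n + v0 := by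
            rw [smul_add, h1, h2]; abel
          simp [h1, h2, h3, h0]
        · have h3 : a • (m + n) = m + n := by
            rw [smul_add, h1, h2]
            have : m + v0 + (n + v0) = m + n + (v0 + v0) := by abel
            rw [this, two_of_module, add_zero]
          simp only [h3, if_true, h1, h2, add_eq_left, h0, if_false]
          decide }
  refine ⟨g.toZModLinearMap 2, fun m => ?_⟩
  change a • m = m + (if a • m = m then (0 : ZMod 2) else 1) • v0
  rcases c.tv a ha m with h1 | h1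
  · simp [h1]
  · have : a • m ≠ m := by rw [h1]; simpa using c.ne
    rw [if_neg this, one_smul, h1]

/-- the functionals of `A` -/
def F0 (c : TVA v0 A) : Submodule (ZMod 2) (Module.Dual (ZMod 2) M) where
  carrier := {f | ∃ a ∈ A, ∀ m, a • m = m + f m • v0}
  zero_mem' := ⟨1, one_mem A, fun m => by simp⟩
  add_mem' := by
    rintro f g ⟨a, ha, hf⟩ ⟨b, hb, hg⟩
    refine ⟨a * b, mul_mem ha hb, fun m => ?_⟩
    rw [mul_smul, hg, smul_add, hf, smul_zsmul, c.fix a ha, LinearMap.add_apply, add_smul]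
    abel
  smul_mem' := by
    rintro r f ⟨a, ha, hf⟩
    rcases z2_cases r with rfl | rfl
    · refine ⟨1, one_mem A, fun m => by simp⟩
    · exact ⟨a, ha, fun m => by simpa using hf m⟩

theorem mem_F0 {c : TVA v0 A} {f : Module.Dual (ZMod 2) M} :
    f ∈ c.F0 ↔ ∃ a ∈ A, ∀ m, a • m = m + f m • v0 := Iff.rfl

/-- the functionals at `h • v0` -/
def F (c : TVA v0 A) (h : H) : Submodule (ZMod 2) (Module.Dual (ZMod 2) M) where
  carrier := {f | f.comp (actL M h) ∈ c.F0}
  zero_mem' := by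
    change (0 : Module.Dual (ZMod 2) M).comp (actL M h) ∈ c.F0
    rw [LinearMap.zero_comp]
    exact zero_mem _
  add_mem' := by
    intro f g hf hg
    change (f + g).comp (actL M h) ∈ c.F0
    rw [LinearMap.add_comp]
    exact add_mem hf hg
  smul_mem' := by
    intro r f hf
    change (r • f).comp (actL M h) ∈ c.F0
    rw [LinearMap.smul_comp]
    exact Submodule.smul_mem _ _ hf

theorem mem_F' {c : TVA v0 A} {h : H} {f : Module.Dual (ZMod 2) M} :
    f ∈ c.F h ↔ f.comp (actL M h) ∈ c.F0 := Iff.rfl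

/-- `f ∈ F h` iff `1 + f ⊗ (h v0)` is induced by a conjugate of an element of `A` -/
theorem mem_F {c : TVA v0 A} {h : H} {f : Module.Dual (ZMod 2) M} :
    f ∈ c.F h ↔ ∃ a ∈ A, ∀ m, (h * a * h⁻¹) • m = m + f m • h • v0 := by
  rw [mem_F', mem_F0]
  constructor
  · rintro ⟨a, ha, e⟩
    refine ⟨a, ha, fun m => ?_⟩
    rw [mul_smul, mul_smul, e, smul_add, smul_inv_smul, smul_zsmul]
    change m + f (h • h⁻¹ • m) • h • v0 = _
    rw [smul_inv_smul]
  · rintro ⟨a, ha, e⟩
    refine ⟨a, ha, fun m => ?_⟩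
    have := e (h • m)
    rw [mul_smul, mul_smul, inv_smul_smul] at this
    change a • m = m + f (h • m) • v0
    apply smul_left_cancel h
    rw [this, smul_add, smul_zsmul]

theorem F_congr (c : TVA v0 A) {h k : H} (e : h • v0 = k • v0) : c.F h = c.F k := by
  have key : ∀ h k : H, h • v0 = k • v0 → c.F h ≤ c.F k := by
    intro h k e f hf
    rw [mem_F] at hf ⊢
    obtain ⟨a, ha, hf⟩ := hf
    have h1 : (k⁻¹ * h) • v0 = v0 := by rw [mul_smul, e, inv_smul_smul]
    refine ⟨k⁻¹ * h * a * (k⁻¹ * h)⁻¹, c.nor _ h1 a ha, fun m => ?_⟩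
    have e1 : k * (k⁻¹ * h * a * (k⁻¹ * h)⁻¹) * k⁻¹ = h * a * h⁻¹ := by group
    rw [e1, hf, e]
  exact le_antisymm (key h k e) (key k h e.symm)

/-- `F h` kills `h • v0` -/
theorem F_self (c : TVA v0 A) {h : H} {f : Module.Dual (ZMod 2) M} (hf : f ∈ c.F h) :
    f (h • v0) = 0 := by
  obtain ⟨a, ha, e⟩ := mem_F.mp hf
  have h1 := e (h • v0)
  rw [mul_smul, mul_smul, inv_smul_smul, c.fix a ha] at h1
  rcases z2_cases (f (h • v0)) with h2 | h2
  · exact h2
  · exfalso
    rw [h2, one_smul, left_eq_add] at h1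
    exact c.ne ((smul_eq_zero_iff_eq h).mp h1)

/-- conjugation -/
theorem mem_F_mul (c : TVA v0 A) (g h : H) {f : Module.Dual (ZMod 2) M} :
    f ∈ c.F (g * h) ↔ f.comp (actL M g) ∈ c.F h := by
  rw [mem_F', mem_F']
  have : f.comp (actL M (g * h)) = (f.comp (actL M g)).comp (actL M h) := by
    ext m
    change f ((g * h) • m) = f (g • h • m)
    rw [mul_smul]
  rw [this]

/-- (a) -/
theorem key_a (c : TVA v0 A) {h k : H} {f g : Module.Dual (ZMod 2) M} (hf : f ∈ c.F h)
    (hg : g ∈ c.F k) (hfu : f (k • v0) = 0) (hgv : g (h • v0) = 1) : f ∈ c.F k := by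
  obtain ⟨a, ha, ef⟩ := mem_F.mp hf
  set x := h * a * h⁻¹ with hx
  have hxk : x • k • v0 = k • v0 := by rw [ef, hfu, zero_smul, add_zero]
  -- `g ∘ x ∈ F k`
  have h1 : g.comp (actL M x) ∈ c.F k := by
    rw [← c.mem_F_mul x k]
    rw [c.F_congr (h := x * k) (k := k) (by rw [mul_smul, hxk])]
    exact hg
  have h2 : g.comp (actL M x) = g + f := by
    ext m
    change g (x • m) = g m + f m
    rw [ef, map_add, map_smul, hgv, smul_eq_mul, mul_one]
  rw [h2] at h1
  have h3 := sub_mem h1 hg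
  rwa [add_sub_cancel_left] at h3

variable [Finite H] [Finite M]

theorem card_F (c : TVA v0 A) (h : H) : Nat.card (c.F h) = Nat.card c.F0 := by
  refine Nat.card_congr
    { toFun := fun f => ⟨(f : Module.Dual (ZMod 2) M).comp (actL M h), f.2⟩
      invFun := fun f => ⟨(f : Module.Dual (ZMod 2) M).comp (actL M h⁻¹), ?_⟩
      left_inv := fun f => ?_
      right_inv := fun f => ?_ }
  · rw [mem_F']
    have : ((f : Module.Dual (ZMod 2) M).comp (actL M h⁻¹)).comp (actL M h) = f := by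
      ext m
      change (f : Module.Dual (ZMod 2) M) (h⁻¹ • h • m) = _
      rw [inv_smul_smul]
    rw [this]
    exact f.2
  · ext m
    change (f : Module.Dual (ZMod 2) M) (h • h⁻¹ • m) = _
    rw [smul_inv_smul]
  · ext m
    change (f : Module.Dual (ZMod 2) M) (h⁻¹ • h • m) = _
    rw [inv_smul_smul]

theorem F_eq_of_le (c : TVA v0 A) {h k : H} (hle : c.F h ≤ c.F k) : c.F h = c.F k := by
  have hfin : Finite (Module.Dual (ZMod 2) M) := Module.finite_of_finite (ZMod 2)
  apply SetLike.coe_injective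
  refine Set.eq_of_subset_of_ncard_le hle ?_ (Set.toFinite _)
  have h1 : Set.ncard (c.F h : Set (Module.Dual (ZMod 2) M)) = Nat.card (c.F h) :=
    (Nat.card_coe_set_eq _).symm
  have h2 : Set.ncard (c.F k : Set (Module.Dual (ZMod 2) M)) = Nat.card (c.F k) :=
    (Nat.card_coe_set_eq _).symm
  rw [h1, h2, c.card_F, c.card_F]

/-- `u, v` nonperpendicular -/
def NP (c : TVA v0 A) (h k : H) : Prop := ∃ f ∈ c.F h, f (k • v0) = 1

/-- (b) symmetry -/
theorem NP.symm {c : TVA v0 A} {h k : H} (hh : c.NP h k) : c.NP k h := by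
  obtain ⟨f, hf, hfk⟩ := hh
  by_contra hcon
  have h0 : ∀ g ∈ c.F k, g (h • v0) = 0 := by
    intro g hg
    rcases z2_cases (g (h • v0)) with h1 | h1
    · exact h1
    · exact absurd ⟨g, hg, h1⟩ hcon
  have hle : c.F k ≤ c.F h := fun g hg => c.key_a hg hf (h0 g hg) hfk
  rw [← c.F_eq_of_le hle] at hf
  rw [c.F_self hf] at hfk
  exact zero_ne_one hfk

/-- (b): for `u, v` nonperpendicular, `F_v ∩ u° ≤ F_u` -/
theorem NP.mem {c : TVA v0 A} {h k : H} (hh : c.NP h k) {f : Module.Dual (ZMod 2) M}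
    (hf : f ∈ c.F h) (hfk : f (k • v0) = 0) : f ∈ c.F k := by
  obtain ⟨g, hg, hgh⟩ := hh.symm
  exact c.key_a hf hg hfk hgh

/-- `f ≠ 0` does not vanish on the orbit -/
theorem exists_orbit (c : TVA v0 A) {f : Module.Dual (ZMod 2) M} (hf : f ≠ 0) :
    ∃ m : H, f (m • v0) = 1 := by
  by_contra hcon
  push Not at hcon
  apply hf
  have h1 : AddSubgroup.closure (Set.range fun h : H => h • v0) ≤ f.toAddMonoidHom.ker := by
    rw [AddSubgroup.closure_le]
    rintro _ ⟨h, rfl⟩
    change f (h • v0) = 0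
    rcases z2_cases (f (h • v0)) with h1 | h1
    · exact h1
    · exact absurd h1 (hcon h)
  rw [c.span] at h1
  ext m
  exact h1 (AddSubgroup.mem_top m)

/-- `C_M(H⁰)` -/
def cm (c : TVA v0 A) : AddSubgroup M where
  carrier := {m | ∀ w : H, ∀ g ∈ c.F w, g m = 0}
  zero_mem' := fun w g _ => map_zero g
  add_mem' := fun {m n} hm hn w g hg => by rw [map_add, hm w g hg, hn w g hg, add_zero]
  neg_mem' := fun {m} hm w g hg => by rw [map_neg, hm w g hg, neg_zero]

theorem smul_mem_cm (c : TVA v0 A) (x : H) {m : M} (hm : m ∈ c.cm) : x • m ∈ c.cm := by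
  intro w g hg
  have h1 : g.comp (actL M x) ∈ c.F (x⁻¹ * w) := by
    rw [← c.mem_F_mul, mul_inv_cancel_left]
    exact hg
  exact hm _ _ h1

/-- the elements trivial on `M / C_M(H⁰)` and on `C_M(H⁰)` -/
def rd (c : TVA v0 A) : Subgroup H where
  carrier := {x | (∀ m : M, x • m - m ∈ c.cm) ∧ ∀ m ∈ c.cm, x • m = m}
  one_mem' := ⟨fun m => by simp [zero_mem], fun m _ => one_smul _ _⟩
  mul_mem' := by
    rintro x y ⟨hx1, hx2⟩ ⟨hy1, hy2⟩
    refine ⟨fun m => ?_, fun m hm => by rw [mul_smul, hy2 m hm, hx2 m hm]⟩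
    have : (x * y) • m - m = (x • y • m - y • m) + (y • m - m) := by rw [mul_smul]; abel
    rw [this]
    exact add_mem (hx1 _) (hy1 _)
  inv_mem' := by
    rintro x ⟨hx1, hx2⟩
    refine ⟨fun m => ?_, fun m hm => by rw [inv_smul_eq_iff, hx2 m hm]⟩
    have := neg_mem (hx1 (x⁻¹ • m))
    rwa [smul_inv_smul, neg_sub] at this

theorem rd_eq_bot [FaithfulSMul H M] (c : TVA v0 A) : c.rd = ⊥ := by
  refine c.o2 _ ⟨fun x hx g => ?_⟩ ?_
  · obtain ⟨h1, h2⟩ := hx
    constructor
    · intro m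
      have h3 := c.smul_mem_cm g (h1 (g⁻¹ • m))
      rw [smul_sub, smul_inv_smul] at h3
      rwa [mul_smul, mul_smul]
    · intro m hm
      have h3 := h2 _ (c.smul_mem_cm g⁻¹ hm)
      rw [mul_smul, mul_smul, h3, smul_inv_smul]
  · rw [IsPGroup]
    rintro ⟨x, h1, h2⟩
    refine ⟨1, Subtype.ext ?_⟩
    change x ^ (2 ^ 1) = 1
    rw [pow_one, pow_two]
    refine FaithfulSMul.eq_of_smul_eq_smul (α := M) fun m => ?_
    have h3 := h2 _ (h1 m)
    rw [smul_sub, sub_eq_sub_iff_add_eq_add, two_of_module] at h3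
    rw [mul_smul, one_smul]
    exact (eq_neg_of_add_eq_zero_left h3).trans (neg_eq_of_add_eq_zero_left (two_of_module m))

variable [FaithfulSMul H M]

/-- (c) -/
theorem eq_of_F_eq (c : TVA v0 A) (h0 : c.F0 ≠ ⊥) {h k : H} (e : c.F h = c.F k) :
    h • v0 = k • v0 := by
  -- `u + v ∈ C_M(H⁰)`
  have hc : h • v0 + k • v0 ∈ c.cm := by
    have key : ∀ {h k : H}, c.F h = c.F k → ∀ w : H, ∀ g ∈ c.F w, g (h • v0) = 1 →
        g (k • v0) = 1 := by
      intro h k e w g hg h1
      rcases z2_cases (g (k • v0)) with h2 | h2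
      · exfalso
        have hwh : c.NP w h := ⟨g, hg, h1⟩
        obtain ⟨f, hf, hfw⟩ := hwh.symm
        have hkw : c.NP k w := ⟨f, e ▸ hf, hfw⟩
        have h3 : g ∈ c.F k := hkw.symm.mem hg h2
        rw [← e] at h3
        rw [c.F_self h3] at h1
        exact zero_ne_one h1
      · exact h2
    intro w g hg
    rw [map_add]
    rcases z2_cases (g (h • v0)) with h1 | h1 <;> rcases z2_cases (g (k • v0)) with h2 | h2
    · rw [h1, h2, add_zero]
    · have := key e.symm w g hg h2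
      rw [h1] at this
      exact absurd this zero_ne_one
    · have := key e w g hg h1
      rw [h2] at this
      exact absurd this zero_ne_one
    · rw [h1, h2]; decide
  -- a nonzero functional
  have hne : c.F h ≠ ⊥ := by
    intro hb
    apply h0
    have h1 := c.card_F h
    rw [hb] at h1
    have hfin : Finite (Module.Dual (ZMod 2) M) := Module.finite_of_finite (ZMod 2)
    have h2 : Nat.card (⊥ : Submodule (ZMod 2) (Module.Dual (ZMod 2) M)) = 1 := Nat.card_unique
    rw [h2] at h1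
    rw [eq_bot_iff]
    intro f hf
    have h3 : Subsingleton c.F0 := (Nat.card_eq_one_iff_unique.mp h1.symm).1
    have h4 : (⟨f, hf⟩ : c.F0) = 0 := Subsingleton.elim _ _
    exact congrArg Subtype.val h4
  obtain ⟨f, hf, hf0⟩ := (Submodule.ne_bot_iff _).mp hne
  have hfk : f ∈ c.F k := e ▸ hf
  obtain ⟨a, ha, ea⟩ := mem_F.mp hf
  obtain ⟨b, hb, eb⟩ := mem_F.mp hfk
  have hx : (h * a * h⁻¹) * (k * b * k⁻¹) ∈ c.rd := by
    have e1 : ∀ m, ((h * a * h⁻¹) * (k * b * k⁻¹)) • m = m + f m • (h • v0 + k • v0) := by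
      intro m
      rw [mul_smul, eb, smul_add, ea, smul_zsmul, ea, c.F_self hfk, zero_smul, add_zero, smul_add]
      abel
    constructor
    · intro m
      rw [e1, add_sub_cancel_left]
      rcases z2_cases (f m) with h1 | h1
      · rw [h1, zero_smul]; exact zero_mem _
      · rw [h1, one_smul]; exact hc
    · intro m hm
      rw [e1, hm h f hf, zero_smul, add_zero]
  have hx1 : (h * a * h⁻¹) * (k * b * k⁻¹) = 1 := by
    rw [c.rd_eq_bot] at hx
    exact Subgroup.mem_bot.mp hx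
  obtain ⟨m, hm⟩ := c.exists_orbit hf0
  have e2 : ((h * a * h⁻¹) * (k * b * k⁻¹)) • m • v0 = m • v0 + (h • v0 + k • v0) := by
    rw [mul_smul, eb, hm, one_smul, smul_add, ea, hm, one_smul, ea, c.F_self hfk, zero_smul,
      add_zero]
    abel
  rw [hx1, one_smul, left_eq_add] at e2
  exact (eq_neg_of_add_eq_zero_left e2).trans (neg_eq_of_add_eq_zero_left (two_of_module _))

theorem exists_ne_zero_of_four {D : Type*} [AddCommGroup D] [Module (ZMod 2) D] [Finite D]
    {S : Submodule (ZMod 2) D} (h4 : 4 ≤ Nat.card S) (ev : D →ₗ[ZMod 2] ZMod 2) :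
    ∃ f ∈ S, f ≠ 0 ∧ ev f = 0 := by
  by_contra hcon
  push Not at hcon
  have hinj : Function.Injective (fun f : S => ev (f : D)) := by
    intro f g e
    by_contra hne
    have e' : ev (f : D) = ev (g : D) := e
    have h1 : ev ((f : D) - g) = 0 := by rw [map_sub, e', sub_self]
    exact hcon _ (sub_mem f.2 g.2) (sub_ne_zero.mpr fun h => hne (Subtype.ext h)) h1
  have h2 := Nat.card_le_card_of_injective _ hinj
  rw [Nat.card_zmod] at h2
  omega

/-- (d) nonperpendicularity is transitive -/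
theorem NP.trans {c : TVA v0 A} (h4 : 4 ≤ Nat.card c.F0) {h w k : H} (h1 : c.NP h w)
    (h2 : c.NP w k) (hne : h • v0 ≠ k • v0) : c.NP h k := by
  have hfin : Finite (Module.Dual (ZMod 2) M) := Module.finite_of_finite (ZMod 2)
  by_contra hcon
  have hcon' : ¬ c.NP k h := fun h3 => hcon h3.symm
  have hk0 : ∀ g ∈ c.F h, g (k • v0) = 0 := by
    intro g hg
    rcases z2_cases (g (k • v0)) with e | e
    · exact e
    · exact absurd ⟨g, hg, e⟩ hcon
  have hh0 : ∀ g ∈ c.F k, g (h • v0) = 0 := by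
    intro g hg
    rcases z2_cases (g (h • v0)) with e | e
    · exact e
    · exact absurd ⟨g, hg, e⟩ hcon'
  obtain ⟨f, hfw, hf0, hfh⟩ := exists_ne_zero_of_four (S := c.F w) (by rw [c.card_F]; exact h4)
    (LinearMap.applyₗ (h • v0))
  have hfh' : f (h • v0) = 0 := hfh
  have hf_h : f ∈ c.F h := h1.symm.mem hfw hfh'
  have hf_k : f ∈ c.F k := h2.mem hfw (hk0 f hf_h)
  obtain ⟨m, hm⟩ := c.exists_orbit hf0
  have hhm : c.NP h m := ⟨f, hf_h, hm⟩
  have hkm : c.NP k m := ⟨f, hf_k, hm⟩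
  have hle : c.F h ≤ c.F k := by
    have key : ∀ g ∈ c.F h, g (m • v0) = 0 → g ∈ c.F k := fun g hg h3 =>
      hkm.symm.mem (hhm.mem hg h3) (hk0 g hg)
    intro g hg
    rcases z2_cases (g (m • v0)) with h3 | h3
    · exact key g hg h3
    · have h5 : g + f ∈ c.F k := key _ (add_mem hg hf_h) (by
        rw [LinearMap.add_apply, h3, hm]; decide)
      have h6 := sub_mem h5 hf_k
      rwa [add_sub_cancel_right] at h6
  have h0 : c.F0 ≠ ⊥ := by
    intro hb
    rw [hb] at h4
    have : Nat.card (⊥ : Submodule (ZMod 2) (Module.Dual (ZMod 2) M)) = 1 := Nat.card_unique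
    omega
  exact hne (c.eq_of_F_eq h0 (c.F_eq_of_le hle))

/-- equal or nonperpendicular -/
def R (c : TVA v0 A) (h k : H) : Prop := h • v0 = k • v0 ∨ c.NP h k

theorem NP.congr_left {c : TVA v0 A} {h h' k : H} (e : h • v0 = h' • v0) (hh : c.NP h k) :
    c.NP h' k := by
  obtain ⟨f, hf, hfk⟩ := hh
  exact ⟨f, c.F_congr e ▸ hf, hfk⟩

theorem NP.congr_right {c : TVA v0 A} {h k k' : H} (e : k • v0 = k' • v0) (hh : c.NP h k) :
    c.NP h k' := by
  obtain ⟨f, hf, hfk⟩ := hh
  exact ⟨f, hf, e ▸ hfk⟩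

theorem R.refl (c : TVA v0 A) (h : H) : c.R h h := Or.inl rfl

theorem R.symm {c : TVA v0 A} {h k : H} (hh : c.R h k) : c.R k h :=
  hh.imp Eq.symm NP.symm

theorem R.trans {c : TVA v0 A} (h4 : 4 ≤ Nat.card c.F0) {h w k : H} (h1 : c.R h w)
    (h2 : c.R w k) : c.R h k := by
  rcases h1 with e1 | h1
  · rcases h2 with e2 | h2
    · exact Or.inl (e1.trans e2)
    · exact Or.inr (h2.congr_left e1.symm)
  · rcases h2 with e2 | h2
    · exact Or.inr (h1.congr_right e2)
    · by_cases e : h • v0 = k • v0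
      · exact Or.inl e
      · exact Or.inr (h1.trans h4 h2 e)

theorem NP.smul {c : TVA v0 A} {h k : H} (x : H) (hh : c.NP h k) : c.NP (x * h) (x * k) := by
  obtain ⟨f, hf, hfk⟩ := hh
  refine ⟨f.comp (actL M x⁻¹), ?_, ?_⟩
  · rw [c.mem_F_mul]
    have : (f.comp (actL M x⁻¹)).comp (actL M x) = f := by
      ext m
      change f (x⁻¹ • x • m) = _
      rw [inv_smul_smul]
    rw [this]
    exact hf
  · change f (x⁻¹ • (x * k) • v0) = 1
    rw [mul_smul, inv_smul_smul]
    exact hfk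

theorem R.smul {c : TVA v0 A} {h k : H} (x : H) (hh : c.R h k) : c.R (x * h) (x * k) := by
  rcases hh with e | hh
  · left; rw [mul_smul, mul_smul, e]
  · exact Or.inr (hh.smul x)

/-- the block of `h • v0` -/
def blk (c : TVA v0 A) (h4 : 4 ≤ Nat.card c.F0) (h : H) : AddSubgroup M where
  carrier := {m | m = 0 ∨ ∃ k : H, m = k • v0 ∧ c.R h k}
  zero_mem' := Or.inl rfl
  add_mem' := by
    rintro m n (rfl | ⟨k, rfl, hk⟩) (rfl | ⟨l, rfl, hl⟩)
    · left; simp
    · right; exact ⟨l, by simp, hl⟩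
    · right; exact ⟨k, by simp, hk⟩
    · have hkl : c.R k l := hk.symm.trans h4 hl
      rcases hkl with e | ⟨f, hf, hfl⟩
      · left; rw [e, two_of_module]
      · right
        obtain ⟨a, ha, ea⟩ := mem_F.mp hf
        refine ⟨k * a * k⁻¹ * l, ?_, hk.trans h4 (Or.inr ⟨f, hf, ?_⟩)⟩
        · rw [mul_smul, ea, hfl, one_smul, add_comm]
        · rw [mul_smul, ea, hfl, one_smul, map_add, hfl, c.F_self hf, add_zero]
  neg_mem' := by
    rintro m (rfl | ⟨k, rfl, hk⟩)
    · left; simp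
    · right
      exact ⟨k, neg_eq_of_add_eq_zero_left (two_of_module _), hk⟩

theorem mem_blk {c : TVA v0 A} {h4 : 4 ≤ Nat.card c.F0} {h : H} {m : M} :
    m ∈ c.blk h4 h ↔ m = 0 ∨ ∃ k : H, m = k • v0 ∧ c.R h k := Iff.rfl

theorem self_mem_blk (c : TVA v0 A) (h4 : 4 ≤ Nat.card c.F0) (h : H) : h • v0 ∈ c.blk h4 h :=
  Or.inr ⟨h, rfl, R.refl c h⟩

theorem smul_mem_blk (c : TVA v0 A) (h4 : 4 ≤ Nat.card c.F0) {h : H} (x : H) {m : M}
    (hm : m ∈ c.blk h4 h) : x • m ∈ c.blk h4 (x * h) := by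
  rcases hm with rfl | ⟨k, rfl, hk⟩
  · rw [smul_zero]; exact zero_mem _
  · exact Or.inr ⟨x * k, (mul_smul _ _ _).symm, hk.smul x⟩

theorem blk_eq_of_R (c : TVA v0 A) (h4 : 4 ≤ Nat.card c.F0) {h k : H} (hh : c.R h k) :
    c.blk h4 h = c.blk h4 k := by
  ext m
  rw [mem_blk, mem_blk]
  constructor
  · rintro (rfl | ⟨l, rfl, hl⟩)
    · exact Or.inl rfl
    · exact Or.inr ⟨l, rfl, hh.symm.trans h4 hl⟩
  · rintro (rfl | ⟨l, rfl, hl⟩)
    · exact Or.inl rfl
    · exact Or.inr ⟨l, rfl, hh.trans h4 hl⟩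

/-- `h v0 ∈ blk k` iff `R k h` -/
theorem smul_mem_blk_iff (c : TVA v0 A) (h4 : 4 ≤ Nat.card c.F0) {h k : H} :
    h • v0 ∈ c.blk h4 k ↔ c.R k h := by
  constructor
  · rintro (e | ⟨l, e, hl⟩)
    · exact absurd ((smul_eq_zero_iff_eq h).mp e) c.ne
    · exact hl.trans h4 (Or.inl e.symm)
  · intro hh
    exact Or.inr ⟨h, rfl, hh⟩

/-- different blocks meet trivially -/
theorem disjoint_blk (c : TVA v0 A) (h4 : 4 ≤ Nat.card c.F0) {h k : H} (hh : ¬ c.R h k) {m : M}
    (h1 : m ∈ c.blk h4 h) (h2 : m ∈ c.blk h4 k) : m = 0 := by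
  rcases h1 with rfl | ⟨l, rfl, hl⟩
  · rfl
  · exact absurd (hl.trans h4 ((c.smul_mem_blk_iff h4).mp h2).symm) hh

/-- `F h` kills the other blocks -/
theorem F_blk (c : TVA v0 A) (h4 : 4 ≤ Nat.card c.F0) {h k : H} (hh : ¬ c.R h k)
    {f : Module.Dual (ZMod 2) M} (hf : f ∈ c.F h) {m : M} (hm : m ∈ c.blk h4 k) : f m = 0 := by
  rcases hm with rfl | ⟨l, rfl, hl⟩
  · exact map_zero f
  · rcases z2_cases (f (l • v0)) with e | e
    · exact e
    · exact absurd ((R.trans h4 (Or.inr ⟨f, hf, e⟩) hl.symm)) hh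

/-- on the block of `h`, the common kernel of `F h` is `⟨h v0⟩` -/
theorem ker_F (c : TVA v0 A) (h4 : 4 ≤ Nat.card c.F0) {h : H} {m : M} (hm : m ∈ c.blk h4 h)
    (hk : ∀ f ∈ c.F h, f m = 0) : m = 0 ∨ m = h • v0 := by
  rcases hm with rfl | ⟨l, rfl, hl⟩
  · exact Or.inl rfl
  · right
    rcases hl with e | ⟨f, hf, hfl⟩
    · exact e.symm
    · rw [hk f hf] at hfl
      exact absurd hfl zero_ne_one

/-- restriction to the block is injective on `F h` -/
theorem F_inj (c : TVA v0 A) (h4 : 4 ≤ Nat.card c.F0) {h : H} {f : Module.Dual (ZMod 2) M}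
    (hf : f ∈ c.F h) (h0 : ∀ m ∈ c.blk h4 h, f m = 0) : f = 0 := by
  by_contra hne
  obtain ⟨m, hm⟩ := c.exists_orbit hne
  have h1 : m • v0 ∈ c.blk h4 h := (c.smul_mem_blk_iff h4).mpr (Or.inr ⟨f, hf, hm⟩)
  rw [h0 _ h1] at hm
  exact zero_ne_one hm

end TVA

end Cfsg.Agent.Omega.NO3S.TV

end

section


/-!
# Text #16747 (helper311), section 9: THEOREM TV2, counting and the direct sum

* `TVA.card_blk` : `|blk h| = 2 |A|`;
* `TVA.full` : `A^h` induces on the block of `h v0` all transvections with centre `h v0`;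
* `TVA.triv` : `A^h` is trivial on the other blocks;
* `TVA.sup_eq`, `TVA.indep` : `M` is the direct sum of the blocks;
* `TVA.tv2` : the theorem.
-/

set_option autoImplicit false
set_option linter.unusedSectionVars false

namespace Cfsg.Agent.Omega.NO3S.TV

open Cfsg.Agent.Omega.NO3S.Fit.Abs

variable {H M : Type*} [Group H] [AddCommGroup M] [Module (ZMod 2) M] [DistribMulAction H M]

/-- an additive subgroup as a subspace -/
abbrev sbm (N : AddSubgroup M) : Submodule (ZMod 2) M := AddSubgroup.toZModSubmodule 2 N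

theorem card_dual {X : Type*} [AddCommGroup X] [Module (ZMod 2) X] [Finite X] :
    Nat.card (Module.Dual (ZMod 2) X) = Nat.card X := by
  have h1 := Module.natCard_eq_pow_finrank (K := ZMod 2) (V := Module.Dual (ZMod 2) X)
  have h2 := Module.natCard_eq_pow_finrank (K := ZMod 2) (V := X)
  rw [h1, h2, Subspace.dual_finrank_eq]

theorem card_of_surj {X : Type*} [AddCommGroup X] [Finite X] (ev : X →+ ZMod 2) {x : X}
    (hx : ev x = 1) : Nat.card X = 2 * Nat.card ev.ker := by
  have h1 : ev.range = ⊤ := by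
    rw [AddMonoidHom.range_eq_top]
    intro c
    rcases z2_cases c with rfl | rfl
    · exact ⟨0, map_zero ev⟩
    · exact ⟨x, hx⟩
  have h2 := AddSubgroup.card_mul_index ev.ker
  rw [AddSubgroup.index_ker, h1, AddSubgroup.card_top, Nat.card_zmod] at h2
  omega

/-- the functionals killing `v ≠ 0` -/
theorem card_ann {X : Type*} [AddCommGroup X] [Module (ZMod 2) X] [Finite X] {v : X}
    (hv : v ≠ 0) : Nat.card X = 2 * Nat.card {g : Module.Dual (ZMod 2) X // g v = 0} := by
  have hfin : Finite (Module.Dual (ZMod 2) X) := Module.finite_of_finite (ZMod 2)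
  obtain ⟨g0, hg0⟩ : ∃ g : Module.Dual (ZMod 2) X, g v = 1 := by
    by_contra hcon
    push Not at hcon
    apply hv
    rw [← Module.forall_dual_apply_eq_zero_iff (ZMod 2)]
    intro φ
    rcases z2_cases (φ v) with h | h
    · exact h
    · exact absurd h (hcon φ)
  let ev : Module.Dual (ZMod 2) X →+ ZMod 2 :=
    { toFun := fun g => g v
      map_zero' := rfl
      map_add' := fun _ _ => rfl }
  have h1 := card_of_surj ev (x := g0) hg0
  rw [card_dual] at h1
  rw [h1]
  rfl

namespace TVA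

variable {v0 : M} {A : Subgroup H}
variable [Finite H] [Finite M] [FaithfulSMul H M]

/-- `|F0| = |A|` -/
theorem card_F0 (c : TVA v0 A) : Nat.card c.F0 = Nat.card A := by
  have hex : ∀ a : A, ∃ f : Module.Dual (ZMod 2) M, ∀ m, (a : H) • m = m + f m • v0 :=
    fun a => c.exists_dual a.2
  choose f hf using hex
  symm
  refine Nat.card_congr (Equiv.ofBijective (fun a : A => (⟨f a, a, a.2, hf a⟩ : c.F0)) ⟨?_, ?_⟩)
  · intro a b e
    have e' : f a = f b := congrArg Subtype.val e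
    apply Subtype.ext
    refine FaithfulSMul.eq_of_smul_eq_smul (α := M) fun m => ?_
    rw [hf a, hf b, e']
  · rintro ⟨g, a, ha, hg⟩
    refine ⟨⟨a, ha⟩, Subtype.ext ?_⟩
    ext m
    have h1 := hf ⟨a, ha⟩ m
    have h2 := hg m
    have h3 : a • m = m + f ⟨a, ha⟩ m • v0 := h1
    rw [h3] at h2
    have h4 := add_left_cancel h2
    change f ⟨a, ha⟩ m = g m
    rcases z2_cases (f ⟨a, ha⟩ m) with h5 | h5 <;> rcases z2_cases (g m) with h6 | h6
    · rw [h5, h6]
    · rw [h5, h6, zero_smul, one_smul] at h4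
      exact absurd h4.symm c.ne
    · rw [h5, h6, zero_smul, one_smul] at h4
      exact absurd h4 c.ne
    · rw [h5, h6]

variable (c : TVA v0 A) (h4 : 4 ≤ Nat.card c.F0)
include c h4

theorem card_blk_le (h : H) : Nat.card (c.blk h4 h) ≤ 2 * Nat.card c.F0 := by
  have hfin : Finite (Module.Dual (ZMod 2) M) := Module.finite_of_finite (ZMod 2)
  have hfin2 : Finite (Module.Dual (ZMod 2) (c.F h)) := Module.finite_of_finite (ZMod 2)
  let ev : c.blk h4 h →+ Module.Dual (ZMod 2) (c.F h) :=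
    { toFun := fun m =>
        { toFun := fun f => (f : Module.Dual (ZMod 2) M) (m : M)
          map_add' := fun _ _ => rfl
          map_smul' := fun _ _ => rfl }
      map_zero' := by ext f; exact map_zero (f : Module.Dual (ZMod 2) M)
      map_add' := fun m n => by ext f; exact map_add (f : Module.Dual (ZMod 2) M) (m : M) (n : M) }
  have h1 := AddSubgroup.card_mul_index ev.ker
  rw [AddSubgroup.index_ker] at h1
  have h2 : Nat.card ev.range ≤ Nat.card c.F0 := by
    have := Nat.card_le_card_of_injective (fun x : ev.range => (x : Module.Dual (ZMod 2) (c.F h)))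
      Subtype.val_injective
    rwa [card_dual, c.card_F] at this
  have h3 : Nat.card ev.ker ≤ 2 := by
    classical
    have hinj : Function.Injective (fun x : ev.ker => if ((x : c.blk h4 h) : M) = 0 then (0 : ZMod 2) else 1) := by
      have key : ∀ x : ev.ker, ((x : c.blk h4 h) : M) = 0 ∨ ((x : c.blk h4 h) : M) = h • v0 := by
        intro x
        refine c.ker_F h4 (x : c.blk h4 h).2 fun f hf => ?_
        have h5 : ev (x : c.blk h4 h) = 0 := x.2
        exact congrArg (fun (φ : Module.Dual (ZMod 2) (c.F h)) => φ ⟨f, hf⟩) h5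
      have hne : h • v0 ≠ 0 := fun e => c.ne ((smul_eq_zero_iff_eq h).mp e)
      intro x y e
      apply Subtype.ext
      apply Subtype.ext
      rcases key x with h5 | h5 <;> rcases key y with h6 | h6
      · rw [h5, h6]
      · simp only [h5, h6, if_true, hne, if_false] at e
        exact absurd e zero_ne_one
      · simp only [h5, h6, if_true, hne, if_false] at e
        exact absurd e.symm zero_ne_one
      · rw [h5, h6]
    have := Nat.card_le_card_of_injective _ hinj
    rwa [Nat.card_zmod] at this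
  calc Nat.card (c.blk h4 h) = Nat.card ev.ker * Nat.card ev.range := h1.symm
    _ ≤ 2 * Nat.card c.F0 := Nat.mul_le_mul h3 h2

/-- the restriction of `F h` to its block -/
def res (h : H) (f : c.F h) :
    {g : Module.Dual (ZMod 2) (sbm (c.blk h4 h)) // g ⟨h • v0, c.self_mem_blk h4 h⟩ = 0} :=
  ⟨(f : Module.Dual (ZMod 2) M).comp (Submodule.subtype _), c.F_self f.2⟩

theorem res_inj (h : H) : Function.Injective (c.res h4 h) := by
  intro f g e
  have e' : ∀ m ∈ c.blk h4 h, (f : Module.Dual (ZMod 2) M) m = (g : Module.Dual (ZMod 2) M) m := by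
    intro m hm
    have h1 := congrArg Subtype.val e
    exact congrArg (fun (φ : Module.Dual (ZMod 2) (sbm (c.blk h4 h))) => φ ⟨m, hm⟩) h1
  have h2 := c.F_inj h4 (sub_mem f.2 g.2) (fun m hm => by
    rw [LinearMap.sub_apply, e' m hm, sub_self])
  exact Subtype.ext (sub_eq_zero.mp h2)

theorem card_blk_F (h : H) : Nat.card (c.blk h4 h) = 2 * Nat.card c.F0 ∧
    Function.Surjective (c.res h4 h) := by
  have hfin : Finite (Module.Dual (ZMod 2) M) := Module.finite_of_finite (ZMod 2)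
  have hfin' : Finite (Module.Dual (ZMod 2) (sbm (c.blk h4 h))) := Module.finite_of_finite (ZMod 2)
  have hne : (⟨h • v0, c.self_mem_blk h4 h⟩ : sbm (c.blk h4 h)) ≠ 0 := by
    intro e
    exact c.ne ((smul_eq_zero_iff_eq h).mp (congrArg Subtype.val e))
  have h1 := card_ann hne
  have h2 := Nat.card_le_card_of_injective _ (c.res_inj h4 h)
  rw [c.card_F] at h2
  have h3 := c.card_blk_le h4 h
  have h3' : Nat.card (sbm (c.blk h4 h)) = Nat.card (c.blk h4 h) := rfl
  have h5 : Nat.card (c.F h) = Nat.card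
      {g : Module.Dual (ZMod 2) (sbm (c.blk h4 h)) // g ⟨h • v0, c.self_mem_blk h4 h⟩ = 0} := by
    rw [c.card_F]
    omega
  refine ⟨by omega, ?_⟩
  exact ((Nat.bijective_iff_injective_and_card _).mpr ⟨c.res_inj h4 h, h5⟩).2

theorem card_blk (h : H) : Nat.card (c.blk h4 h) = 2 * Nat.card A := by
  rw [(c.card_blk_F h4 h).1, c.card_F0]

/-- `A^h` induces on its block all transvections with centre `h v0` -/
theorem full (h : H) (g : Module.Dual (ZMod 2) (sbm (c.blk h4 h)))
    (hg : g ⟨h • v0, c.self_mem_blk h4 h⟩ = 0) :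
    ∃ a ∈ A, ∀ m (hm : m ∈ c.blk h4 h), (h * a * h⁻¹) • m = m + g ⟨m, hm⟩ • h • v0 := by
  obtain ⟨f, hf⟩ := (c.card_blk_F h4 h).2 ⟨g, hg⟩
  obtain ⟨a, ha, e⟩ := mem_F.mp f.2
  refine ⟨a, ha, fun m hm => ?_⟩
  rw [e]
  have h1 := congrArg Subtype.val hf
  have h2 : (f : Module.Dual (ZMod 2) M) m = g ⟨m, hm⟩ :=
    congrArg (fun (φ : Module.Dual (ZMod 2) (sbm (c.blk h4 h))) => φ ⟨m, hm⟩) h1
  rw [h2]

/-- `A^h` is trivial on the other blocks -/
theorem triv {h k : H} (hh : ¬ c.R h k) {a : H} (ha : a ∈ A) {m : M} (hm : m ∈ c.blk h4 k) :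
    (h * a * h⁻¹) • m = m := by
  obtain ⟨f, hf⟩ := c.exists_dual ha
  have h1 : f.comp (actL M h⁻¹) ∈ c.F h := by
    rw [mem_F]
    refine ⟨a, ha, fun n => ?_⟩
    rw [mul_smul, mul_smul, hf, smul_add, smul_inv_smul, smul_zsmul]
    rfl
  have h2 := c.F_blk h4 hh h1 hm
  rw [mul_smul, mul_smul, hf, smul_add, smul_inv_smul, smul_zsmul]
  change m + (f.comp (actL M h⁻¹)) m • h • v0 = m
  rw [h2, zero_smul, add_zero]

/-- `M` is the sum of the blocks -/
theorem sup_eq : ⨆ h : H, c.blk h4 h = ⊤ := by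
  rw [eq_top_iff, ← c.span, AddSubgroup.closure_le]
  rintro _ ⟨h, rfl⟩
  exact (le_iSup (fun h => c.blk h4 h) h) (c.self_mem_blk h4 h)

/-- the sum is direct -/
theorem indep (k : H) {m : M} (hm : m ∈ c.blk h4 k)
    (hm' : m ∈ ⨆ h : {h : H // ¬ c.R k h}, c.blk h4 h) : m = 0 := by
  -- `F l` kills `m` for all `l` with `R k l`
  have h1 : ∀ l : H, c.R k l → ∀ f ∈ c.F l, f m = 0 := by
    intro l hl f hf
    have hle : (⨆ h : {h : H // ¬ c.R k h}, c.blk h4 h) ≤ f.toAddMonoidHom.ker := by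
      refine iSup_le fun h n hn => ?_
      exact c.F_blk h4 (fun h5 => h.2 (hl.trans h4 h5)) hf hn
    exact hle hm'
  have h2 : ∀ l : H, c.R k l → m = 0 ∨ m = l • v0 := by
    intro l hl
    refine c.ker_F h4 ?_ (h1 l hl)
    rw [← c.blk_eq_of_R h4 hl]
    exact hm
  by_contra hne
  -- some `l` with `R k l`, `l v0 ≠ k v0`
  obtain ⟨l, hl, hlk⟩ : ∃ l : H, c.R k l ∧ l • v0 ≠ k • v0 := by
    have hcard := (c.card_blk_F h4 k).1
    by_contra hcon
    push Not at hcon
    have h5 : (c.blk h4 k : Set M) ⊆ {0, k • v0} := by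
      rintro n (rfl | ⟨l, rfl, hl⟩)
      · simp
      · simp [hcon l hl]
    have h6 := Set.ncard_le_ncard h5 (Set.toFinite _)
    have h7 : Set.ncard (c.blk h4 k : Set M) = Nat.card (c.blk h4 k) :=
      (Nat.card_coe_set_eq _).symm
    have h8 : Set.ncard ({0, k • v0} : Set M) ≤ 2 := Set.ncard_insert_le _ _ |>.trans (by simp)
    omega
  have h3 := (h2 l hl).resolve_left hne
  have h5 := (h2 k (R.refl c k)).resolve_left hne
  exact hlk (h3.symm.trans h5)

end TVA

/-- **THEOREM TV2**, module level. -/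
theorem tv2 [Finite H] [Finite M] [FaithfulSMul H M] {v0 : M} {A : Subgroup H} (c : TVA v0 A)
    (hA : 4 ≤ Nat.card A) : ∃ B : H → AddSubgroup M,
      (∀ h, h • v0 ∈ B h) ∧
      (∀ h, Nat.card (B h) = 2 * Nat.card A) ∧
      (∀ h, ∀ m ∈ B h, m ≠ 0 → ∃ k : H, m = k • v0 ∧ B k = B h) ∧
      (∀ h k, B h = B k ∨ ∀ m ∈ B h, m ∈ B k → m = 0) ∧
      (∀ x h, ∀ m ∈ B h, x • m ∈ B (x * h)) ∧
      (∀ h, ∀ (g : Module.Dual (ZMod 2) (sbm (B h))) (hv : h • v0 ∈ B h), g ⟨h • v0, hv⟩ = 0 →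
        ∃ a ∈ A, ∀ m (hm : m ∈ B h), (h * a * h⁻¹) • m = m + g ⟨m, hm⟩ • h • v0) ∧
      (∀ h k, B h ≠ B k → ∀ a ∈ A, ∀ m ∈ B k, (h * a * h⁻¹) • m = m) ∧
      (⨆ h, B h = ⊤) ∧
      (∀ k, ∀ m ∈ B k, m ∈ (⨆ h : {h : H // B h ≠ B k}, B h) → m = 0) := by
  have h4 : 4 ≤ Nat.card c.F0 := by rw [c.card_F0]; exact hA
  have hR : ∀ h k, c.blk h4 h = c.blk h4 k ↔ c.R h k := by
    intro h k
    constructor
    · intro e
      have := c.self_mem_blk h4 k
      rw [← e, c.smul_mem_blk_iff h4] at this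
      exact this
    · exact c.blk_eq_of_R h4
  refine ⟨fun h => c.blk h4 h, c.self_mem_blk h4, c.card_blk h4, ?_, ?_, ?_, ?_, ?_,
    c.sup_eq h4, ?_⟩
  · rintro h m (rfl | ⟨k, rfl, hk⟩) hm
    · exact absurd rfl hm
    · exact ⟨k, rfl, (c.blk_eq_of_R h4 hk).symm⟩
  · intro h k
    by_cases hh : c.R h k
    · exact Or.inl (c.blk_eq_of_R h4 hh)
    · exact Or.inr fun m h1 h2 => c.disjoint_blk h4 hh h1 h2
  · exact fun x h m hm => c.smul_mem_blk h4 x hm
  · intro h g hv hg
    exact c.full h4 h g hg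
  · intro h k hne a ha m hm
    exact c.triv h4 (fun hh => hne ((hR h k).mpr hh)) ha hm
  · intro k m hm hm'
    refine c.indep h4 k hm ?_
    refine (iSup_le fun h => ?_ : (⨆ h : {h : H // c.blk h4 h ≠ c.blk h4 k}, c.blk h4 h) ≤ _) hm'
    exact le_iSup (fun h : {h : H // ¬ c.R k h} => c.blk h4 h)
      ⟨h.1, fun hh => h.2 (c.blk_eq_of_R h4 hh).symm⟩

end Cfsg.Agent.Omega.NO3S.TV

end

section


/-!
# NO-3S, `q = 2`, `n = 1`: the mixed case (helper311's text #18168 (2)), module level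

`H` faithful on the elementary abelian 2-group `M` spanned by the orbit of `v0`; `O₂(H) = 1`; `A ≤ Stab(v0)` normal in
`Stab(v0)`, quadratic; `v0 + u` is in the orbit for a commutator `u ≠ v0` in the orbit; no proper submodule meets `[M, a]`.

* `Mix.all` : if one `1 ≠ a ∈ A` is a transvection with centre `v0`, all are.
-/

set_option autoImplicit false
set_option linter.unusedSectionVars false

namespace Cfsg.Agent.Omega.NO3S.TwoOne.Mixed

open Cfsg.Agent.Omega.NO3S.TV

variable {H M : Type*} [Group H] [AddCommGroup M] [Module (ZMod 2) M] [DistribMulAction H M]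

/-- the situation -/
structure Mix (v0 : M) (A : Subgroup H) : Prop where
  ne : v0 ≠ 0
  span : AddSubgroup.closure (Set.range fun h : H => h • v0) = ⊤
  o2 : ∀ N : Subgroup H, N.Normal → IsPGroup 2 N → N = ⊥
  nor : ∀ h : H, h • v0 = v0 → ∀ a ∈ A, h * a * h⁻¹ ∈ A
  fix : ∀ a ∈ A, a • v0 = v0
  quad : ∀ a ∈ A, ∀ b ∈ A, ∀ m : M, a • (b • m - m) = b • m - m
  plane : ∀ a ∈ A, ∀ (m : M) (k : H), a • m - m = k • v0 → k • v0 ≠ v0 → ∃ l : H, v0 + k • v0 = l • v0
  irr : ∀ X : AddSubgroup M, (∀ (h : H), ∀ x ∈ X, h • x ∈ X) → X ≠ ⊤ → ∀ a ∈ A, ∀ m : M, a • m - m ∈ X → a • m = m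

theorem add_cancel2 (m n : M) : m + n + n = m := by rw [add_assoc, two_of_module, add_zero]

theorem sub_eq' (m n : M) : m - n = m + n := by
  rw [sub_eq_add_neg, neg_eq_of_add_eq_zero_left (two_of_module n)]

theorem eq_of_add' {m n : M} (h : m + n = 0) : m = n := by
  rw [← add_cancel2 m n, h, zero_add]

namespace Mix

variable {v0 : M} {A : Subgroup H}

/-- the transvections of `A` with centre `v0` -/
def A0 (c : Mix v0 A) : Subgroup H where
  carrier := {a | a ∈ A ∧ ∀ m : M, a • m = m ∨ a • m = m + v0}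
  one_mem' := ⟨one_mem _, fun m => Or.inl (one_smul _ _)⟩
  mul_mem' := by
    rintro a b ⟨ha, ha1⟩ ⟨hb, hb1⟩
    refine ⟨mul_mem ha hb, fun m => ?_⟩
    rw [mul_smul]
    rcases hb1 m with e | e
    · rw [e]; exact ha1 m
    · rw [e, smul_add, c.fix a ha]
      rcases ha1 m with e' | e'
      · right; rw [e']
      · left; rw [e', add_cancel2]
  inv_mem' := by
    rintro a ⟨ha, ha1⟩
    refine ⟨inv_mem ha, fun m => ?_⟩
    have h1 := ha1 (a⁻¹ • m)
    rw [smul_inv_smul] at h1
    rcases h1 with e | e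
    · exact Or.inl e.symm
    · right
      rw [e, add_cancel2]
      exact congrArg (fun x => a⁻¹ • x) e.symm |>.trans (by rfl)

theorem mem_A0 {c : Mix v0 A} {a : H} : a ∈ c.A0 ↔ a ∈ A ∧ ∀ m : M, a • m = m ∨ a • m = m + v0 := Iff.rfl

theorem A0_nor (c : Mix v0 A) {x : H} (hx : x • v0 = v0) {a : H} (ha : a ∈ c.A0) : x * a * x⁻¹ ∈ c.A0 := by
  refine ⟨c.nor x hx a ha.1, fun m => ?_⟩
  rw [mul_smul, mul_smul]
  rcases ha.2 (x⁻¹ • m) with e | e
  · left; rw [e, smul_inv_smul]
  · right; rw [e, smul_add, smul_inv_smul, hx]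

theorem tva (c : Mix v0 A) : TVA v0 c.A0 where
  ne := c.ne
  span := c.span
  o2 := c.o2
  nor := fun _ hx _ ha => c.A0_nor hx ha
  tv := fun _ ha => ha.2
  fix := fun a ha => c.fix a ha.1

/-- `{m | a m = m or a m = m + v0}` is a subgroup -/
def tvs (v0 : M) (a : H) : AddSubgroup M where
  carrier := {m | a • m = m ∨ a • m = m + v0}
  zero_mem' := Or.inl (smul_zero _)
  add_mem' := by
    rintro m n (h1 | h1) (h2 | h2)
    · left; rw [smul_add, h1, h2]
    · right; rw [smul_add, h1, h2, add_assoc]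
    · right; rw [smul_add, h1, h2]; abel
    · left
      rw [smul_add, h1, h2]
      have : m + v0 + (n + v0) = m + n + (v0 + v0) := by abel
      rw [this, two_of_module, add_zero]
  neg_mem' := by
    rintro m (h1 | h1)
    · left; rw [smul_neg, h1]
    · right
      have e : -m = m := neg_eq_of_add_eq_zero_left (two_of_module m)
      rw [e]; exact h1

variable [Finite H] [Finite M] [FaithfulSMul H M]

/-- the case `|A₀| ≥ 4` -/
theorem all_four (c : Mix v0 A) (hA : 4 ≤ Nat.card c.A0) : ∀ a ∈ A, ∀ m : M, a • m = m ∨ a • m = m + v0 := by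
  obtain ⟨B, b1, -, b3, b4, b5, b6, b7, b8, b9⟩ := tv2 c.tva hA
  have hne : ∀ h : H, h • v0 ≠ 0 := fun h e => c.ne ((smul_eq_zero_iff_eq h).mp e)
  -- a common nonzero vector
  have beq : ∀ h k : H, ∀ m : M, m ≠ 0 → m ∈ B h → m ∈ B k → B h = B k := by
    intro h k m hm h1 h2
    rcases b4 h k with e | e
    · exact e
    · exact absurd (e m h1 h2) hm
  have hv1 : v0 ∈ B 1 := by
    have := b1 1
    rwa [one_smul] at this
  -- blocks which are fixed
  have step1 : ∀ a ∈ A, ∀ j : H, B j ≠ B 1 → B (a * j) = B j → ∀ b ∈ B j, a • b = b := by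
    intro a ha j hj haj b hb
    by_contra hcon
    have hd0 : a • b - b ≠ 0 := sub_ne_zero.mpr hcon
    have hab : a • b ∈ B j := by
      rw [← haj]; exact b5 a j b hb
    have hd : a • b - b ∈ B j := sub_mem hab hb
    obtain ⟨k, hk, hkj⟩ := b3 j _ hd hd0
    have hkv : k • v0 ≠ v0 := by
      intro e
      rw [e] at hk
      rw [hk] at hd
      exact hj (beq j 1 v0 c.ne hd hv1)
    obtain ⟨l, hl⟩ := c.plane a ha b k hk hkv
    have hkB : k • v0 ∈ B j := by rw [← hk]; exact hd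
    have hlB := b1 l
    by_cases e1 : B l = B 1
    · have h1 : k • v0 ∈ B 1 := by
        rw [e1, ← hl] at hlB
        have := sub_mem hlB hv1
        rwa [add_sub_cancel_left] at this
      exact hj (beq j 1 _ (hne k) hkB h1)
    by_cases e2 : B l = B j
    · have h1 : v0 ∈ B j := by
        rw [e2, ← hl] at hlB
        have := sub_mem hlB hkB
        rwa [add_sub_cancel_right] at this
      exact hj (beq j 1 _ c.ne h1 hv1)
    · have h1 : l • v0 ∈ (⨆ h : {h : H // B h ≠ B l}, B h) := by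
        rw [← hl]
        refine add_mem ?_ ?_
        · exact (le_iSup (fun h : {h : H // B h ≠ B l} => B h) ⟨1, fun e => e1 e.symm⟩) hv1
        · exact (le_iSup (fun h : {h : H // B h ≠ B l} => B h) ⟨j, fun e => e2 e.symm⟩) hkB
      exact hne l (b9 l _ hlB h1)
  -- all other blocks
  have step2 : ∀ a ∈ A, ∀ j : H, B j ≠ B 1 → ∀ b ∈ B j, a • b = b := by
    intro a ha j hj
    by_cases haj : B (a * j) = B j
    · exact step1 a ha j hj haj
    exfalso
    obtain ⟨α0, hα0, hα1⟩ : ∃ α0 ∈ c.A0, α0 ≠ 1 := by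
      by_contra hcon
      push Not at hcon
      have : c.A0 = ⊥ := by
        rw [eq_bot_iff]
        intro x hx
        exact Subgroup.mem_bot.mpr (hcon x hx)
      rw [this, Subgroup.card_bot] at hA
      omega
    set α := j * α0 * j⁻¹ with hα
    have hα' : α ≠ 1 := by
      intro e
      apply hα1
      calc α0 = j⁻¹ * (j * α0 * j⁻¹) * j := by group
        _ = 1 := by rw [← hα, e]; group
    have htr : ∀ k : H, B j ≠ B k → ∀ m ∈ B k, α • m = m := fun k hk m hm => b7 j k hk α0 hα0 m hm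
    have hfix : α • v0 = v0 := htr 1 hj v0 hv1
    have hγ : α * a * α⁻¹ * a⁻¹ ∈ A := mul_mem (c.nor α hfix a ha) (inv_mem ha)
    -- on `B j`
    have hact : ∀ m ∈ B j, (α * a * α⁻¹ * a⁻¹) • m = α • m := by
      intro m hm
      have e : α * a * α⁻¹ * a⁻¹ = α * ((a * j) * α0⁻¹ * (a * j)⁻¹) := by rw [hα]; group
      rw [e, mul_smul, b7 (a * j) j haj α0⁻¹ (inv_mem hα0) m hm]
    have hjv : α • j • v0 = j • v0 := by
      rw [hα, mul_smul, mul_smul, inv_smul_smul, c.fix α0 hα0.1]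
    have hγj : B (α * a * α⁻¹ * a⁻¹ * j) = B j := by
      refine beq _ _ (j • v0) (hne j) ?_ (b1 j)
      have := b5 (α * a * α⁻¹ * a⁻¹) j _ (b1 j)
      rwa [hact _ (b1 j), hjv] at this
    have hγt := step1 _ hγ j hj hγj
    apply hα'
    refine FaithfulSMul.eq_of_smul_eq_smul (α := M) fun m => ?_
    rw [one_smul]
    have hm : m ∈ ⨆ h, B h := by rw [b8]; trivial
    let S : AddSubgroup M :=
      { carrier := {m | α • m = m}
        zero_mem' := smul_zero _
        add_mem' := fun {a b} ha hb => by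
          change α • (a + b) = a + b
          rw [smul_add, show α • a = a from ha, show α • b = b from hb]
        neg_mem' := fun {a} ha => by
          change α • (-a) = -a
          rw [smul_neg, show α • a = a from ha] }
    have hS : (⨆ h, B h) ≤ S := by
      refine iSup_le fun h n hn => ?_
      by_cases e : B j = B h
      · change α • n = n
        rw [← e] at hn
        rw [← hact n hn]
        exact hγt n hn
      · exact htr h e n hn
    exact hS hm
  -- the first block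
  intro a ha m
  have hm : m ∈ ⨆ h, B h := by rw [b8]; trivial
  have hle : (⨆ h, B h) ≤ tvs v0 a := by
    refine iSup_le fun h n hn => ?_
    by_cases e : B h = B 1
    · rw [e] at hn
      change a • n = n ∨ a • n = n + v0
      by_contra hcon
      push Not at hcon
      have haB : B (a * 1) = B 1 := by
        refine beq _ _ v0 c.ne ?_ hv1
        have := b5 a 1 v0 hv1
        rwa [c.fix a ha] at this
      have hd : a • n - n ∈ B 1 := by
        have := b5 a 1 n hn
        rw [haB] at this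
        exact sub_mem this hn
      have hd0 : a • n - n ≠ 0 := sub_ne_zero.mpr hcon.1
      have hd1 : a • n - n ≠ v0 := fun e1 => hcon.2 (by rw [← e1]; abel)
      -- a functional on `B 1`
      let D : sbm (B 1) := ⟨a • n - n, hd⟩
      let L : sbm (B 1) := ⟨v0, hv1⟩
      have hDL : D ∉ Submodule.span (ZMod 2) {L} := by
        rw [Submodule.mem_span_singleton]
        rintro ⟨r, hr⟩
        have hr' : r • v0 = a • n - n := congrArg Subtype.val hr
        rcases z2_cases r with e2 | e2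
        · rw [e2, zero_smul] at hr'; exact hd0 hr'.symm
        · rw [e2, one_smul] at hr'; exact hd1 hr'.symm
      obtain ⟨g, hgD, hgL⟩ := Submodule.exists_dual_map_eq_bot_of_notMem hDL inferInstance
      have hL : g L = 0 := by
        have h1 : g L ∈ (Submodule.span (ZMod 2) {L}).map g := ⟨L, Submodule.mem_span_singleton_self L, rfl⟩
        rw [hgL] at h1
        exact (Submodule.mem_bot _).mp h1
      have h11 : (1 : H) • v0 ∈ B 1 := b1 1
      obtain ⟨β, hβ, hβ1⟩ := b6 1 g h11 (by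
        have : (⟨(1 : H) • v0, h11⟩ : sbm (B 1)) = L := Subtype.ext (one_smul _ _)
        rw [this]; exact hL)
      have h2 := hβ1 (a • n - n) hd
      have h3 : g ⟨a • n - n, hd⟩ = 1 := (z2_cases _).resolve_left hgD
      rw [h3, one_smul, one_smul, one_mul, inv_one, mul_one, c.quad β hβ.1 a ha n, left_eq_add] at h2
      exact c.ne h2
    · exact Or.inl (step2 a ha h e n hn)
  exact hle hm

/-- the case `A₀ = {1, a0}` -/
theorem all_two (c : Mix v0 A) {a0 : H} (ha0 : a0 ∈ c.A0) (ha01 : a0 ≠ 1) (h2 : ∀ a ∈ c.A0, a = 1 ∨ a = a0) :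
    ∀ a ∈ A, ∀ m : M, a • m = m ∨ a • m = m + v0 := by
  have hcen : ∀ x : H, x • v0 = v0 → x * a0 = a0 * x := by
    intro x hx
    rcases h2 _ (c.A0_nor hx ha0) with e | e
    · exfalso
      apply ha01
      calc a0 = x⁻¹ * (x * a0 * x⁻¹) * x := by group
        _ = 1 := by rw [e]; group
    · calc x * a0 = (x * a0 * x⁻¹) * x := by group
        _ = a0 * x := by rw [e]
  obtain ⟨m1, hm1⟩ : ∃ m : M, a0 • m ≠ m := by
    by_contra hcon
    push Not at hcon
    exact ha01 (FaithfulSMul.eq_of_smul_eq_smul (α := M) fun m => by rw [one_smul]; exact hcon m)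
  have P : Abs.Pre v0 a0 :=
    { two := two_of_module
      ne := ⟨m1, hm1⟩
      mv := ha0.2
      stab := hcen
      span := c.span
      sym := by
        intro x hx
        -- `x⁻¹ a0 x` fixes `v0`
        have h3 : (x⁻¹ * a0 * x) • v0 = v0 := by
          rw [mul_smul, mul_smul, hx, inv_smul_smul]
        have h4 := hcen _ h3
        have h5 : (x * a0 * x⁻¹) * a0 = a0 * (x * a0 * x⁻¹) := by
          calc (x * a0 * x⁻¹) * a0 = x * (a0 * (x⁻¹ * a0 * x)) * x⁻¹ := by group
            _ = x * ((x⁻¹ * a0 * x) * a0) * x⁻¹ := by rw [h4]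
            _ = a0 * (x * a0 * x⁻¹) := by group
        set y := x * a0 * x⁻¹ with hy
        have h6 : a0 • m1 = m1 + v0 := (ha0.2 m1).resolve_left hm1
        have h7 : a0 • y • m1 = y • m1 + y • v0 := by
          rw [← mul_smul, ← h5, mul_smul, h6, smul_add]
        rcases ha0.2 (y • m1) with h8 | h8
        · rw [h7, add_eq_left] at h8
          exact absurd ((smul_eq_zero_iff_eq y).mp h8) c.ne
        · rw [h7] at h8
          exact add_left_cancel h8 }
  obtain ⟨B, F⟩ := P.exists_form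
  have S := F.sys
  have hv0 : v0 ∈ Set.range fun x : H => x • v0 := ⟨1, one_smul _ _⟩
  -- the radical
  let Rad : AddSubgroup M :=
    { carrier := {m | ∀ n, B m n = 0}
      zero_mem' := fun n => S.zero_left n
      add_mem' := fun {a b} ha hb n => by rw [F.add_left, ha n, hb n, add_zero]
      neg_mem' := fun {a} ha n => by rw [S.neg_eq]; exact ha n }
  have hRad : ∀ (h : H), ∀ x ∈ Rad, h • x ∈ Rad := by
    intro h x hx n
    have := F.inv h x (h⁻¹ • n)
    rw [smul_inv_smul] at this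
    rw [this]; exact hx _
  have hRadv : v0 ∉ Rad := by
    intro hv
    obtain ⟨m, hm⟩ := F.ne
    have := hv m
    rw [F.symm, hm] at this
    exact one_ne_zero this
  -- `O₂(H) = 1`
  have hrd : ∀ x : H, (∀ m : M, x • m - m ∈ Rad) → (∀ m ∈ Rad, x • m = m) → x = 1 := by
    intro x hx1 hx2
    let rd : Subgroup H :=
      { carrier := {x | (∀ m : M, x • m - m ∈ Rad) ∧ ∀ m ∈ Rad, x • m = m}
        one_mem' := ⟨fun m => by simp [zero_mem], fun m _ => one_smul _ _⟩
        mul_mem' := by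
          rintro x y ⟨hx1, hx2⟩ ⟨hy1, hy2⟩
          refine ⟨fun m => ?_, fun m hm => by rw [mul_smul, hy2 m hm, hx2 m hm]⟩
          have : (x * y) • m - m = (x • y • m - y • m) + (y • m - m) := by rw [mul_smul]; abel
          rw [this]
          exact add_mem (hx1 _) (hy1 _)
        inv_mem' := by
          rintro x ⟨hx1, hx2⟩
          refine ⟨fun m => ?_, fun m hm => by rw [inv_smul_eq_iff, hx2 m hm]⟩
          have := neg_mem (hx1 (x⁻¹ • m))
          rwa [smul_inv_smul, neg_sub] at this }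
    have hb : rd = ⊥ := by
      refine c.o2 _ ⟨fun x hx g => ?_⟩ ?_
      · obtain ⟨h1, h2⟩ := hx
        constructor
        · intro m
          have h3 := hRad g _ (h1 (g⁻¹ • m))
          rw [smul_sub, smul_inv_smul] at h3
          rwa [mul_smul, mul_smul]
        · intro m hm
          have h3 := h2 _ (hRad g⁻¹ _ hm)
          rw [mul_smul, mul_smul, h3, smul_inv_smul]
      · rw [IsPGroup]
        rintro ⟨x, h1, h2⟩
        refine ⟨1, Subtype.ext ?_⟩
        change x ^ (2 ^ 1) = 1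
        rw [pow_one, pow_two]
        refine FaithfulSMul.eq_of_smul_eq_smul (α := M) fun m => ?_
        have h3 := h2 _ (h1 m)
        rw [smul_sub, sub_eq_sub_iff_add_eq_add, two_of_module] at h3
        rw [mul_smul, one_smul]
        exact (eq_neg_of_add_eq_zero_left h3).trans (neg_eq_of_add_eq_zero_left (two_of_module m))
    have : x ∈ rd := ⟨hx1, hx2⟩
    rw [hb] at this
    exact Subgroup.mem_bot.mp this
  -- `t_x`
  have htx : ∀ (x : H) (m : M), (B m (x • v0) = 0 ∧ (x * a0 * x⁻¹) • m = m) ∨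
      (B m (x • v0) = 1 ∧ (x * a0 * x⁻¹) • m = m + x • v0) := by
    intro x m
    rcases z2 (B m (x • v0)) with e | e
    · exact Or.inl ⟨e, F.fix x m e⟩
    · exact Or.inr ⟨e, F.mv x m e⟩
  -- (1.3)
  have hinj : ∀ x y : H, (∀ m, B (x • v0) m = B (y • v0) m) → x • v0 = y • v0 := by
    intro x y hxy
    have hr : x • v0 + y • v0 ∈ Rad := fun n => by rw [F.add_left, hxy n, z2_add]
    have hyy : B (y • v0) (x • v0) = 0 := by rw [F.symm, hxy, F.self]
    have e1 : ∀ m, (x * a0 * x⁻¹ * (y * a0 * y⁻¹)) • m = m ∨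
        (x * a0 * x⁻¹ * (y * a0 * y⁻¹)) • m = m + (x • v0 + y • v0) := by
      intro m
      rw [mul_smul]
      rcases htx y m with ⟨h3, h4⟩ | ⟨h3, h4⟩
      · left
        rw [h4]
        exact F.fix x m (by rw [F.symm, hxy, F.symm, h3])
      · right
        rw [h4]
        have h5 : B (m + y • v0) (x • v0) = 1 := by
          rw [F.add_left, hyy, add_zero, F.symm, hxy, F.symm, h3]
        rw [F.mv x _ h5]
        abel
    have h1 := hrd (x * a0 * x⁻¹ * (y * a0 * y⁻¹)) (fun m => by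
      rcases e1 m with e | e
      · rw [e, sub_self]; exact zero_mem _
      · rw [e, add_sub_cancel_left]; exact hr) (fun m hm => by
      rw [mul_smul, F.fix y m (hm _), F.fix x m (hm _)])
    obtain ⟨m, hm⟩ := S.nd _ ⟨y, rfl⟩
    change B (y • v0) m = 1 at hm
    have h3 : (x * a0 * x⁻¹ * (y * a0 * y⁻¹)) • m = m + (x • v0 + y • v0) := by
      rw [mul_smul, F.mv y m (by rw [F.symm]; exact hm)]
      rw [F.mv x _ (by rw [F.add_left, hyy, add_zero, F.symm, hxy]; exact hm)]
      abel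
    rw [h1, one_smul, left_eq_add] at h3
    exact eq_of_add' h3
  -- `A` centralises `TT ∩ λ^⊥`
  have hperp : ∀ a ∈ A, ∀ x : H, B v0 (x • v0) = 0 → a • x • v0 = x • v0 := by
    intro a ha x hx
    by_contra hcon
    have hne : a • x • v0 ≠ x • v0 := hcon
    have hfix : (x * a0 * x⁻¹) • v0 = v0 := F.fix x v0 hx
    have hc : (x * a0 * x⁻¹) * a * (x * a0 * x⁻¹)⁻¹ * a⁻¹ ∈ A := mul_mem (c.nor _ hfix a ha) (inv_mem ha)
    have h00 : a0 * a0 = 1 := by
      refine FaithfulSMul.eq_of_smul_eq_smul (α := M) fun m => ?_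
      rw [mul_smul, one_smul]
      rcases ha0.2 m with e | e
      · rw [e, e]
      · rw [e, smul_add, e, c.fix a0 ha0.1, add_cancel2]
    have h01 : a0⁻¹ = a0 := inv_eq_of_mul_eq_one_right h00
    have he : (x * a0 * x⁻¹) * a * (x * a0 * x⁻¹)⁻¹ * a⁻¹ = (x * a0 * x⁻¹) * ((a * x) * a0 * (a * x)⁻¹) := by
      calc (x * a0 * x⁻¹) * a * (x * a0 * x⁻¹)⁻¹ * a⁻¹ = (x * a0 * x⁻¹) * ((a * x) * a0⁻¹ * (a * x)⁻¹) := by group
        _ = _ := by rw [h01]
    rw [he] at hc
    -- a vector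
    obtain ⟨m, hm1, hm2⟩ : ∃ m, B m (a • x • v0) = 0 ∧ B m (x • v0) = 1 := by
      by_contra hno
      push Not at hno
      have hno' : ∀ m, B m (a • x • v0) = 0 → B m (x • v0) = 0 := fun m hm => z2_ne' (hno m hm)
      obtain ⟨m2, hm2⟩ := S.nd _ ⟨x, rfl⟩
      change B (x • v0) m2 = 1 at hm2
      rw [F.symm] at hm2
      have hm3 : B m2 (a • x • v0) = 1 := by
        rcases z2 (B m2 (a • x • v0)) with e | e
        · rw [hno' m2 e] at hm2; exact absurd hm2 zero_ne_one
        · exact e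
      apply hne
      have := hinj (a * x) x (fun m => by
        rw [mul_smul, F.symm _ m, F.symm _ m]
        rcases z2 (B m (a • x • v0)) with e | e
        · rw [e, hno' m e]
        · rw [e]
          have h3 := hno' (m + m2) (by rw [F.add_left, e, hm3, z2_add])
          rw [F.add_left, hm2] at h3
          have h4 := z2_eq_of_add h3
          exact h4.symm)
      rwa [mul_smul] at this
    have h3 : ((x * a0 * x⁻¹) * ((a * x) * a0 * (a * x)⁻¹)) • m = m + x • v0 := by
      rw [mul_smul, F.fix (a * x) m (by rw [mul_smul]; exact hm1), F.mv x m hm2]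
    have h4 := c.quad a ha _ hc m
    rw [h3, add_sub_cancel_left] at h4
    exact hne h4
  -- `A` centralises `λ^⊥`
  have hcl : ∀ a ∈ A, ∀ m, B v0 m = 0 → a • m = m := by
    intro a ha m hm
    by_contra hcon
    have hd : a • m - m ≠ 0 := sub_ne_zero.mpr hcon
    have h1 : ¬ ∀ φ : Module.Dual (ZMod 2) M, φ (a • m - m) = 0 := by
      rw [Module.forall_dual_apply_eq_zero_iff (ZMod 2)]; exact hd
    push Not at h1
    obtain ⟨φ, hφ⟩ := h1
    rcases S.fun_eq hv0 (g := fun n => φ (a • n - n)) (fun p q => by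
        have : a • (p + q) - (p + q) = (a • p - p) + (a • q - q) := by rw [smul_add]; abel
        rw [this, map_add]) (by
        rintro _ ⟨x, rfl⟩ hx
        change φ (a • x • v0 - x • v0) = 0
        rw [hperp a ha x hx, sub_self, map_zero]) with h3 | h3
    · exact hφ (h3 m)
    · have := h3 m
      rw [hm] at this
      exact hφ this
  intro a ha m
  obtain ⟨m0, hm0⟩ := F.ne
  have hm0' : B v0 m0 = 1 := by rw [F.symm]; exact hm0
  have ha0m : a0 • m0 = m0 + v0 := by
    have := F.mv 1 m0 (by rw [one_smul]; exact hm0)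
    rwa [one_smul, one_mul, inv_one, mul_one] at this
  -- `a m = m + (λ, m) c`
  have hform : ∀ n, B v0 n = 1 → a • n - n = a • m0 - m0 := by
    intro n hn
    have h1 := hcl a ha (n + m0) (by rw [F.add_right, hn, hm0', z2_add])
    rw [smul_add] at h1
    have h3 : a • n - n = -(a • m0 - m0) := by
      rw [eq_neg_iff_add_eq_zero]
      calc a • n - n + (a • m0 - m0) = (a • n + a • m0) - (n + m0) := by abel
        _ = 0 := by rw [h1, sub_self]
    rw [h3, neg_eq_of_add_eq_zero_left (two_of_module _)]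
  set d := a • m0 - m0 with hd
  have ham0 : a • m0 = m0 + d := by rw [hd]; abel
  have hRadne : Rad ≠ ⊤ := fun e => hRadv (by rw [e]; trivial)
  -- isometry
  have hiso : ∀ n, B d n = B m0 d * B v0 n := by
    intro n
    rcases z2 (B v0 n) with e | e
    · rw [e, mul_zero]
      have h1 := F.inv a m0 n
      rw [ham0, hcl a ha n e, F.add_left] at h1
      have h3 : B m0 n + B d n = B m0 n + 0 := by rw [h1, add_zero]
      exact add_left_cancel h3
    · rw [e, mul_one]
      have h1 := F.inv a m0 n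
      have h3 : a • n = n + d := by rw [← hform n e]; abel
      rw [ham0, h3, F.add_left, F.add_right, F.add_right, F.self, add_zero] at h1
      have h4 : B m0 n + (B m0 d + B d n) = B m0 n + 0 := by rw [← add_assoc, h1, add_zero]
      exact (z2_eq_of_add (add_left_cancel h4)).symm
  have hdc : d = 0 ∨ d = v0 := by
    rcases z2 (B m0 d) with e | e
    · left
      have hdR : d ∈ Rad := fun n => by rw [hiso, e, zero_mul]
      have := c.irr Rad hRad hRadne a ha m0 (by rw [← hd]; exact hdR)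
      rw [hd, this, sub_self]
    · right
      have hdR : d + v0 ∈ Rad := fun n => by rw [F.add_left, hiso, e, one_mul, z2_add]
      have h1 : (a * a0) • m0 - m0 = d + v0 := by
        rw [mul_smul, ha0m, smul_add, c.fix a ha, ham0]; abel
      have h3 := c.irr Rad hRad hRadne (a * a0) (mul_mem ha ha0.1) m0 (by rw [h1]; exact hdR)
      rw [h3, sub_self] at h1
      exact eq_of_add' h1.symm
  rcases z2 (B v0 m) with e | e
  · exact Or.inl (hcl a ha m e)
  · have h1 : a • m = m + d := by rw [← hform m e]; abel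
    rcases hdc with h3 | h3
    · left; rw [h1, h3, add_zero]
    · right; rw [h1, h3]

/-- **The mixed case**: if one `1 ≠ a ∈ A` is a transvection with centre `v0`, all are. -/
theorem all (c : Mix v0 A) {a0 : H} (ha0 : a0 ∈ A) (ha01 : a0 ≠ 1) (ht : ∀ m : M, a0 • m = m ∨ a0 • m = m + v0) :
    ∀ a ∈ A, ∀ m : M, a • m = m ∨ a • m = m + v0 := by
  have h0 : a0 ∈ c.A0 := ⟨ha0, ht⟩
  by_cases h2 : ∀ a ∈ c.A0, a = 1 ∨ a = a0
  · exact c.all_two h0 ha01 h2
  · push Not at h2
    obtain ⟨a1, h1, h11, h10⟩ := h2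
    refine c.all_four ?_
    have hsq : ∀ a ∈ c.A0, a * a = 1 := by
      intro a ha
      refine FaithfulSMul.eq_of_smul_eq_smul (α := M) fun m => ?_
      rw [mul_smul, one_smul]
      rcases ha.2 m with e | e
      · rw [e, e]
      · rw [e, smul_add, e, c.fix a ha.1, add_cancel2]
    have e01 : a0 * a1 ≠ 1 := by
      intro e
      apply h10
      have := hsq a0 h0
      rw [← this] at e
      exact mul_left_cancel e
    have e02 : a0 * a1 ≠ a0 := fun e => h11 (by simpa using e)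
    have e03 : a0 * a1 ≠ a1 := fun e => ha01 (by simpa using e)
    classical
    have hsub : ({⟨1, one_mem _⟩, ⟨a0, h0⟩, ⟨a1, h1⟩, ⟨a0 * a1, mul_mem h0 h1⟩} : Finset c.A0).card = 4 := by
      rw [Finset.card_insert_of_notMem, Finset.card_insert_of_notMem, Finset.card_insert_of_notMem,
        Finset.card_singleton]
      · simpa using fun e => ha01 e
      · simp only [Finset.mem_insert, Finset.mem_singleton, Subtype.mk.injEq, not_or]
        exact ⟨Ne.symm h10, Ne.symm e02⟩
      · simp only [Finset.mem_insert, Finset.mem_singleton, Subtype.mk.injEq, not_or]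
        exact ⟨Ne.symm ha01, Ne.symm h11, Ne.symm e01⟩
    have : Fintype c.A0 := Fintype.ofFinite _
    rw [Nat.card_eq_fintype_card, ← hsub]
    exact Finset.card_le_univ _

end Mix

end Cfsg.Agent.Omega.NO3S.TwoOne.Mixed

end

section


/-!
# NO-3S, `CompP`: `k ≥ 2`, `A` consists of `λ`-transvections: the module part

The blocks `B h` of THEOREM TV2 (helper204, `TV/TwoEnd.lean`), together with the identification `α : M / Ē = A`:

* `Bk` : the blocks; `exists_bk` : they exist (`tv2`);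
* `Bk.al_other` : `α` is trivial on the blocks which do not contain `v0`;
* `Bk.al_self` : `α m = 1`, `m ∈ B 1` imply `m ∈ {0, v0}`;
* `Bk.card_A` : `|A| = 4`.
-/

set_option autoImplicit false
set_option linter.unusedSectionVars false

namespace Cfsg.Agent.Omega.NO3S.TvBig

open Cfsg.Agent.Omega.NO3S.Fit.Abs Cfsg.Agent.Omega.NO3S.TV

variable {H M : Type*} [Group H] [AddCommGroup M] [Module (ZMod 2) M] [DistribMulAction H M]

/-- the blocks of THEOREM TV2 -/
structure Bk (v0 : M) (A : Subgroup H) (B : H → AddSubgroup M) : Prop where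
  self : ∀ h, h • v0 ∈ B h
  card : ∀ h, Nat.card (B h) = 2 * Nat.card A
  pt : ∀ h, ∀ m ∈ B h, m ≠ 0 → ∃ k : H, m = k • v0 ∧ B k = B h
  dis : ∀ h k, B h = B k ∨ ∀ m ∈ B h, m ∈ B k → m = 0
  smul : ∀ x h, ∀ m ∈ B h, x • m ∈ B (x * h)
  full : ∀ h, ∀ (g : Module.Dual (ZMod 2) (sbm (B h))) (hv : h • v0 ∈ B h), g ⟨h • v0, hv⟩ = 0 →
        ∃ a ∈ A, ∀ m (hm : m ∈ B h), (h * a * h⁻¹) • m = m + g ⟨m, hm⟩ • h • v0
  triv : ∀ h k, B h ≠ B k → ∀ a ∈ A, ∀ m ∈ B k, (h * a * h⁻¹) • m = m
  sup : (⨆ h, B h) = ⊤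
  ind : ∀ k, ∀ m ∈ B k, m ∈ (⨆ h : {h : H // B h ≠ B k}, B h) → m = 0

theorem exists_bk [Finite H] [Finite M] [FaithfulSMul H M] {v0 : M} {A : Subgroup H} (c : TVA v0 A)
    (hA : 4 ≤ Nat.card A) : ∃ B : H → AddSubgroup M, Bk v0 A B := by
  obtain ⟨B, h1, h2, h3, h4, h5, h6, h7, h8, h9⟩ := tv2 c hA
  exact ⟨B, h1, h2, h3, h4, h5, h6, h7, h8, h9⟩

/-- the identification `M / Ē = A` -/
structure Al (v0 : M) (A : Subgroup H) (al : M → H) : Prop where
  mem : ∀ m, al m ∈ A
  add : ∀ m m', al (m + m') = al m * al m'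
  surj : ∀ a ∈ A, ∃ m, al m = a
  conj : ∀ x : H, x • v0 = v0 → ∀ m, al (x • m) = x * al m * x⁻¹
  v0 : al v0 = 1

namespace Bk

variable {v0 : M} {A : Subgroup H} {B : H → AddSubgroup M} {al : M → H}

theorem self_one (b : Bk v0 A B) : v0 ∈ B 1 := by
  have := b.self 1
  rwa [one_smul] at this

theorem eq_of_mem (b : Bk v0 A B) {h k : H} {m : M} (h1 : m ∈ B h) (h2 : m ∈ B k) (h0 : m ≠ 0) : B h = B k := by
  rcases b.dis h k with e | e
  · exact e
  · exact absurd (e m h1 h2) h0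

theorem eq_smul (b : Bk v0 A B) (c : TVA v0 A) {x h : H} (e : x • v0 = h • v0) : B x = B h := by
  have h1 := b.self x
  rw [e] at h1
  exact b.eq_of_mem h1 (b.self h) (fun e => c.ne ((smul_eq_zero_iff_eq h).mp e))

theorem ne_self (_ : Bk v0 A B) (c : TVA v0 A) (h : H) : h • v0 ≠ 0 := fun e => c.ne ((smul_eq_zero_iff_eq h).mp e)

/-- the functional of `h • v0 ≠ m` -/
theorem exists_fun (b : Bk v0 A B) {h : H} {m : M} (hm : m ∈ B h) (h0 : m ≠ 0) (h1 : m ≠ h • v0) :
    ∃ a ∈ A, (h * a * h⁻¹) • m = m + h • v0 := by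
  -- a functional `g` with `g (h v0) = 0`, `g m = 1`
  have hnot : (⟨m, hm⟩ : sbm (B h)) ∉ Submodule.span (ZMod 2) {(⟨h • v0, b.self h⟩ : sbm (B h))} := by
    rw [Submodule.mem_span_singleton]
    rintro ⟨r, hr⟩
    rcases z2_cases r with rfl | rfl
    · rw [zero_smul] at hr
      exact h0 (congrArg Subtype.val hr).symm
    · rw [one_smul] at hr
      exact h1 (congrArg Subtype.val hr).symm
  obtain ⟨g, hg1, hg2⟩ := Submodule.exists_dual_map_eq_bot_of_notMem hnot inferInstance
  have hg0 : g ⟨h • v0, b.self h⟩ = 0 := by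
    have : g ⟨h • v0, b.self h⟩ ∈ (Submodule.span (ZMod 2) {(⟨h • v0, b.self h⟩ : sbm (B h))}).map g :=
      Submodule.mem_map_of_mem (Submodule.mem_span_singleton_self _)
    rw [hg2] at this
    exact this
  obtain ⟨a, ha, e⟩ := b.full h g (b.self h) hg0
  refine ⟨a, ha, ?_⟩
  rw [e m hm, (z2_cases _).resolve_left hg1, one_smul]

theorem one_triv (b : Bk v0 A B) {l : H} (hl : B l ≠ B 1) {a : H} (ha : a ∈ A) {m : M} (hm : m ∈ B l) :
    a • m = m := by
  have := b.triv 1 l (Ne.symm hl) a ha m hm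
  rwa [one_mul, inv_one, mul_one] at this

theorem mul_ne (b : Bk v0 A B) (c : TVA v0 A) {x l : H} (hx : x • v0 = v0) (hl : B l ≠ B 1) : B (x * l) ≠ B 1 := by
  intro e
  apply hl
  have e1 : B x = B 1 := b.eq_smul c (by rw [hx, one_smul])
  have h1 := b.self (x * l)
  rw [e, ← e1] at h1
  have h2 := b.smul x⁻¹ x _ h1
  rw [inv_mul_cancel, mul_smul, inv_smul_smul] at h2
  exact b.eq_of_mem (b.self l) h2 (b.ne_self c l)

theorem ext_blocks (b : Bk v0 A B) [FaithfulSMul H M] {x y : H} (hh : ∀ l, ∀ m ∈ B l, x • m = y • m) : x = y := by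
  refine FaithfulSMul.eq_of_smul_eq_smul (α := M) fun m => ?_
  let E : AddSubgroup M :=
    { carrier := {m | x • m = y • m}
      zero_mem' := by simp
      add_mem' := fun {m n} (hm : x • m = y • m) (hn : x • n = y • n) => by
        change x • (m + n) = y • (m + n)
        rw [smul_add, smul_add, hm, hn]
      neg_mem' := fun {m} (hm : x • m = y • m) => by
        change x • (-m) = y • (-m)
        rw [smul_neg, smul_neg, hm] }
  have h1 : (⨆ h, B h) ≤ E := iSup_le fun h m hm => hh h m hm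
  rw [b.sup] at h1
  exact h1 (AddSubgroup.mem_top m)

/-- `A^k` centralises `A` if the block of `k v0` does not contain `v0` -/
theorem comm_other (b : Bk v0 A B) (c : TVA v0 A) [FaithfulSMul H M] {k : H} (hk : B k ≠ B 1) {a a' : H}
    (ha : a ∈ A) (ha' : a' ∈ A) : k * a * k⁻¹ * a' = a' * (k * a * k⁻¹) := by
  have hx : (k * a * k⁻¹) • v0 = v0 := b.triv k 1 hk a ha v0 b.self_one
  refine b.ext_blocks fun l m hm => ?_
  by_cases hl : B l = B 1
  · rw [hl] at hm
    have h1 : a' • m ∈ B 1 := by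
      have h2 := b.smul a' 1 m hm
      rw [mul_one, b.eq_smul c (x := a') (h := 1) (by rw [c.fix a' ha', one_smul])] at h2
      exact h2
    rw [mul_smul _ a', mul_smul a', b.triv k 1 hk a ha _ h1, b.triv k 1 hk a ha _ hm]
  · rw [mul_smul _ a', mul_smul a', b.one_triv hl ha' hm,
      b.one_triv (b.mul_ne c hx hl) ha' (b.smul _ _ _ hm)]

theorem exists_mem [Finite H] [Finite M] (b : Bk v0 A B) (hA : 4 ≤ Nat.card A) (k : H) (s : Set M)
    (hs : s.ncard < 8) : ∃ m ∈ B k, m ∉ s := by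
  by_contra hcon
  push Not at hcon
  have h1 : (B k : Set M) ⊆ s := fun m hm => hcon m hm
  have h2 := Set.ncard_le_ncard h1 (Set.toFinite _)
  have h3 : Set.ncard (B k : Set M) = Nat.card (B k) := (Nat.card_coe_set_eq _).symm
  rw [h3, b.card] at h2
  omega

/-- `α` is trivial on the other blocks -/
theorem al_other [Finite H] [Finite M] (b : Bk v0 A B) (c : TVA v0 A) (hA : 4 ≤ Nat.card A) [FaithfulSMul H M]
    (d : Al v0 A al) {h : H} (hh : B h ≠ B 1) {m : M} (hm : m ∈ B h) : al m = 1 := by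
  have h10 : al 0 = 1 := by
    have := d.add 0 0
    rw [add_zero] at this
    exact (mul_eq_left.mp this.symm)
  by_cases hm0 : m = 0
  · rw [hm0, h10]
  obtain ⟨k, rfl, hk⟩ := b.pt h m hm hm0
  rw [← hk] at hh
  obtain ⟨m', hm', hn⟩ := b.exists_mem hA k {0, k • v0} (lt_of_le_of_lt (Set.ncard_insert_le _ _) (by simp))
  simp only [Set.mem_insert_iff, Set.mem_singleton_iff, not_or] at hn
  obtain ⟨a, ha, e⟩ := b.exists_fun hm' hn.1 hn.2
  have hx : (k * a * k⁻¹) • v0 = v0 := b.triv k 1 hh a ha v0 b.self_one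
  have h1 := d.conj _ hx m'
  rw [b.comm_other c hh ha (d.mem m'), mul_inv_cancel_right, e, d.add] at h1
  exact mul_eq_left.mp h1

/-- every element of `A` is the image of an element of `B 1` -/
theorem exists_one [Finite H] [Finite M] (b : Bk v0 A B) (c : TVA v0 A) (hA : 4 ≤ Nat.card A) [FaithfulSMul H M]
    (d : Al v0 A al) (m : M) : ∃ m1 ∈ B 1, al m1 = al m := by
  have h10 : al 0 = 1 := by
    have := d.add 0 0
    rw [add_zero] at this
    exact (mul_eq_left.mp this.symm)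
  have hneg : ∀ m, al (-m) = al m := fun m => by rw [neg_eq_of_add_eq_zero_left (two_of_module m)]
  let E : AddSubgroup M :=
    { carrier := {m | ∃ m1 ∈ B 1, al m1 = al m}
      zero_mem' := ⟨0, zero_mem _, rfl⟩
      add_mem' := by
        rintro m n ⟨m1, h1, e1⟩ ⟨n1, h2, e2⟩
        exact ⟨m1 + n1, add_mem h1 h2, by rw [d.add, d.add, e1, e2]⟩
      neg_mem' := by
        rintro m ⟨m1, h1, e1⟩
        exact ⟨m1, h1, by rw [hneg, e1]⟩ }
  have h1 : (⨆ h, B h) ≤ E := by
    refine iSup_le fun h m hm => ?_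
    by_cases hh : B h = B 1
    · exact ⟨m, hh ▸ hm, rfl⟩
    · exact ⟨0, zero_mem _, by rw [h10, b.al_other c hA d hh hm]⟩
  rw [b.sup] at h1
  exact h1 (AddSubgroup.mem_top m)

/-- `α` is injective modulo `v0` on `B 1` -/
theorem al_self [Finite H] [Finite M] (b : Bk v0 A B) (c : TVA v0 A) (hA : 4 ≤ Nat.card A) [FaithfulSMul H M]
    (d : Al v0 A al) {m : M} (hm : m ∈ B 1) (h1 : al m = 1) : m = 0 ∨ m = v0 := by
  have h10 : al 0 = 1 := by
    have := d.add 0 0
    rw [add_zero] at this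
    exact (mul_eq_left.mp this.symm)
  let f : B 1 →+ Additive A :=
    { toFun := fun m => Additive.ofMul ⟨al m, d.mem m⟩
      map_zero' := by
        apply congrArg Additive.ofMul
        exact Subtype.ext h10
      map_add' := fun m n => by
        apply congrArg Additive.ofMul
        exact Subtype.ext (d.add m n) }
  have hr : f.range = ⊤ := by
    rw [AddMonoidHom.range_eq_top]
    intro x
    obtain ⟨m0, e0⟩ := d.surj _ (x.toMul).2
    obtain ⟨m1, hm1, e1⟩ := b.exists_one c hA d m0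
    refine ⟨⟨m1, hm1⟩, ?_⟩
    have : (⟨al m1, d.mem m1⟩ : A) = x.toMul := Subtype.ext (e1.trans e0)
    exact congrArg Additive.ofMul this
  have h2 := AddSubgroup.card_mul_index f.ker
  rw [AddSubgroup.index_ker, hr, AddSubgroup.card_top] at h2
  have h3 : Nat.card (Additive A) = Nat.card A := rfl
  rw [h3, b.card] at h2
  have h4 : Nat.card f.ker = 2 := Nat.eq_of_mul_eq_mul_right (by omega) h2
  by_contra hcon
  push Not at hcon
  have hk : ∀ n (hn : n ∈ B 1), al n = 1 → (⟨n, hn⟩ : B 1) ∈ f.ker := by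
    intro n hn e
    rw [AddMonoidHom.mem_ker]
    apply congrArg Additive.ofMul
    exact Subtype.ext e
  let g : Fin 3 → f.ker := ![⟨_, hk 0 (zero_mem _) h10⟩, ⟨_, hk v0 b.self_one d.v0⟩, ⟨_, hk m hm h1⟩]
  have hg : Function.Injective g := by
    have key : ∀ i, (((g i : f.ker) : B 1) : M) = ![0, v0, m] i := by
      intro i; fin_cases i <;> rfl
    intro i j e
    have e' : (![0, v0, m] : Fin 3 → M) i = ![0, v0, m] j := by rw [← key, ← key, e]
    have hv := c.ne
    fin_cases i <;> fin_cases j <;> simp_all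
  have h5 := Nat.card_le_card_of_injective g hg
  rw [h4, Nat.card_fin] at h5
  omega

/-- **`|A| = 4`** -/
theorem card_A [Finite H] [Finite M] (b : Bk v0 A B) (c : TVA v0 A) (hA : 4 ≤ Nat.card A) [FaithfulSMul H M]
    (d : Al v0 A al) : Nat.card A = 4 := by
  classical
  have hp : ∃ n, Nat.card (B 1) = 2 ^ n := by
    refine ⟨Module.finrank (ZMod 2) (sbm (B 1)), ?_⟩
    have := Module.natCard_eq_pow_finrank (K := ZMod 2) (V := sbm (B 1))
    rw [Nat.card_zmod] at this
    exact this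
  obtain ⟨n, hn⟩ := hp
  rw [b.card] at hn
  suffices h8 : Nat.card A < 8 by
    have h1 : n < 4 := by
      by_contra hc
      have : 2 ^ 4 ≤ 2 ^ n := Nat.pow_le_pow_right (by norm_num) (by omega)
      omega
    interval_cases n <;> omega
  by_contra h8
  push Not at h8
  obtain ⟨u, hu, hu'⟩ := b.exists_mem hA 1 {0, v0} (lt_of_le_of_lt (Set.ncard_insert_le _ _) (by simp))
  simp only [Set.mem_insert_iff, Set.mem_singleton_iff, not_or] at hu'
  obtain ⟨k, rfl, hk⟩ := b.pt 1 u hu hu'.1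
  have hone : al (k • v0) = 1 := by
    refine b.ext_blocks fun l m' hm' => ?_
    rw [one_smul]
    by_cases hl : B l = B 1
    · rw [hl, ← hk] at hm'
      have hv : v0 ∈ B k := by rw [hk]; exact b.self_one
      -- a functional killing `k v0`, `v0`, `m'`
      have hfin : Finite (sbm (B k)) := inferInstanceAs (Finite (B k))
      let F : Finset (sbm (B k)) := {⟨k • v0, b.self k⟩, ⟨v0, hv⟩, ⟨m', hm'⟩}
      set p : Submodule (ZMod 2) (sbm (B k)) := Submodule.span (ZMod 2) (F : Set (sbm (B k))) with hpd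
      have hpt : p < ⊤ := by
        rw [lt_top_iff_ne_top]
        intro e
        have h1 : Module.finrank (ZMod 2) p ≤ 3 := (finrank_span_finset_le_card F).trans Finset.card_le_three
        rw [e, finrank_top] at h1
        have h2 := Module.natCard_eq_pow_finrank (K := ZMod 2) (V := sbm (B k))
        rw [Nat.card_zmod] at h2
        have h3 : Nat.card (sbm (B k)) = Nat.card (B k) := rfl
        rw [h3, b.card] at h2
        have h4 : 2 ^ Module.finrank (ZMod 2) (sbm (B k)) ≤ 2 ^ 3 := Nat.pow_le_pow_right (by norm_num) h1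
        omega
      obtain ⟨g, hg0, hg1⟩ := Submodule.exists_dual_map_eq_bot_of_lt_top hpt inferInstance
      have hgp : ∀ x ∈ p, g x = 0 := by
        intro x hx
        have : g x ∈ p.map g := Submodule.mem_map_of_mem hx
        rw [hg1] at this
        exact this
      have hF : ∀ x ∈ F, g x = 0 := fun x hx => hgp x (Submodule.subset_span hx)
      have g1 : g ⟨k • v0, b.self k⟩ = 0 := hF _ (by simp [F])
      have g2 : g ⟨v0, hv⟩ = 0 := hF _ (by simp [F])
      have g3 : g ⟨m', hm'⟩ = 0 := hF _ (by simp [F])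
      obtain ⟨m, hgm⟩ : ∃ m, g m = 1 := by
        by_contra hc
        push Not at hc
        apply hg0
        ext x
        exact (z2_cases (g x)).resolve_right (hc x)
      obtain ⟨a, ha, e⟩ := b.full k g (b.self k) g1
      have x1 : (k * a * k⁻¹) • v0 = v0 := by rw [e v0 hv, g2, zero_smul, add_zero]
      have x2 : (k * a * k⁻¹) • m' = m' := by rw [e m' hm', g3, zero_smul, add_zero]
      have x3 : (k * a * k⁻¹) • (m : M) = m + k • v0 := by rw [e m m.2, hgm, one_smul]
      have h1 := d.conj _ x1 (m : M)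
      rw [x3, d.add] at h1
      have x4 : (k * a * k⁻¹)⁻¹ • m' = m' := by rw [inv_smul_eq_iff, x2]
      have h2 : (al m * al (k • v0)) • m' = al m • m' := by
        rw [h1, mul_smul, mul_smul, x4]
        rcases c.tv _ (d.mem (m : M)) m' with e1 | e1
        · rw [e1, x2]
        · rw [e1, smul_add, x1, x2]
      rw [mul_smul] at h2
      exact smul_left_cancel _ h2
    · exact b.one_triv hl (d.mem _) hm'
  rcases b.al_self c hA d hu hone with e | e
  · exact hu'.1 e
  · exact hu'.2 e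

end Bk

end Cfsg.Agent.Omega.NO3S.TvBig

end

section


/-!
# NO-3S, `q = 2`, `n = 1`: `Φ = A^*` (helper409's text #17866, (N1))

`h : One T V z`, `p ≠ q` points of `V`.

* `One.w1_le_n0` : `C_{W_q}(E_p) ≤ {b | [b, W_p] ≤ V}` (no hypothesis on `A`): `Φ^⊥ ≤ rad β`;
* `NT V` : `One.nt_w1` : `C_{W_q}(E_p) = E_q`; `One.nt_phi_card` : `|E_p : D_p| = |W_q : E_q|`;
  `One.nt_relIndex_dd` : `|W_p : D_p| = |A| ^ 2`;
  `One.nt_fun_ee` : every functional of `A` is induced by an element of `E_p`: for `E_q ≤ X`, `|W_q : X| = 2`, some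
  `e ∈ E_p` has `C_{W_q}(e) = X`;
* `One.nt_move_ee` : `b ∈ W_z - E_z` is moved to `z b` by some `e ∈ E_y`;
* `One.mul_conj_kq` : `w w^k ∈ K_z` for `w ∈ W_y`, `k ∈ K_z`; `One.nt_move_dd` : `b ∈ W_z - D_z` is moved to `z b` by
  some `g ∈ ⟨W_p | p ∈ V#⟩ ∩ K_z`; `One.nt_fun_dd` : every functional of `W_z / D_z` is induced by such a `g`;
-/

set_option autoImplicit false
set_option linter.unusedSectionVars false

namespace Cfsg.Agent.Omega.NO3S.TwoOne

open Subgroup Cfsg Cfsg.Agent.ZN Cfsg.Agent.MinSimple.Geo Cfsg.Agent.Omega.CaseL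
open Cfsg.Agent.ZN.Block (conj_mem_of_normalizer conj_mem_of_normalizer' le_normalizer_of_forall
  mem_normalizer_of)
open scoped commutatorElement

universe u

variable {G : Type u} [Group G]

/-- `F_l = ⟨W_p | p ∈ V#⟩` -/
def fl (V : Subgroup G) : Subgroup G := closure {w | ∃ p ∈ V, p ≠ 1 ∧ w ∈ ws V p}

theorem ws_le_fl {V : Subgroup G} {p : G} (hp : p ∈ V) (hp1 : p ≠ 1) : ws V p ≤ fl V :=
  fun _ hw => subset_closure ⟨p, hp, hp1, hw⟩

theorem fl_le {V U : Subgroup G} (h : ∀ p ∈ V, p ≠ 1 → ws V p ≤ U) : fl V ≤ U := by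
  unfold fl
  rw [closure_le]
  rintro w ⟨p, hp, hp1, hw⟩
  exact h p hp hp1 hw

/-- the elements of `D_p` commute with `F_l` -/
theorem dd_comm_fl {V : Subgroup G} {p d f : G} (hd : d ∈ dd V p) (hf : f ∈ fl V) : d * f = f * d := by
  have h1 : fl V ≤ centralizer ({d} : Set G) := fl_le fun q hq hq1 w hw =>
    mem_centralizer_singleton_iff.mpr (hd.2 q hq hq1 w hw).symm
  exact (mem_centralizer_singleton_iff.mp (h1 hf)).symm

/-- all functionals: `[K, W] ≤ ⟨z⟩`, `C_W(K) ≤ X ≤ W`, `|W : X| = 2`; some `k ∈ K` has `C_W(k) = X`. -/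
theorem exists_fun [Finite G] {K W X : Subgroup G} {z : G} (hz : z * z = 1) (hz1 : z ≠ 1)
    (hzK : ∀ k ∈ K, z * k = k * z) (hzW : ∀ w ∈ W, z * w = w * z)
    (hKW : ∀ k ∈ K, ∀ w ∈ W, k * w = w * k ∨ k * w = z * (w * k)) (hX : X ≤ W) (h2 : X.relIndex W = 2)
    (hR : ∀ w ∈ W, (∀ k ∈ K, k * w = w * k) → w ∈ X) : ∃ k ∈ K, ∀ w ∈ W, k * w = w * k ↔ w ∈ X := by
  have h3 := MinSimple.BTwoD.pairing hz hz1 hzK hzW hKW
  have h4 := MinSimple.BTwoD.pairing (B := X) hz hz1 hzK (fun w hw => hzW w (hX hw))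
    (fun k hk w hw => hKW k hk w (hX hw))
  have e1 : X ⊓ centralizer (K : Set G) = W ⊓ centralizer (K : Set G) := by
    apply le_antisymm
    · exact inf_le_inf_right _ hX
    · rintro w ⟨hw, hwK⟩
      exact ⟨hR w hw fun k hk => mem_centralizer_iff.mp hwK k hk, hwK⟩
  rw [e1] at h4
  have h5 : Nat.card W = 2 * Nat.card X := by rw [← relIndex_mul_card hX, h2]
  have h6 : ¬ K ⊓ centralizer (X : Set G) ≤ centralizer (W : Set G) := by
    intro hle
    have e2 : K ⊓ centralizer (X : Set G) = K ⊓ centralizer (W : Set G) :=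
      le_antisymm (le_inf inf_le_left hle) (inf_le_inf_left _ (centralizer_le hX))
    rw [e2, ← h3, h5] at h4
    have h7 : 0 < Nat.card ↥(K ⊓ centralizer (W : Set G)) := Nat.card_pos
    have h8 : 0 < Nat.card X := Nat.card_pos
    have h9 := Nat.mul_pos h7 h8
    have h10 : Nat.card ↥(K ⊓ centralizer (W : Set G)) * (2 * Nat.card X) =
        2 * (Nat.card ↥(K ⊓ centralizer (W : Set G)) * Nat.card X) := by ring
    omega
  obtain ⟨k, hk, hkW⟩ := SetLike.not_le_iff_exists.mp h6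
  refine ⟨k, hk.1, fun w hw => ⟨fun hc => ?_, fun hwX => (mem_centralizer_iff.mp hk.2 w hwX).symm⟩⟩
  by_contra hwX
  apply hkW
  rw [mem_centralizer_iff]
  intro v hv
  by_cases hvX : v ∈ X
  · exact mem_centralizer_iff.mp hk.2 v hvX
  · have h7 : (X.subgroupOf W).index = 2 := h2
    have h8 : (⟨v, hv⟩ : W) * (⟨w, hw⟩ : W)⁻¹ ∈ X.subgroupOf W := by
      rw [Subgroup.mul_mem_iff_of_index_two h7, inv_mem_iff, mem_subgroupOf, mem_subgroupOf]
      exact ⟨fun e => absurd e hvX, fun e => absurd e hwX⟩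
    rw [mem_subgroupOf] at h8
    have h9 : (v * w⁻¹) * k = k * (v * w⁻¹) := mem_centralizer_iff.mp hk.2 _ h8
    calc v * k = (v * w⁻¹) * (w * k) := by group
      _ = (v * w⁻¹) * k * w := by rw [← hc]; group
      _ = k * v := by rw [h9]; group

namespace One

variable {T V : Subgroup G} {z p q r : G}

/-- **(N1)**, without any hypothesis: `C_{W_q}(E_p) ≤ {b | [b, W_p] ≤ V}`, i.e. `Φ^⊥ ≤ rad β` -/
theorem w1_le_n0 [Finite G] (h : One T V z) (hq : q ∈ V) (hq1 : q ≠ 1) : w1 V q ≤ n0 V q := by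
  intro b hb
  obtain ⟨p, hp, hp1, hpq⟩ := h.exists_q hq hq1
  refine h.mem_n0 hq hq1 hp hp1 hpq hb.1 fun a ha => ?_
  by_contra hcon
  obtain ⟨k, hk, hkV, hku⟩ := h.fu (h.comm_ii_mem hq hq1 hp hp1 hb.1 ha) hcon hq hq1
  have he := h.kq_ee hq hq1 hp hp1 hk hkV ha
  set e := k * a * k⁻¹ * a⁻¹ with hed
  have e1 : k * a * k⁻¹ = e * a := by rw [hed]; group
  have h1 : ⁅b, e⁆ = 1 := commutatorElement_eq_one_iff_mul_comm.mpr (hb.2 p hp hp1 e he)
  -- `k b k⁻¹ = v b` with `v ∈ V`
  obtain ⟨v, hv, hvb⟩ : ∃ v ∈ V, k * b * k⁻¹ = v * b := by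
    rcases h.kq_cases hq hk hb.1 with e2 | e2
    · exact ⟨1, one_mem _, by rw [e2, one_mul]⟩
    · exact ⟨q, hq, e2⟩
  have hvq := h.V_le hq hq1 hv
  have h2 : ⁅v, e * a⁆ = 1 := commutatorElement_eq_one_iff_mul_comm.mpr
    (h.V_comm hv (h.ws_le_centralizer_V hp hp1 (mul_mem he.1 ha)))
  rw [conjugate_commutatorElement, e1, hvb, h.comm_mul_left hq hq1 hp hp1 hvq hb.1 (mul_mem he.1 ha), h2, one_mul,
    h.comm_mul_right hq hq1 hp hp1 hb.1 he.1 ha, h1, one_mul] at hku
  exact hq1 (by simpa using hku.symm)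

/-- **(N1)**: `C_{W_q}(E_p) = E_q` -/
theorem nt_w1 [Finite G] (h : One T V z) (hN : NT V) (hq : q ∈ V) (hq1 : q ≠ 1) : w1 V q = ee V q :=
  le_antisymm ((h.w1_le_n0 hq hq1).trans (hN q hq hq1)) (h.ee_le_w1 hq hq1)

/-- **(N1)**: `|Φ| = |A|` -/
theorem nt_phi_card [Finite G] (h : One T V z) (hN : NT V) (hp : p ∈ V) (hp1 : p ≠ 1) (hq : q ∈ V)
    (hq1 : q ≠ 1) : (dd V p).relIndex (ee V p) = (ee V q).relIndex (ws V q) := by
  rw [h.phi_card hp hp1 hq hq1, h.nt_w1 hN hq hq1]

/-- **(N1)**: `|M : C_M(A)| = |A| ^ 2` -/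
theorem nt_relIndex_dd [Finite G] (h : One T V z) (hN : NT V) (hp : p ∈ V) (hp1 : p ≠ 1) :
    (dd V p).relIndex (ws V p) = (ee V p).relIndex (ws V p) ^ 2 := by
  rw [h.relIndex_dd p, h.nt_phi_card hN hp hp1 hp hp1, pow_two]

/-- `e * b = b * e ∨ e * b = q * (b * e)` for `e ∈ K_q`, `b ∈ W_q` -/
theorem kq_or (h : One T V z) (hq : q ∈ V) {k w : G} (hk : k ∈ kq V q) (hw : w ∈ ws V q) :
    k * w = w * k ∨ k * w = q * (w * k) := by
  rcases h.kq_cases hq hk hw with e | e
  · exact Or.inl (comm_of_conj_eq e)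
  · right
    calc k * w = (k * w * k⁻¹) * k := by group
      _ = q * (w * k) := by rw [e]; group

/-- **(N1)**: `Φ = A^*`: every hyperplane of `A` is `C_A(e)` for some `e ∈ E_p` -/
theorem nt_fun_ee [Finite G] (h : One T V z) (hN : NT V) (hp : p ∈ V) (hp1 : p ≠ 1) (hq : q ∈ V)
    (hq1 : q ≠ 1) (hqp : q ≠ p) {X : Subgroup G} (hE : ee V q ≤ X) (hX : X ≤ ws V q)
    (h2 : X.relIndex (ws V q) = 2) : ∃ e ∈ ee V p, ∀ w ∈ ws V q, e * w = w * e ↔ w ∈ X := by
  refine exists_fun (h.ln.sq q hq) hq1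
    (fun e he => h.V_comm hq (h.ws_le_centralizer_V hp hp1 he.1))
    (fun w hw => h.V_comm hq (h.ws_le_centralizer_V hq hq1 hw))
    (fun e he w hw => h.kq_or hq (he.2 q hq hq1) hw) hX h2 fun w hw hc => hE ?_
  rw [← h.nt_w1 hN hq hq1]
  exact h.mem_w1 hq hq1 hp hp1 (Ne.symm hqp) hw fun b hb => (hc b hb).symm

/-- **(N1)**: `b ∈ W_q - E_q` is moved by some `e ∈ E_p`: `[Ē, a] = λ` for all `a ∈ A#` -/
theorem nt_move_ee [Finite G] (h : One T V z) (hN : NT V) (hp : p ∈ V) (hp1 : p ≠ 1) (hq : q ∈ V)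
    (hq1 : q ≠ 1) (hqp : q ≠ p) {b : G} (hb : b ∈ ws V q) (hbE : b ∉ ee V q) :
    ∃ e ∈ ee V p, e * b * e⁻¹ = q * b := by
  by_contra hcon
  push Not at hcon
  apply hbE
  rw [← h.nt_w1 hN hq hq1]
  refine h.mem_w1 hq hq1 hp hp1 (Ne.symm hqp) hb fun e he => ?_
  rcases h.kq_cases hq (he.2 q hq hq1) hb with e1 | e1
  · exact (comm_of_conj_eq e1).symm
  · exact absurd e1 (hcon e he)

/-- `w w^k ∈ K_p` for `w ∈ W_q`, `k ∈ K_p` -/
theorem mul_conj_kq (h : One T V z) (hp : p ∈ V) (hq : q ∈ V) (hq1 : q ≠ 1) {k w : G}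
    (hk : k ∈ kq V p) (hw : w ∈ ws V q) : w * (k * w * k⁻¹) ∈ kq V p := by
  have hwp : w ∈ centralizer ({p} : Set G) := h.cent_le_centralizer hp (h.ws_le_centralizer_V hq hq1 hw)
  have h1 : w * k * w⁻¹ ∈ kq V p := conj_mem_of_normalizer (centralizer_le_normalizer_kq V p) hwp hk
  have hww : w⁻¹ = w := inv_eq_self (h.sq hq hq1 w hw)
  have e1 : w * (k * w * k⁻¹) = (w * k * w⁻¹) * k⁻¹ := by rw [hww]; group
  rw [e1]
  exact mul_mem h1 (inv_mem hk)

/-- `b ∈ W_p - D_p` is moved by some `g ∈ F_l ∩ K_p` -/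
theorem nt_move_dd [Finite G] (h : One T V z) (hN : NT V) (hp : p ∈ V) (hp1 : p ≠ 1) {b : G} (hb : b ∈ ws V p)
    (hbD : b ∉ dd V p) : ∃ g ∈ fl V, g ∈ kq V p ∧ g * b * g⁻¹ = p * b := by
  obtain ⟨q, hq, hq1, hqp⟩ := h.exists_q hp hp1
  by_cases hbE : b ∈ ee V p
  · -- `[b, w] = q` for some `w ∈ W_q`
    obtain ⟨w, hw, hwb⟩ : ∃ w ∈ ws V q, ⁅b, w⁆ = q := by
      by_contra hcon
      push Not at hcon
      apply hbD
      refine h.mem_dd hp hp1 hq hq1 hqp hb fun w hw => ?_
      rcases h.ee_cases hq hq1 hbE hw with e | e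
      · exact commutatorElement_eq_one_iff_mul_comm.mp e
      · exact absurd e (hcon w hw)
    obtain ⟨k, hk, -, hk2⟩ := h.exists_move hp hp1 hq hq1 hqp
    have hpq : p * q ∈ V := mul_mem hp hq
    have hpq1 : p * q ≠ 1 := h.mul_ne_one hq (Ne.symm hqp)
    have hw' : k * w * k⁻¹ ∈ ws V (p * q) := by
      have := conj_mem_ws k hw
      rwa [hk2] at this
    have hwV := h.ws_le_centralizer_V hq hq1 hw
    have hww : w⁻¹ = w := inv_eq_self (h.sq hq hq1 w hw)
    have hqq : q⁻¹ = q := inv_eq_self (h.ln.sq q hq)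
    -- `w b w⁻¹ = q b`
    have h1 : w * b * w⁻¹ = q * b := by
      have h2 : ⁅w, b⁆ = q := by rw [h.comm_swap hp hp1 hq hq1 hb hw, hwb]
      calc w * b * w⁻¹ = ⁅w, b⁆ * b := by rw [commutatorElement_def]; group
        _ = q * b := by rw [h2]
    -- `w^k b (w^k)⁻¹ = p q b`
    have h2 : (k * w * k⁻¹) * b * (k * w * k⁻¹)⁻¹ = p * q * b := by
      have hkp := h.kq_p hk
      have hkpi := inv_comm_of hkp
      have hwp : p * w = w * p := h.V_comm hp hwV
      rcases h.kq_cases hp hk hb with e | e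
      · have e' : k⁻¹ * b * k = b := by
          calc k⁻¹ * b * k = k⁻¹ * (k * b * k⁻¹) * k := by rw [e]
            _ = b := by group
        calc (k * w * k⁻¹) * b * (k * w * k⁻¹)⁻¹ = k * (w * (k⁻¹ * b * k) * w⁻¹) * k⁻¹ := by group
          _ = k * (q * b) * k⁻¹ := by rw [e', h1]
          _ = (k * q * k⁻¹) * (k * b * k⁻¹) := by group
          _ = p * q * b := by rw [hk2, e]
      · have e' : k⁻¹ * b * k = p * b := by
          have h3 : b = p * (k * b * k⁻¹) := by rw [e, ← mul_assoc, h.ln.sq p hp, one_mul]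
          calc k⁻¹ * b * k = k⁻¹ * (p * (k * b * k⁻¹)) * k := by rw [← h3]
            _ = (k⁻¹ * p) * k * b := by group
            _ = p * b := by rw [hkpi]; group
        calc (k * w * k⁻¹) * b * (k * w * k⁻¹)⁻¹ = k * (w * (k⁻¹ * b * k) * w⁻¹) * k⁻¹ := by group
          _ = k * ((w * p) * b * w⁻¹) * k⁻¹ := by rw [e']; group
          _ = k * (p * (w * b * w⁻¹)) * k⁻¹ := by rw [← hwp]; group
          _ = (k * p) * q * b * k⁻¹ := by rw [h1]; group
          _ = p * ((k * q * k⁻¹) * (k * b * k⁻¹)) := by rw [hkp]; group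
          _ = p * (p * q * (p * b)) := by rw [hk2, e]
          _ = (p * p) * (q * p) * b := by group
          _ = p * q * b := by rw [h.ln.sq p hp, h.ln.comm hq hp, one_mul]
    refine ⟨w * (k * w * k⁻¹), mul_mem (ws_le_fl hq hq1 hw) (ws_le_fl hpq hpq1 hw'),
      h.mul_conj_kq hp hq hq1 hk hw, ?_⟩
    have hwpq : p * q * w = w * (p * q) := h.V_comm hpq hwV
    calc w * (k * w * k⁻¹) * b * (w * (k * w * k⁻¹))⁻¹
        = w * ((k * w * k⁻¹) * b * (k * w * k⁻¹)⁻¹) * w⁻¹ := by group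
      _ = (w * (p * q)) * b * w⁻¹ := by rw [h2]; group
      _ = p * q * (w * b * w⁻¹) := by rw [← hwpq]; group
      _ = p * (q * q) * b := by rw [h1]; group
      _ = p * b := by rw [h.ln.sq q hq, mul_one]
  · obtain ⟨e, he, he'⟩ := h.nt_move_ee hN hq hq1 hp hp1 (Ne.symm hqp) hb hbE
    exact ⟨e, ws_le_fl hq hq1 he.1, he.2 p hp hp1, he'⟩

/-- `F_l ∩ K_p` induces all functionals of `W_p / D_p` -/
theorem nt_fun_dd [Finite G] (h : One T V z) (hN : NT V) (hp : p ∈ V) (hp1 : p ≠ 1) {X : Subgroup G}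
    (hD : dd V p ≤ X) (hX : X ≤ ws V p) (h2 : X.relIndex (ws V p) = 2) :
    ∃ g ∈ fl V, g ∈ kq V p ∧ ∀ w ∈ ws V p, g * w = w * g ↔ w ∈ X := by
  obtain ⟨g, hg, hgX⟩ := exists_fun (K := fl V ⊓ kq V p) (h.ln.sq p hp) hp1
    (fun k hk => (h.kq_p hk.2).symm)
    (fun w hw => h.V_comm hp (h.ws_le_centralizer_V hp hp1 hw))
    (fun k hk w hw => h.kq_or hp hk.2 hw) hX h2 (fun w hw hc => hD (by
      by_contra hwD
      obtain ⟨g, hg, hgk, hgw⟩ := h.nt_move_dd hN hp hp1 hw hwD
      rw [conj_eq_of_comm (hc g ⟨hg, hgk⟩)] at hgw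
      exact hp1 (by simpa using hgw.symm)))
  exact ⟨g, hg.1, hg.2, hgX⟩

end One

end Cfsg.Agent.Omega.NO3S.TwoOne

end
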