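import Cfsg.Agent.Mrg.Omega.NO3S.Fit.Char


/-!
# NO-3a.4, transvection types (helper311's text #16747): vocabulary

`Fam T V z cf` (#13963, helper568): a family over the flag `(z, V)`.

* `pts V cf z` : the points `t ~ z`, i.e. `t = c y c⁻¹`, `c ∈ cf z`, `y ∈ V`, `y ≠ 1, z`;
* `wt V cf z t` : `W_t` (relative to `z`); `wt_conj` : `W_{c y c⁻¹} = (W_y)^c`;
* `Tvf T V z cf` : `k = 1` and `[W_p, W_q] ≤ V`.
-/

set_option autoImplicit false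
set_option linter.unusedSectionVars false

namespace Cfsg.Agent.Omega.NO3S.TV

open Subgroup Cfsg Cfsg.Agent.ZN Cfsg.Agent.MinSimple.Geo Cfsg.Agent.Omega.CaseL Cfsg.Agent.Omega.NO3S.Fit
open Cfsg.Agent.ZN.Block (conj_mem_of_normalizer conj_mem_of_normalizer' le_normalizer_of_forall
  mem_normalizer_of)

universe u

variable {G : Type u} [Group G]

/-- the points `t ~ z` -/
def pts (V : Subgroup G) (cf : G → Subgroup G) (z : G) : Set G :=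
  {t | ∃ y ∈ V, y ≠ 1 ∧ y ≠ z ∧ ∃ c ∈ cf z, t = c * y * c⁻¹}

/-- `W_t` for `t ~ z` -/
def wt (V : Subgroup G) (cf : G → Subgroup G) (z t : G) : Subgroup G :=
  sSup {W | ∃ y ∈ V, y ≠ 1 ∧ y ≠ z ∧ ∃ c ∈ cf z, t = c * y * c⁻¹ ∧ W = cj c (ww V cf y)}

/-- **The transvection situation**: `k = 1` and `[W_p, W_q] ≤ V`. -/
structure Tvf (T V : Subgroup G) (z : G) (cf : G → Subgroup G) : Prop extends Fam T V z cf where
  one : Fam.One1 V cf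
  comm' : ∀ p ∈ V, p ≠ 1 → ∀ q ∈ V, q ≠ 1 → q ≠ p → ∀ a ∈ ww V cf p, ∀ b ∈ ww V cf q, a * b * a⁻¹ * b⁻¹ ∈ V

section fam

variable {T V : Subgroup G} {z : G} {cf : G → Subgroup G}

theorem mem_pts_conj {y c : G} (hy : y ∈ V) (hy1 : y ≠ 1) (hyz : y ≠ z) (hc : c ∈ cf z) :
    c * y * c⁻¹ ∈ pts V cf z := ⟨y, hy, hy1, hyz, c, hc, rfl⟩

theorem mem_pts {y : G} (hy : y ∈ V) (hy1 : y ≠ 1) (hyz : y ≠ z) : y ∈ pts V cf z :=
  ⟨y, hy, hy1, hyz, 1, one_mem _, by simp⟩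

theorem pts_conj {t c : G} (ht : t ∈ pts V cf z) (hc : c ∈ cf z) : c * t * c⁻¹ ∈ pts V cf z := by
  obtain ⟨y, hy, hy1, hyz, d, hd, rfl⟩ := ht
  exact ⟨y, hy, hy1, hyz, c * d, mul_mem hc hd, by group⟩

/-- two presentations of the same point give the same group -/
theorem cj_ww_eq (h : Fam T V z cf) {y y' c c' : G} (hy : y ∈ V) (hy1 : y ≠ 1) (hyz : y ≠ z)
    (hy' : y' ∈ V) (hy1' : y' ≠ 1) (hyz' : y' ≠ z) (hc : c ∈ cf z) (hc' : c' ∈ cf z)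
    (e : c * y * c⁻¹ = c' * y' * c'⁻¹) : cj c (ww V cf y) = cj c' (ww V cf y') := by
  have hz := h.ln.z_mem
  have hz1 := h.ln.z_ne
  -- `n = c'⁻¹ c` maps `y` to `y'` and centralizes `z`
  have hn : c'⁻¹ * c ∈ cf z := mul_mem (inv_mem hc') hc
  have hnz := h.cf_comm hz hz1 hn
  have hny : (c'⁻¹ * c) * y * (c'⁻¹ * c)⁻¹ = y' := by
    calc (c'⁻¹ * c) * y * (c'⁻¹ * c)⁻¹ = c'⁻¹ * (c * y * c⁻¹) * c' := by group
      _ = y' := by rw [e]; group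
  have hnn : c'⁻¹ * c ∈ normalizer (V : Set G) := by
    have h1 : ∀ g : G, g * z = z * g → ∀ a b : G, a ∈ V → a ≠ 1 → a ≠ z → b ∈ V → g * a * g⁻¹ = b →
        ∀ v ∈ V, g * v * g⁻¹ ∈ V := by
      intro g hg a b ha ha1 haz hb he v hv
      have hgz : g * z * g⁻¹ = z := by rw [hg]; group
      rcases h.ln.four hz ha hz1 ha1 (Ne.symm haz) hv with e1 | e1 | e1 | e1
      · rw [e1]; simp
      · rw [e1, hgz]; exact hz
      · rw [e1, he]; exact hb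
      · rw [e1]
        have : g * (z * a) * g⁻¹ = (g * z * g⁻¹) * (g * a * g⁻¹) := by group
        rw [this, hgz, he]
        exact mul_mem hz hb
    have h2 := h1 _ hnz y y' hy hy1 hyz hy' hny
    have hnz' : (c'⁻¹ * c)⁻¹ * z = z * (c'⁻¹ * c)⁻¹ := by
      have := (show Commute (c'⁻¹ * c) z from hnz).inv_left
      exact this
    have hny' : (c'⁻¹ * c)⁻¹ * y' * (c'⁻¹ * c)⁻¹⁻¹ = y := by rw [← hny]; group
    have h3 := h1 _ hnz' y' y hy' hy1' hyz' hy hny'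
    rw [mem_normalizer_iff]
    intro v
    refine ⟨h2 v, fun hv => ?_⟩
    have := h3 _ hv
    have e3 : (c'⁻¹ * c)⁻¹ * (c'⁻¹ * c * v * (c'⁻¹ * c)⁻¹) * (c'⁻¹ * c)⁻¹⁻¹ = v := by group
    rwa [e3] at this
  have h4 := h.cj_ww hnn hy hy1
  rw [hny] at h4
  rw [← h4, cj_cj, mul_inv_cancel_left]

/-- `W_{c y c⁻¹} = (W_y)^c` -/
theorem wt_conj (h : Fam T V z cf) {y c : G} (hy : y ∈ V) (hy1 : y ≠ 1) (hyz : y ≠ z) (hc : c ∈ cf z) :
    wt V cf z (c * y * c⁻¹) = cj c (ww V cf y) := by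
  apply le_antisymm
  · refine sSup_le ?_
    rintro W ⟨y', hy', hy1', hyz', c', hc', e, rfl⟩
    exact (cj_ww_eq h hy hy1 hyz hy' hy1' hyz' hc hc' e).ge
  · exact le_sSup ⟨y, hy, hy1, hyz, c, hc, rfl, rfl⟩

/-- `W_y` for `y ∈ V` -/
theorem wt_eq (h : Fam T V z cf) {y : G} (hy : y ∈ V) (hy1 : y ≠ 1) (hyz : y ≠ z) :
    wt V cf z y = ww V cf y := by
  have := wt_conj h hy hy1 hyz (one_mem (cf z))
  rwa [one_mul, inv_one, mul_one, cj_one] at this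

/-- `W_{c t c⁻¹} = (W_t)^c` -/
theorem wt_cj (h : Fam T V z cf) {t c : G} (ht : t ∈ pts V cf z) (hc : c ∈ cf z) :
    wt V cf z (c * t * c⁻¹) = cj c (wt V cf z t) := by
  obtain ⟨y, hy, hy1, hyz, d, hd, rfl⟩ := ht
  rw [wt_conj h hy hy1 hyz hd, cj_cj, ← wt_conj h hy hy1 hyz (mul_mem hc hd)]
  congr 1
  group

end fam

end Cfsg.Agent.Omega.NO3S.TV
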