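import Cfsg.Agent.Mrg.Omega.NO3S.TV.Def
import Cfsg.Agent.Mrg.Omega.NO3S.TV.Sys
import Cfsg.Agent.Mrg.Omega.NO3S.Fit.Char
import Cfsg.Agent.MinSimple.VModule

section


/-!
# NO-3a.4, transvection types (helper311's text #16747): section 1

`h : Tvf T V z cf` (`k = 1`, `[W_p, W_q] ≤ V`), `R : MRep V cf z M H`, `y ∈ V`, `y ≠ 1, z`, `v0 = R.pi y`.

* `Tvf.point` : every point of `V` is as good as `z`;
* `Tvf.exists_special`, `Tvf.pre` : (1.1) for `v0` and `a0 = φ(w0)`, `w0 ∈ W_y - Q_z`;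
* `Tvf.rel` : the GOOD case: `W_p ∩ Q_q` centralises `W_q`, `⁅a, b⁆ = p q` otherwise.
-/

set_option autoImplicit false
set_option linter.unusedSectionVars false

namespace Cfsg.Agent.Omega.NO3S.TV

open Subgroup Cfsg Cfsg.Agent.ZN Cfsg.Agent.MinSimple.Geo Cfsg.Agent.Omega.CaseL Cfsg.Agent.Omega.NO3S.Fit
open scoped commutatorElement
open Cfsg.Agent.ZN.Block (conj_mem_of_normalizer conj_mem_of_normalizer' le_normalizer_of_forall
  mem_normalizer_of)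

universe u

variable {G : Type u} [Group G]

/-! ### commutators -/

/-- the commutator, expanded -/
theorem cm_def (a b : G) : ⁅a, b⁆ = a * b * a⁻¹ * b⁻¹ := rfl

theorem cm_eq_one {a b : G} : ⁅a, b⁆ = 1 ↔ a * b = b * a := commutatorElement_eq_one_iff_mul_comm

theorem cm_inv (a b : G) : ⁅a, b⁆⁻¹ = ⁅b, a⁆ := commutatorElement_inv a b

theorem cm_conj (g a b : G) : g * ⁅a, b⁆ * g⁻¹ = ⁅g * a * g⁻¹, g * b * g⁻¹⁆ := by
  rw [cm_def, cm_def]; group

/-- `⁅a, b c⁆ = ⁅a, b⁆ ⁅a, c⁆` if `b` commutes with `⁅a, c⁆` -/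
theorem cm_mul_right {a b c : G} (h : b * ⁅a, c⁆ = ⁅a, c⁆ * b) : ⁅a, b * c⁆ = ⁅a, b⁆ * ⁅a, c⁆ := by
  have e : ⁅a, b * c⁆ = ⁅a, b⁆ * (b * ⁅a, c⁆ * b⁻¹) := by simp only [cm_def]; group
  rw [e, h]; group

/-- `⁅a b, c⁆ = ⁅a, c⁆ ⁅b, c⁆` if `a` commutes with `⁅b, c⁆` and with the product -/
theorem cm_mul_left {a b c : G} (h : a * ⁅b, c⁆ = ⁅b, c⁆ * a) (h' : ⁅b, c⁆ * ⁅a, c⁆ = ⁅a, c⁆ * ⁅b, c⁆) :
    ⁅a * b, c⁆ = ⁅a, c⁆ * ⁅b, c⁆ := by
  have e : ⁅a * b, c⁆ = (a * ⁅b, c⁆ * a⁻¹) * ⁅a, c⁆ := by simp only [cm_def]; group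
  rw [e, h, ← h']; group

variable {T V : Subgroup G} {z : G} {cf : G → Subgroup G}

namespace Tvf

/-! ### points -/

theorem point (h : Tvf T V z cf) {p : G} (hp : p ∈ V) (hp1 : p ≠ 1) :
    ∃ g ∈ normalizer (V : Set G), g * z * g⁻¹ = p ∧ Tvf (cj g T) V p cf := by
  obtain ⟨g, hg, e, hf⟩ := h.toFam.point hp hp1
  exact ⟨g, hg, e, ⟨hf, h.one, h.comm'⟩⟩

variable (h : Tvf T V z cf)
include h

theorem z_mem : z ∈ V := h.ln.z_mem

theorem z_ne : z ≠ 1 := h.ln.z_ne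

/-- `⁅a, b⁆ ∈ V` -/
theorem cm_mem {p q : G} (hp : p ∈ V) (hp1 : p ≠ 1) (hq : q ∈ V) (hq1 : q ≠ 1) (hqp : q ≠ p) {a b : G}
    (ha : a ∈ ww V cf p) (hb : b ∈ ww V cf q) : ⁅a, b⁆ ∈ V := h.comm' p hp hp1 q hq hq1 hqp a ha b hb

/-- elements of `W_p` commute with the elements of `V` -/
theorem wV {p v a : G} (hp : p ∈ V) (hp1 : p ≠ 1) (ha : a ∈ ww V cf p) (hv : v ∈ V) : a * v = v * a :=
  (mem_centralizer_iff.mp (h.ww_le_cent hp hp1 ha) v hv).symm

theorem VV {v w : G} (hv : v ∈ V) (hw : w ∈ V) : v * w = w * v :=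
  h.comm h.z_mem h.z_ne v (h.V_le hv) w (h.V_le hw)

/-- `⁅a, b c⁆ = ⁅a, b⁆ ⁅a, c⁆` -/
theorem cm_mulr {p q : G} (hp : p ∈ V) (hp1 : p ≠ 1) (hq : q ∈ V) (hq1 : q ≠ 1) (hqp : q ≠ p) {a b c : G}
    (ha : a ∈ ww V cf p) (hb : b ∈ ww V cf q) (hc : c ∈ ww V cf q) : ⁅a, b * c⁆ = ⁅a, b⁆ * ⁅a, c⁆ :=
  cm_mul_right (h.wV hq hq1 hb (h.cm_mem hp hp1 hq hq1 hqp ha hc))

/-- `⁅a b, c⁆ = ⁅a, c⁆ ⁅b, c⁆` -/
theorem cm_mull {p q : G} (hp : p ∈ V) (hp1 : p ≠ 1) (hq : q ∈ V) (hq1 : q ≠ 1) (hqp : q ≠ p) {a b c : G}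
    (ha : a ∈ ww V cf p) (hb : b ∈ ww V cf p) (hc : c ∈ ww V cf q) : ⁅a * b, c⁆ = ⁅a, c⁆ * ⁅b, c⁆ :=
  cm_mul_left (h.wV hp hp1 ha (h.cm_mem hp hp1 hq hq1 hqp hb hc))
    (h.VV (h.cm_mem hp hp1 hq hq1 hqp hb hc) (h.cm_mem hp hp1 hq hq1 hqp ha hc))

/-- the commutator is symmetric -/
theorem cm_symm {p q : G} (hp : p ∈ V) (hp1 : p ≠ 1) (hq : q ∈ V) (hq1 : q ≠ 1) (hqp : q ≠ p) {a b : G}
    (ha : a ∈ ww V cf p) (hb : b ∈ ww V cf q) : ⁅b, a⁆ = ⁅a, b⁆ := by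
  rw [← cm_inv, h.ln.inv_eq (h.cm_mem hp hp1 hq hq1 hqp ha hb)]

/-- `a ∈ W_p ∩ Q_q` iff `⁅a, b⁆ ∈ {1, q}` for all `b ∈ W_q` -/
theorem mem_qq_iff {p q : G} (hp : p ∈ V) (hp1 : p ≠ 1) (hq : q ∈ V) (hq1 : q ≠ 1) {a : G}
    (ha : a ∈ ww V cf p) : a ∈ qq V cf q ↔ ∀ b ∈ ww V cf q, ⁅a, b⁆ = 1 ∨ ⁅a, b⁆ = q := by
  constructor
  · intro h1 b hb
    have := h1.2.2 b hb
    rwa [mem_zpowers_iff_of_mul_self (h.ln.sq q hq)] at this
  · intro h1
    refine ⟨h.ww_le_cf' hp hp1 hq hq1 ha, h.wV hp hp1 ha hq, fun b hb => ?_⟩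
    rw [mem_zpowers_iff_of_mul_self (h.ln.sq q hq)]
    exact h1 b hb

variable [Finite G]

/-- **The special element of `W_y`**: every `m ∈ W_z` with `⁅m, w⁆ ∈ {1, z}` commutes with `w`. -/
theorem exists_special {y : G} (hy : y ∈ V) (hy1 : y ≠ 1) (hyz : y ≠ z) :
    ∃ w ∈ ww V cf y, w ∉ qq V cf z ∧ ∀ m ∈ ww V cf z, (⁅m, w⁆ = 1 ∨ ⁅m, w⁆ = z) → m * w = w * m := by
  have hz := h.z_mem
  have hz1 := h.z_ne
  by_cases hb : ∃ w ∈ ww V cf y, w ∉ qq V cf z ∧ ∀ m ∈ ww V cf z, ⁅m, w⁆ = 1 ∨ ⁅m, w⁆ = y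
  · obtain ⟨w, hw, hwz, hw1⟩ := hb
    refine ⟨w, hw, hwz, fun m hm hmz => cm_eq_one.mp ?_⟩
    rcases hw1 m hm with e | e
    · exact e
    · rcases hmz with e' | e'
      · exact e'
      · rw [e] at e'; exact absurd e' hyz
  · push Not at hb
    obtain ⟨w0, hw0, hw0z⟩ := h.exists_not_qq hy hy1 hz hz1 (Ne.symm hyz)
    refine ⟨w0, hw0, hw0z, fun m hm hmz => cm_eq_one.mp ?_⟩
    -- all commutators of `m` are in `{1, z}`
    have hall : ∀ w ∈ ww V cf y, ⁅m, w⁆ = 1 ∨ ⁅m, w⁆ = z := by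
      intro w hw
      by_cases hwz : w ∈ qq V cf z
      · have := (h.mem_qq_iff hy hy1 hz hz1 hw).mp hwz m hm
        rwa [h.cm_symm hz hz1 hy hy1 hyz hm hw] at this
      · have h1 := h.one y hy hy1 z hz hz1 (Ne.symm hyz) w0 hw0 w hw hw0z hwz
        have h2 := (h.mem_qq_iff hy hy1 hz hz1 (mul_mem hw0 hw)).mp h1 m hm
        rw [h.cm_symm hz hz1 hy hy1 hyz hm (mul_mem hw0 hw), h.cm_mulr hz hz1 hy hy1 hyz hm hw0 hw] at h2
        have hzz := h.ln.sq z hz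
        rcases hmz with e | e <;> rcases h2 with e2 | e2 <;> rw [e] at e2
        · left; simpa using e2
        · right; simpa using e2
        · right
          calc ⁅m, w⁆ = z * z * ⁅m, w⁆ := by rw [hzz, one_mul]
            _ = z * (z * ⁅m, w⁆) := mul_assoc _ _ _
            _ = z := by rw [e2, mul_one]
        · left
          exact mul_left_cancel (e2.trans (mul_one z).symm)
    -- so `m ∈ Q_y` by the good case at `(y, z)`
    have hmy : m ∈ qq V cf y := by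
      by_contra hmy
      obtain ⟨g, hg, e1, e2⟩ := h.trans2 hz hz1 hy hy1 hyz hy hy1 hz hz1 (Ne.symm hyz)
      have hm' : g * m * g⁻¹ ∈ ww V cf y := by
        have := h.conj_ww hg hz hz1 hm
        rwa [e1] at this
      have hm'z : g * m * g⁻¹ ∉ qq V cf z := by
        intro h3
        apply hmy
        have := h.conj_qq (inv_mem hg) hz hz1 h3
        have e3 : g⁻¹ * z * g⁻¹⁻¹ = y := by rw [← e2]; group
        have e4 : g⁻¹ * (g * m * g⁻¹) * g⁻¹⁻¹ = m := by group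
        rwa [e3, e4] at this
      obtain ⟨n, hn, hn1⟩ := hb _ hm' hm'z
      have hn' : g⁻¹ * n * g ∈ ww V cf y := by
        have := h.conj_ww (inv_mem hg) hz hz1 hn
        have e3 : g⁻¹ * z * g⁻¹⁻¹ = y := by rw [← e2]; group
        rwa [e3, inv_inv] at this
      have e5 : g * ⁅g⁻¹ * n * g, m⁆ * g⁻¹ = ⁅n, g * m * g⁻¹⁆ := by
        rw [cm_conj]; congr 1; group
      have h6 := hall _ hn'
      rw [← h.cm_symm hz hz1 hy hy1 hyz hm hn'] at h6
      rcases h6 with e6 | e6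
      · rw [e6] at e5
        exact hn1.1 (by rw [← e5]; group)
      · rw [e6, e1] at e5
        exact hn1.2 e5.symm
    rcases (h.mem_qq_iff hz hz1 hy hy1 hm).mp hmy w0 hw0 with e | e
    · exact e
    · rcases hmz with e' | e'
      · exact e'
      · rw [e] at e'; exact absurd e' hyz

/-! ### (1.1) -/

variable {M H : Type u} [AddCommGroup M] [Group H] [DistribMulAction H M]

omit [Finite G] in
/-- all elements of `W_y - Q_z` have the same image -/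
theorem phi_eq_of (R : MRep V cf z M H) {y w w' : G} (hy : y ∈ V) (hy1 : y ≠ 1) (hyz : y ≠ z)
    (hw : w ∈ ww V cf y) (hw' : w' ∈ ww V cf y) (hwz : w ∉ qq V cf z) (hwz' : w' ∉ qq V cf z) :
    R.phi w = R.phi w' := by
  have hz := h.z_mem
  have hz1 := h.z_ne
  have hwc := h.ww_le_cf' hy hy1 hz hz1 hw
  have hwc' := h.ww_le_cf' hy hy1 hz hz1 hw'
  have h1 := h.one y hy hy1 z hz hz1 (Ne.symm hyz) w hw w' hw' hwz hwz'
  have h2 := (R.phi_ker _ (mul_mem hwc hwc')).mpr h1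
  rw [R.phi_mul w hwc w' hwc'] at h2
  calc R.phi w = R.phi w * (R.phi w' * R.phi w') := by rw [R.sq_A h.toFam hy hy1 hw', mul_one]
    _ = R.phi w' := by rw [← mul_assoc, h2, one_mul]

omit [Finite G] in
theorem phi_one_of (R : MRep V cf z M H) {w : G} (hw : w ∈ qq V cf z) : R.phi w = 1 :=
  (R.phi_ker w hw.1).mpr hw

/-- **(1.1)**, group part -/
theorem pre (R : MRep V cf z M H) [FaithfulSMul H M] {y w0 : G} (hy : y ∈ V) (hy1 : y ≠ 1) (hyz : y ≠ z)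
    (hw0 : w0 ∈ ww V cf y) (hw0z : w0 ∉ qq V cf z) : Abs.Pre (R.pi y) (R.phi w0) := by
  have hz := h.z_mem
  have hz1 := h.z_ne
  have hyW : y ∈ ww V cf z := h.V_le hy
  have hwc0 := h.ww_le_cf' hy hy1 hz hz1 hw0
  have hmv : ∀ m : M, R.phi w0 • m = m ∨ R.phi w0 • m = m + R.pi y := by
    intro m
    obtain ⟨b, hb, rfl⟩ := R.pi_surj m
    have h1 := R.comm_eq h.toFam hwc0 hb
    have hv : w0 * b * w0⁻¹ * b⁻¹ ∈ V := h.comm' y hy hy1 z hz hz1 (Ne.symm hyz) w0 hw0 b hb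
    rcases h.ln.four hz hy hz1 hy1 (Ne.symm hyz) hv with e | e | e | e
    · left; rw [e, R.pi_one h.toFam, sub_eq_zero] at h1; exact h1
    · left; rw [e, R.pi_z h.toFam, sub_eq_zero] at h1; exact h1
    · right; rw [e, sub_eq_iff_eq_add, add_comm] at h1; exact h1
    · right
      rw [e, R.pi_mul z h.z_mem_ww y hyW, R.pi_z h.toFam, zero_add, sub_eq_iff_eq_add, add_comm] at h1
      exact h1
  have hstab : ∀ x : H, x • R.pi y = R.pi y → x * R.phi w0 = R.phi w0 * x := by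
    intro x hx
    obtain ⟨w', hw', e, d, hd, rfl, rfl⟩ := R.norm_A h.toFam hy hy1 hy hy1 hyz hx hw0
    have hdc := h.cent_le_cf hz hz1 hd
    have hn : d * w0 * d⁻¹ ∉ qq V cf z := by
      intro h3
      apply hw0z
      have := conj_mem_of_normalizer (h.cf_norm_qq hz hz1) (inv_mem hdc) h3
      have e4 : d⁻¹ * (d * w0 * d⁻¹) * d⁻¹⁻¹ = w0 := by group
      rwa [e4] at this
    rw [h.phi_eq_of R hy hy1 hyz hw' hw0 hn hw0z] at e
    exact mul_inv_eq_iff_eq_mul.mp e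
  have hne : ∃ m : M, R.phi w0 • m ≠ m := by
    by_contra hcon
    push Not at hcon
    apply hw0z
    rw [← R.phi_ker w0 hwc0]
    refine FaithfulSMul.eq_of_smul_eq_smul (M := H) (α := M) fun m => ?_
    rw [one_smul, hcon]
  refine ⟨R.two h.toFam, hne, hmv, hstab, R.span h.toFam hy hy1 hyz, ?_⟩
  intro x hx
  obtain ⟨c, hc, rfl⟩ := R.phi_surj x
  obtain ⟨w, hw, hwz, hsp⟩ := h.exists_special hy hy1 hyz
  have hwc := h.ww_le_cf' hy hy1 hz hz1 hw
  have he : R.phi w0 = R.phi w := h.phi_eq_of R hy hy1 hyz hw0 hw hw0z hwz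
  have htW : c * y * c⁻¹ ∈ ww V cf z := conj_mem_wf hc hyW
  have hcz := h.cf_comm hz hz1 hc
  -- `w` commutes with `t`
  have hwt : (c * y * c⁻¹) * w = w * (c * y * c⁻¹) := by
    apply hsp _ htW
    rw [R.act c hc y hyW, he] at hx
    have h1 := R.comm_eq h.toFam hwc htW
    rw [hx, sub_self] at h1
    have h2 : w * (c * y * c⁻¹) * w⁻¹ * (c * y * c⁻¹)⁻¹ ∈ ww V cf z :=
      mul_mem (conj_mem_wf hwc htW) (inv_mem htW)
    have h3 := (R.pi_ker _ h2).mp h1.symm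
    have h4 : ⁅c * y * c⁻¹, w⁆ = ⁅w, c * y * c⁻¹⁆ := h.cm_symm hy hy1 hz hz1 (Ne.symm hyz) hw htW
    rw [h4]
    exact h3
  -- `c⁻¹ w c` centralizes `V`
  have hcen : c⁻¹ * w * c ∈ centralizer (V : Set G) := by
    refine h.mem_centralizer_of hz hz1 hy hy1 hyz ?_ ?_
    · have h1 : w * z = z * w := h.wV hy hy1 hw hz
      have h2 : c⁻¹ * z = z * c⁻¹ := (show Commute c z from hcz).inv_left
      calc c⁻¹ * w * c * z = c⁻¹ * w * (c * z) := by group
        _ = c⁻¹ * w * (z * c) := by rw [hcz]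
        _ = c⁻¹ * (w * z) * c := by group
        _ = c⁻¹ * (z * w) * c := by rw [h1]
        _ = c⁻¹ * z * w * c := by group
        _ = z * c⁻¹ * w * c := by rw [h2]
        _ = z * (c⁻¹ * w * c) := by group
    · calc c⁻¹ * w * c * y = c⁻¹ * (w * (c * y * c⁻¹)) * c := by group
        _ = c⁻¹ * ((c * y * c⁻¹) * w) * c := by rw [hwt]
        _ = y * (c⁻¹ * w * c) := by group
  have h5 : ((R.phi c)⁻¹ * R.phi w0 * R.phi c) • R.pi y = R.pi y := by
    have := R.cent_v0 h.toFam hy hcen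
    rwa [R.phi_mul _ (mul_mem (inv_mem hc) hwc) _ hc, R.phi_mul _ (inv_mem hc) _ hwc, R.phi_inv hc, ← he] at this
  have h6 := hstab _ h5
  -- `a0` commutes with `a_u`
  have h7 : (R.phi c * R.phi w0 * (R.phi c)⁻¹) * R.phi w0 = R.phi w0 * (R.phi c * R.phi w0 * (R.phi c)⁻¹) := by
    calc (R.phi c * R.phi w0 * (R.phi c)⁻¹) * R.phi w0
        = R.phi c * (R.phi w0 * ((R.phi c)⁻¹ * R.phi w0 * R.phi c)) * (R.phi c)⁻¹ := by group
      _ = R.phi c * (((R.phi c)⁻¹ * R.phi w0 * R.phi c) * R.phi w0) * (R.phi c)⁻¹ := by rw [h6]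
      _ = R.phi w0 * (R.phi c * R.phi w0 * (R.phi c)⁻¹) := by group
  obtain ⟨m, hm⟩ := hne
  have hm1 := (hmv m).resolve_left hm
  set a := R.phi c * R.phi w0 * (R.phi c)⁻¹ with ha
  have h8 : a • m + a • R.pi y = R.phi w0 • a • m := by
    rw [← smul_add, ← hm1, ← mul_smul, ← mul_smul, h7]
  rcases hmv (a • m) with e | e
  · rw [e] at h8
    have h9 : a • R.pi y = 0 := by simpa using h8
    exact absurd ((smul_eq_zero_iff_eq a).mp h9) (R.v0_ne h.toFam hy hy1 hyz)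
  · rw [e] at h8
    exact add_left_cancel h8

/-- the form exists -/
theorem exists_isForm (R : MRep V cf z M H) [FaithfulSMul H M] {y w0 : G} (hy : y ∈ V) (hy1 : y ≠ 1) (hyz : y ≠ z)
    (hw0 : w0 ∈ ww V cf y) (hw0z : w0 ∉ qq V cf z) : ∃ B, Abs.IsForm (R.pi y) (R.phi w0) B :=
  (h.pre R hy hy1 hyz hw0 hw0z).exists_form

/-- `W_z ∩ Q_y` is the orthogonal space of `y` -/
theorem form_qq (R : MRep V cf z M H) {y w0 : G} (hy : y ∈ V) (hy1 : y ≠ 1) (hyz : y ≠ z)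
    {B : M → M → ZMod 2} (F : Abs.IsForm (R.pi y) (R.phi w0) B) {w : G} (hw : w ∈ ww V cf z) :
    B (R.pi w) (R.pi y) = 0 ↔ w ∈ qq V cf y := by
  classical
  have hz := h.z_mem
  have hz1 := h.z_ne
  have hyW : y ∈ ww V cf z := h.V_le hy
  have hzQ : z ∈ qq V cf y := h.kk_le_qq hy hy1 (h.V_le_kk hy hy1 hz)
  let g : M → ZMod 2 := fun m => if ∃ w ∈ ww V cf z, R.pi w = m ∧ w ∈ qq V cf y then 0 else 1
  have hg0 : ∀ w ∈ ww V cf z, g (R.pi w) = 0 ↔ w ∈ qq V cf y := by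
    intro w hw
    constructor
    · intro h1
      by_contra hcon
      have h2 : ¬ ∃ w' ∈ ww V cf z, R.pi w' = R.pi w ∧ w' ∈ qq V cf y := by
        rintro ⟨w', hw', e, hq⟩
        rcases (R.pi_eq h.toFam hw' hw).mp e with e | e
        · exact hcon (e ▸ hq)
        · have : w = z * w' := by rw [e, ← mul_assoc, h.ln.sq z hz, one_mul]
          exact hcon (this ▸ mul_mem hzQ hq)
      have h3 : g (R.pi w) = 1 := if_neg h2
      rw [h3] at h1
      exact one_ne_zero h1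
    · intro h1
      exact if_pos ⟨w, hw, rfl, h1⟩
  have hg1 : ∀ w ∈ ww V cf z, g (R.pi w) = 1 ↔ w ∉ qq V cf y := by
    intro w hw
    rw [← hg0 w hw]
    exact Abs.zmod_ne_zero.symm
  have hadd : ∀ a b, g (a + b) = g a + g b := by
    intro a b
    obtain ⟨u, hu, rfl⟩ := R.pi_surj a
    obtain ⟨v, hv, rfl⟩ := R.pi_surj b
    rw [← R.pi_mul u hu v hv]
    by_cases h1 : u ∈ qq V cf y <;> by_cases h2 : v ∈ qq V cf y
    · rw [(hg0 u hu).mpr h1, (hg0 v hv).mpr h2, (hg0 _ (mul_mem hu hv)).mpr (mul_mem h1 h2), add_zero]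
    · rw [(hg0 u hu).mpr h1, (hg1 v hv).mpr h2, zero_add]
      refine (hg1 _ (mul_mem hu hv)).mpr fun h3 => h2 ?_
      have := mul_mem (inv_mem h1) h3
      rwa [inv_mul_cancel_left] at this
    · rw [(hg1 u hu).mpr h1, (hg0 v hv).mpr h2, add_zero]
      refine (hg1 _ (mul_mem hu hv)).mpr fun h3 => h1 ?_
      have := mul_mem h3 (inv_mem h2)
      rwa [mul_inv_cancel_right] at this
    · rw [(hg1 u hu).mpr h1, (hg1 v hv).mpr h2, (hg0 _ (mul_mem hu hv)).mpr (h.one z hz hz1 y hy hy1 hyz u hu v hv h1 h2)]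
      decide
  have hinv : ∀ x : H, x • R.pi y = R.pi y → ∀ m, g (x • m) = g m := by
    intro x hx m
    obtain ⟨d, hd, rfl⟩ := R.stab h.toFam hy hy1 hyz hx
    obtain ⟨u, hu, rfl⟩ := R.pi_surj m
    have hdc := h.cent_le_cf hz hz1 hd
    have hdy := h.cent_le_cf hy hy1 hd
    have hu' := conj_mem_wf hdc hu
    rw [R.act d hdc u hu]
    have key : d * u * d⁻¹ ∈ qq V cf y ↔ u ∈ qq V cf y := by
      constructor
      · intro h1
        have := conj_mem_of_normalizer (h.cf_norm_qq hy hy1) (inv_mem hdy) h1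
        have e4 : d⁻¹ * (d * u * d⁻¹) * d⁻¹⁻¹ = u := by group
        rwa [e4] at this
      · intro h1
        exact conj_mem_of_normalizer (h.cf_norm_qq hy hy1) hdy h1
    by_cases h1 : u ∈ qq V cf y
    · rw [(hg0 u hu).mpr h1, (hg0 _ hu').mpr (key.mpr h1)]
    · rw [(hg1 u hu).mpr h1, (hg1 _ hu').mpr fun h2 => h1 (key.mp h2)]
  have h0 : ∀ u ∈ Set.range (fun x : H => x • R.pi y), B (R.pi y) u = 0 → g u = 0 := by
    rintro _ ⟨x, rfl⟩ hx
    obtain ⟨m, hm⟩ := F.sys.nd _ (Set.mem_range_self x)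
    have h1 := F.fix x (R.pi y) hx
    have h2 := hinv _ h1 m
    rw [F.mv x m (by rw [F.symm]; exact hm), hadd] at h2
    simpa using h2
  have hgy : ∀ m, g m = B (R.pi y) m := by
    rcases F.sys.fun_eq ⟨1, one_smul _ _⟩ hadd h0 with h1 | h1
    · exfalso
      obtain ⟨w, hw, hwy⟩ := h.exists_not_qq hz hz1 hy hy1 hyz
      exact hwy ((hg0 w hw).mp (h1 _))
    · exact h1
  rw [← hg0 w hw, hgy, F.symm]

omit [Finite G] in
/-- transport of `Q_q` by `N_G(V)` -/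
theorem qq_conj_iff {g q a : G} (hg : g ∈ normalizer (V : Set G)) (hq : q ∈ V) (hq1 : q ≠ 1) :
    g * a * g⁻¹ ∈ qq V cf (g * q * g⁻¹) ↔ a ∈ qq V cf q := by
  constructor
  · intro h1
    have := h.conj_qq (inv_mem hg) (h.conj_pt hg hq) (Fam.conj_ne hq1) h1
    have e1 : g⁻¹ * (g * q * g⁻¹) * g⁻¹⁻¹ = q := by group
    have e2 : g⁻¹ * (g * a * g⁻¹) * g⁻¹⁻¹ = a := by group
    rwa [e1, e2] at this
  · exact h.conj_qq hg hq hq1

/-- **GOOD**: `W_p ∩ Q_q` centralises `W_q` -/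
theorem good {p q a b : G} (hp : p ∈ V) (hp1 : p ≠ 1) (hq : q ∈ V) (hq1 : q ≠ 1) (hqp : q ≠ p)
    (ha : a ∈ ww V cf p) (haq : a ∈ qq V cf q) (hb : b ∈ ww V cf q) : a * b = b * a := by
  have hz := h.z_mem
  have hz1 := h.z_ne
  -- at `(z, y)`
  have key : ∀ y ∈ V, y ≠ 1 → y ≠ z → ∀ w ∈ ww V cf z, w ∈ qq V cf y → ∀ b ∈ ww V cf y, ⁅w, b⁆ = 1 := by
    intro y hy hy1 hyz w hw hwy b hb
    obtain ⟨w0, hw0, hw0z⟩ := h.exists_not_qq hy hy1 hz hz1 (Ne.symm hyz)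
    obtain ⟨M, H, _, _, _, _, _, _, ⟨R⟩⟩ := h.exists_mrep
    obtain ⟨B, F⟩ := h.exists_isForm R hy hy1 hyz hw0 hw0z
    have h1 := (h.form_qq R hy hy1 hyz F hw).mpr hwy
    have hbc := h.ww_le_cf' hy hy1 hz hz1 hb
    have h2 : R.phi b • R.pi w = R.pi w := by
      by_cases hbz : b ∈ qq V cf z
      · rw [h.phi_one_of R hbz, one_smul]
      · rw [h.phi_eq_of R hy hy1 hyz hb hw0 hbz hw0z]
        have := F.fix 1 (R.pi w) (by rwa [one_smul])
        rwa [one_mul, inv_one, mul_one] at this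
    have h3 := R.comm_eq h.toFam hbc hw
    rw [h2, sub_self] at h3
    have h4 : b * w * b⁻¹ * w⁻¹ ∈ ww V cf z := mul_mem (conj_mem_wf hbc hw) (inv_mem hw)
    have h5 := (R.pi_ker _ h4).mp h3.symm
    have h6 := (h.mem_qq_iff hz hz1 hy hy1 hw).mp hwy b hb
    have h7 := h.cm_symm hz hz1 hy hy1 hyz hw hb
    rw [← cm_def, h7] at h5
    rcases h5 with e | e
    · exact e
    · rcases h6 with e' | e'
      · exact e'
      · rw [e] at e'; exact absurd e'.symm hyz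
  obtain ⟨y, hy, hy1, hyz⟩ := h.ln.exists_y
  obtain ⟨g, hg, e1, e2⟩ := h.trans2 hp hp1 hq hq1 hqp hz hz1 hy hy1 hyz
  have h1 := h.conj_ww hg hp hp1 ha
  have h2 := h.conj_ww hg hq hq1 hb
  have h3 := (h.qq_conj_iff hg hq hq1).mpr haq
  rw [e1] at h1
  rw [e2] at h2 h3
  have h4 := key y hy hy1 hyz _ h1 h3 _ h2
  rw [← cm_conj] at h4
  exact cm_eq_one.mp (conj_eq_one_iff.mp h4)

/-- `⁅a, b⁆ = p q` for `a ∈ W_p - Q_q`, `b ∈ W_q - Q_p` -/
theorem cm_eq {p q a b : G} (hp : p ∈ V) (hp1 : p ≠ 1) (hq : q ∈ V) (hq1 : q ≠ 1) (hqp : q ≠ p)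
    (ha : a ∈ ww V cf p) (haq : a ∉ qq V cf q) (hb : b ∈ ww V cf q) (hbp : b ∉ qq V cf p) :
    a * b * a⁻¹ * b⁻¹ = p * q := by
  -- the commutator is constant
  have hconst : ∀ a ∈ ww V cf p, a ∉ qq V cf q → ∀ b ∈ ww V cf q, b ∉ qq V cf p → ∀ a' ∈ ww V cf p,
      a' ∉ qq V cf q → ∀ b' ∈ ww V cf q, b' ∉ qq V cf p → ⁅a, b⁆ = ⁅a', b'⁆ := by
    intro a ha haq b hb hbp a' ha' haq' b' hb' hbp'
    have h1 := h.one p hp hp1 q hq hq1 hqp a ha a' ha' haq haq'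
    have h2 := h.one q hq hq1 p hp hp1 (Ne.symm hqp) b hb b' hb' hbp hbp'
    have h3 := cm_eq_one.mpr (h.good hp hp1 hq hq1 hqp (mul_mem ha ha') h1 hb)
    rw [h.cm_mull hp hp1 hq hq1 hqp ha ha' hb] at h3
    have h4 := cm_eq_one.mpr (h.good hq hq1 hp hp1 (Ne.symm hqp) (mul_mem hb hb') h2 ha').symm
    rw [h.cm_mulr hp hp1 hq hq1 hqp ha' hb hb'] at h4
    have s1 := h.ln.sq _ (h.cm_mem hp hp1 hq hq1 hqp ha' hb)
    have s2 := h.ln.sq _ (h.cm_mem hp hp1 hq hq1 hqp ha' hb')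
    calc ⁅a, b⁆ = ⁅a, b⁆ * (⁅a', b⁆ * ⁅a', b⁆) := by rw [s1, mul_one]
      _ = ⁅a', b⁆ := by rw [← mul_assoc, h3, one_mul]
      _ = ⁅a', b⁆ * (⁅a', b'⁆ * ⁅a', b'⁆) := by rw [s2, mul_one]
      _ = ⁅a', b'⁆ := by rw [← mul_assoc, h4, one_mul]
  -- it is not trivial
  have hne : ⁅a, b⁆ ≠ 1 := by
    obtain ⟨a', ha', b', hb', hab'⟩ := h.nc' hp hp1 hq hq1 hqp
    have h1 : a' ∉ qq V cf q := fun h1 => hab' (h.good hp hp1 hq hq1 hqp ha' h1 hb')
    have h2 : b' ∉ qq V cf p := fun h2 => hab' (h.good hq hq1 hp hp1 (Ne.symm hqp) hb' h2 ha').symm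
    rw [hconst a ha haq b hb hbp a' ha' h1 b' hb' h2]
    exact fun e => hab' (cm_eq_one.mp e)
  -- it is fixed by the elements which interchange `p` and `q`
  obtain ⟨g, hg, e1, e2⟩ := h.trans2 hp hp1 hq hq1 hqp hq hq1 hp hp1 (Ne.symm hqp)
  have h1 := h.conj_ww hg hp hp1 ha
  have h2 := h.conj_ww hg hq hq1 hb
  have h3 : g * a * g⁻¹ ∉ qq V cf p := by
    intro h3
    rw [← e2] at h3
    exact haq ((h.qq_conj_iff hg hq hq1).mp h3)
  have h4 : g * b * g⁻¹ ∉ qq V cf q := by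
    intro h4
    rw [← e1] at h4
    exact hbp ((h.qq_conj_iff hg hp hp1).mp h4)
  rw [e1] at h1
  rw [e2] at h2
  have h5 : g * ⁅a, b⁆ * g⁻¹ = ⁅a, b⁆ := by
    rw [cm_conj, h.cm_symm hp hp1 hq hq1 hqp h2 h1]
    exact hconst _ h2 h4 _ h1 h3 a ha haq b hb hbp
  rw [← cm_def]
  rcases h.ln.four hp hq hp1 hq1 (Ne.symm hqp) (h.cm_mem hp hp1 hq hq1 hqp ha hb) with e | e | e | e
  · exact absurd e hne
  · rw [e, e1] at h5; exact absurd h5 hqp
  · rw [e, e2] at h5; exact absurd h5.symm hqp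
  · exact e

omit [Finite G] in
theorem exists_wy [Finite G] : ∃ y ∈ V, y ≠ 1 ∧ y ≠ z ∧ ∃ w ∈ ww V cf y, w ∉ qq V cf z := by
  obtain ⟨y, hy, hy1, hyz⟩ := h.ln.exists_y
  obtain ⟨w, hw, hwz⟩ := h.exists_not_qq hy hy1 h.z_mem h.z_ne (Ne.symm hyz)
  exact ⟨y, hy, hy1, hyz, w, hw, hwz⟩

end Tvf

section IsB

variable {M H : Type u} [AddCommGroup M] [Group H] [DistribMulAction H M]

/-- `B` is the form of `M = W_z/⟨z⟩` -/
def IsB (R : MRep V cf z M H) (B : M → M → ZMod 2) : Prop :=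
  ∀ y ∈ V, y ≠ 1 → y ≠ z → ∀ w ∈ ww V cf y, w ∉ qq V cf z → Abs.IsForm (R.pi y) (R.phi w) B

/-- the orbit `TT` -/
def TT (R : MRep V cf z M H) : Set M := R.pi '' pts V cf z

end IsB

/-! ### points -/

namespace Tvf

variable (h : Tvf T V z cf) {t : G} (ht : t ∈ pts V cf z)
include h ht

theorem pt_mem : t ∈ ww V cf z := by
  obtain ⟨y, hy, -, -, c, hc, rfl⟩ := ht
  exact conj_mem_wf hc (h.V_le hy)

theorem pt_ne : t ≠ 1 := by
  obtain ⟨y, hy, hy1, -, c, hc, rfl⟩ := ht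
  exact fun e => hy1 (conj_eq_one_iff.mp e)

theorem pt_nz : t ≠ z := by
  obtain ⟨y, hy, hy1, hyz, c, hc, rfl⟩ := ht
  intro e
  apply hyz
  have h1 := h.cf_comm h.z_mem h.z_ne hc
  calc y = c⁻¹ * (c * y * c⁻¹) * c := by group
    _ = c⁻¹ * (z * c) := by rw [e]; group
    _ = c⁻¹ * (c * z) := by rw [h1]
    _ = z := by group

theorem pt_z : z * t ∈ pts V cf z := by
  obtain ⟨y, hy, hy1, hyz, c, hc, rfl⟩ := ht
  have h1 := h.cf_comm h.z_mem h.z_ne hc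
  refine ⟨z * y, mul_mem h.z_mem hy, h.mul_ne_one hy (Ne.symm hyz), fun e => hy1 (by simpa using e), c, hc, ?_⟩
  calc z * (c * y * c⁻¹) = (z * c) * y * c⁻¹ := by group
    _ = (c * z) * y * c⁻¹ := by rw [h1]
    _ = c * (z * y) * c⁻¹ := by group

theorem pt_comm : t * z = z * t := h.ab t (h.pt_mem ht) z h.z_mem_ww

theorem pt_sq : t * t = 1 := h.sqz t (h.pt_mem ht)

/-- `W_t` is a conjugate of some `W_y` -/
theorem wt_ex : ∃ y ∈ V, y ≠ 1 ∧ y ≠ z ∧ ∃ c ∈ cf z, t = c * y * c⁻¹ ∧ wt V cf z t = cj c (ww V cf y) := by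
  obtain ⟨y, hy, hy1, hyz, c, hc, rfl⟩ := ht
  exact ⟨y, hy, hy1, hyz, c, hc, rfl, wt_conj h.toFam hy hy1 hyz hc⟩

theorem wt_le_cf : wt V cf z t ≤ cf z := by
  obtain ⟨y, hy, hy1, hyz, c, hc, -, e⟩ := h.wt_ex ht
  rw [e]
  intro w hw
  have h1 := h.ww_le_cf' hy hy1 h.z_mem h.z_ne (mem_cj.mp hw)
  have e1 : w = c * (c⁻¹ * w * c) * c⁻¹ := by group
  rw [e1]
  exact mul_mem (mul_mem hc h1) (inv_mem hc)

theorem z_mem_wt : z ∈ wt V cf z t := by
  obtain ⟨y, hy, hy1, hyz, c, hc, -, e⟩ := h.wt_ex ht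
  rw [e, mem_cj]
  have h1 := h.cf_comm h.z_mem h.z_ne hc
  have : c⁻¹ * z * c = z := by
    calc c⁻¹ * z * c = c⁻¹ * (z * c) := by group
      _ = c⁻¹ * (c * z) := by rw [h1]
      _ = z := by group
  rw [this]
  exact h.V_le h.z_mem

theorem pt_mem_wt : t ∈ wt V cf z t := by
  obtain ⟨y, hy, hy1, hyz, c, hc, e1, e⟩ := h.wt_ex ht
  rw [e, mem_cj, e1]
  have : c⁻¹ * (c * y * c⁻¹) * c = y := by group
  rw [this]
  exact h.V_le hy

theorem wt_ab {a b : G} (ha : a ∈ wt V cf z t) (hb : b ∈ wt V cf z t) : a * b = b * a := by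
  obtain ⟨y, hy, hy1, hyz, c, hc, e1, e⟩ := h.wt_ex ht
  rw [e, mem_cj] at ha hb
  have := h.comm hy hy1 _ ha _ hb
  calc a * b = c * ((c⁻¹ * a * c) * (c⁻¹ * b * c)) * c⁻¹ := by group
    _ = c * ((c⁻¹ * b * c) * (c⁻¹ * a * c)) * c⁻¹ := by rw [this]
    _ = b * a := by group

theorem wt_sq {a : G} (ha : a ∈ wt V cf z t) : a * a = 1 := by
  obtain ⟨y, hy, hy1, hyz, c, hc, e1, e⟩ := h.wt_ex ht
  rw [e, mem_cj] at ha
  have := h.sq hy hy1 _ ha
  calc a * a = c * ((c⁻¹ * a * c) * (c⁻¹ * a * c)) * c⁻¹ := by group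
    _ = 1 := by rw [this]; group

/-- elements of `cf z` which commute with `t` normalise `W_t` -/
theorem wt_norm {c : G} (hc : c ∈ cf z) (hct : c * t = t * c) : c ∈ normalizer ((wt V cf z t : Subgroup G) : Set G) := by
  rw [mem_normalizer_iff_cj, ← wt_cj h.toFam ht hc]
  congr 1
  rw [hct]; group

theorem ww_norm_wt {a : G} (ha : a ∈ ww V cf z) : a ∈ normalizer ((wt V cf z t : Subgroup G) : Set G) :=
  h.wt_norm ht (h.ww_le_cf h.z_mem h.z_ne ha) (h.ab a ha t (h.pt_mem ht))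

/-- two elements of `W_t - Q_z` differ by an element of `Q_z` -/
theorem wt_one {a b : G} (ha : a ∈ wt V cf z t) (hb : b ∈ wt V cf z t) (ha' : a ∉ qq V cf z)
    (hb' : b ∉ qq V cf z) : a * b ∈ qq V cf z := by
  obtain ⟨y, hy, hy1, hyz, c, hc, e1, e⟩ := h.wt_ex ht
  rw [e, mem_cj] at ha hb
  have hn := h.cf_norm_qq h.z_mem h.z_ne hc
  have key : ∀ a : G, c⁻¹ * a * c ∈ qq V cf z ↔ a ∈ qq V cf z := by
    intro a
    have := mem_normalizer_iff.mp hn (c⁻¹ * a * c)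
    rw [this]
    have e2 : c * (c⁻¹ * a * c) * c⁻¹ = a := by group
    rw [e2]
  have h1 := h.one y hy hy1 z h.z_mem h.z_ne (Ne.symm hyz) _ ha _ hb (fun h2 => ha' ((key a).mp h2))
    (fun h2 => hb' ((key b).mp h2))
  have e3 : c⁻¹ * a * c * (c⁻¹ * b * c) = c⁻¹ * (a * b) * c := by group
  rw [e3] at h1
  exact (key _).mp h1

variable [Finite G]

/-- some element of `W_t` is not in `Q_z` -/
theorem exists_wt : ∃ b ∈ wt V cf z t, b ∉ qq V cf z := by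
  obtain ⟨y, hy, hy1, hyz, c, hc, e1, e⟩ := h.wt_ex ht
  obtain ⟨b, hb, hbz⟩ := h.exists_not_qq hy hy1 h.z_mem h.z_ne (Ne.symm hyz)
  refine ⟨c * b * c⁻¹, ?_, ?_⟩
  · rw [e, mem_cj]
    have : c⁻¹ * (c * b * c⁻¹) * c = b := by group
    rwa [this]
  · intro h2
    exact hbz ((mem_normalizer_iff.mp (h.cf_norm_qq h.z_mem h.z_ne hc) b).mpr h2)

/-- `W_t ∩ Q_z` centralises `W_z` -/
theorem wt_kk {b : G} (hb : b ∈ wt V cf z t) (hbz : b ∈ qq V cf z) {a : G} (ha : a ∈ ww V cf z) : a * b = b * a := by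
  obtain ⟨y, hy, hy1, hyz, c, hc, e1, e⟩ := h.wt_ex ht
  rw [e, mem_cj] at hb
  have h1 : c⁻¹ * b * c ∈ qq V cf z := by
    have := conj_mem_of_normalizer (h.cf_norm_qq h.z_mem h.z_ne) (inv_mem hc) hbz
    rwa [inv_inv] at this
  have h2 : c⁻¹ * a * c ∈ ww V cf z := by
    have := conj_mem_wf (inv_mem hc) ha
    rwa [inv_inv] at this
  have h3 := h.good hy hy1 h.z_mem h.z_ne (Ne.symm hyz) hb h1 h2
  calc a * b = c * ((c⁻¹ * a * c) * (c⁻¹ * b * c)) * c⁻¹ := by group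
    _ = c * ((c⁻¹ * b * c) * (c⁻¹ * a * c)) * c⁻¹ := by rw [h3]
    _ = b * a := by group

/-- `⁅a, b⁆ = z t` for `a ∈ W_z`, `b ∈ W_t` which do not commute -/
theorem wt_cm {a b : G} (ha : a ∈ ww V cf z) (hb : b ∈ wt V cf z t) (hab : a * b ≠ b * a) :
    a * b * a⁻¹ * b⁻¹ = z * t := by
  obtain ⟨y, hy, hy1, hyz, c, hc, e1, e⟩ := h.wt_ex ht
  rw [e, mem_cj] at hb
  have h2 : c⁻¹ * a * c ∈ ww V cf z := by
    have := conj_mem_wf (inv_mem hc) ha
    rwa [inv_inv] at this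
  have hcz := h.cf_comm h.z_mem h.z_ne hc
  have hab' : ¬ ((c⁻¹ * a * c) * (c⁻¹ * b * c) = (c⁻¹ * b * c) * (c⁻¹ * a * c)) := by
    intro h3
    apply hab
    calc a * b = c * ((c⁻¹ * a * c) * (c⁻¹ * b * c)) * c⁻¹ := by group
      _ = c * ((c⁻¹ * b * c) * (c⁻¹ * a * c)) * c⁻¹ := by rw [h3]
      _ = b * a := by group
  have h3 : c⁻¹ * a * c ∉ qq V cf y := fun h3 => hab' (h.good h.z_mem h.z_ne hy hy1 hyz h2 h3 hb)
  have h4 : c⁻¹ * b * c ∉ qq V cf z := fun h4 =>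
    hab' (h.good hy hy1 h.z_mem h.z_ne (Ne.symm hyz) hb h4 h2).symm
  have h5 := h.cm_eq h.z_mem h.z_ne hy hy1 hyz h2 h3 hb h4
  calc a * b * a⁻¹ * b⁻¹ = c * ((c⁻¹ * a * c) * (c⁻¹ * b * c) * (c⁻¹ * a * c)⁻¹ * (c⁻¹ * b * c)⁻¹) * c⁻¹ := by group
    _ = c * (z * y) * c⁻¹ := by rw [h5]
    _ = (c * z) * y * c⁻¹ := by group
    _ = (z * c) * y * c⁻¹ := by rw [hcz]
    _ = z * t := by rw [e1]; group

/-- (1.5) T3: `W_t ∩ W_u` centralises `W_z` for `t ≠ u` -/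
theorem wt_inf {u : G} (hu : u ∈ pts V cf z) (htu : t ≠ u) {b : G} (hb : b ∈ wt V cf z t)
    (hb' : b ∈ wt V cf z u) {a : G} (ha : a ∈ ww V cf z) : a * b = b * a := by
  by_contra hab
  have h1 := h.wt_cm ht ha hb hab
  have h2 := h.wt_cm hu ha hb' hab
  exact htu (mul_left_cancel (h1.symm.trans h2))

end Tvf

/-! ### the module -/

namespace Tvf

variable (h : Tvf T V z cf) [Finite G] {M H : Type u} [AddCommGroup M] [Group H] [DistribMulAction H M]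
  (R : MRep V cf z M H)
include h

/-- all points `y ≠ z` of `V` have the same image, and the elements of all `W_y - Q_z`, too -/
theorem pi_phi_eq {y w y' w' : G} (hy : y ∈ V) (hy1 : y ≠ 1) (hyz : y ≠ z)
    (hw : w ∈ ww V cf y) (hwz : w ∉ qq V cf z) (hy' : y' ∈ V) (hy1' : y' ≠ 1) (hyz' : y' ≠ z)
    (hw' : w' ∈ ww V cf y') (hwz' : w' ∉ qq V cf z) : R.pi y' = R.pi y ∧ R.phi w' = R.phi w := by
  have hz := h.z_mem
  have hz1 := h.z_ne
  rcases h.ln.four hz hy hz1 hy1 (Ne.symm hyz) hy' with e | e | e | e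
  · exact absurd e hy1'
  · exact absurd e hyz'
  · subst e
    exact ⟨rfl, h.phi_eq_of R hy' hy1' hyz' hw' hw hwz' hwz⟩
  · subst e
    refine ⟨by rw [R.pi_mul z h.z_mem_ww y (h.V_le hy), R.pi_z h.toFam, zero_add], ?_⟩
    obtain ⟨k, hk, hk1⟩ := h.exists_mover hz hz1
    have e1 := h.move hz hz1 hy hy1 hyz hk hk1
    have hkV := h.qq_le_normalizer hz hk
    have h2 : k⁻¹ * w' * k ∈ ww V cf y := by
      have := h.conj_ww (inv_mem hkV) hy' hy1' hw'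
      have e2 : k⁻¹ * (z * y) * k⁻¹⁻¹ = y := by rw [← e1]; group
      rw [e2] at this
      rwa [inv_inv] at this
    have hwc' := h.ww_le_cf' hy' hy1' hz hz1 hw'
    have h3 : k⁻¹ * w' * k ∉ qq V cf z := by
      intro h3
      apply hwz'
      have := mul_mem (mul_mem hk h3) (inv_mem hk)
      have e4 : k * (k⁻¹ * w' * k) * k⁻¹ = w' := by group
      rwa [e4] at this
    rw [← h.phi_eq_of R hy hy1 hyz h2 hw h3 hwz, R.phi_mul _ (mul_mem (inv_mem hk.1) hwc') _ hk.1,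
      R.phi_mul _ (inv_mem hk.1) _ hwc', R.phi_inv hk.1, h.phi_one_of R hk, inv_one, one_mul, mul_one]

/-- **the form exists** -/
theorem exists_isB [FaithfulSMul H M] : ∃ B : M → M → ZMod 2, IsB R B := by
  obtain ⟨y, hy, hy1, hyz, w, hw, hwz⟩ := h.exists_wy
  obtain ⟨B, F⟩ := h.exists_isForm R hy hy1 hyz hw hwz
  refine ⟨B, fun y' hy' hy1' hyz' w' hw' hwz' => ?_⟩
  obtain ⟨e1, e2⟩ := h.pi_phi_eq R hy hy1 hyz hw hwz hy' hy1' hyz' hw' hwz'
  rw [e1, e2]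
  exact F

theorem TT_eq {y : G} (hy : y ∈ V) (hy1 : y ≠ 1) (hyz : y ≠ z) : TT R = Set.range fun x : H => x • R.pi y := by
  obtain ⟨w, hw, hwz⟩ := h.exists_not_qq hy hy1 h.z_mem h.z_ne (Ne.symm hyz)
  ext m
  constructor
  · rintro ⟨t, ⟨y', hy', hy1', hyz', c, hc, rfl⟩, rfl⟩
    obtain ⟨w', hw', hwz'⟩ := h.exists_not_qq hy' hy1' h.z_mem h.z_ne (Ne.symm hyz')
    refine ⟨R.phi c, ?_⟩
    change R.phi c • R.pi y = _
    rw [← R.act c hc y' (h.V_le hy'), (h.pi_phi_eq R hy hy1 hyz hw hwz hy' hy1' hyz' hw' hwz').1]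
  · rintro ⟨x, rfl⟩
    obtain ⟨c, hc, rfl⟩ := R.phi_surj x
    exact ⟨c * y * c⁻¹, mem_pts_conj hy hy1 hyz hc, (R.act c hc y (h.V_le hy)).symm⟩

variable {B : M → M → ZMod 2} (hB : IsB R B)

include hB in
/-- the transvection system -/
theorem sys : Sys (TT R) B := by
  obtain ⟨y, hy, hy1, hyz, w, hw, hwz⟩ := h.exists_wy
  rw [h.TT_eq R hy hy1 hyz]
  exact (hB y hy hy1 hyz w hw hwz).sys

include hB in
/-- `H` acts on the transvection system -/
theorem act : Act (TT R) B H := by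
  obtain ⟨y, hy, hy1, hyz, w, hw, hwz⟩ := h.exists_wy
  rw [h.TT_eq R hy hy1 hyz]
  exact (hB y hy hy1 hyz w hw hwz).act

/-- `H` is transitive on `TT` -/
theorem TT_trans {u v : M} (hu : u ∈ TT R) (hv : v ∈ TT R) : ∃ x : H, x • u = v := by
  obtain ⟨y, hy, hy1, hyz, w, hw, hwz⟩ := h.exists_wy
  rw [h.TT_eq R hy hy1 hyz] at hu hv
  obtain ⟨a, rfl⟩ := hu
  obtain ⟨b, rfl⟩ := hv
  refine ⟨b * a⁻¹, ?_⟩
  change (b * a⁻¹) • a • R.pi y = b • R.pi y
  rw [mul_smul, inv_smul_smul]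

omit h [Finite G] in
theorem pi_mem_TT {t : G} (ht : t ∈ pts V cf z) : R.pi t ∈ TT R := ⟨t, ht, rfl⟩

include hB in
theorem form_conj {c a b : G} (hc : c ∈ cf z) (ha : a ∈ ww V cf z) (hb : b ∈ ww V cf z) :
    B (R.pi (c * a * c⁻¹)) (R.pi (c * b * c⁻¹)) = B (R.pi a) (R.pi b) := by
  rw [← R.act c hc a ha, ← R.act c hc b hb]
  exact (h.act R hB).form _ _ _

include hB in
/-- `B a t = 0` iff `a` centralises `W_t` -/
theorem form_pt {t : G} (ht : t ∈ pts V cf z) {a : G} (ha : a ∈ ww V cf z) :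
    B (R.pi a) (R.pi t) = 0 ↔ ∀ b ∈ wt V cf z t, a * b = b * a := by
  obtain ⟨y, hy, hy1, hyz, c, hc, e1, e⟩ := h.wt_ex ht
  obtain ⟨w, hw, hwz⟩ := h.exists_not_qq hy hy1 h.z_mem h.z_ne (Ne.symm hyz)
  have hyW := h.V_le (p := z) hy
  have ha' : c⁻¹ * a * c ∈ ww V cf z := by
    have := conj_mem_wf (inv_mem hc) ha
    rwa [inv_inv] at this
  have h1 : B (R.pi a) (R.pi t) = B (R.pi (c⁻¹ * a * c)) (R.pi y) := by
    rw [← h.form_conj R hB hc ha' hyW, ← e1]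
    congr 2
    group
  rw [h1, h.form_qq R hy hy1 hyz (hB y hy hy1 hyz w hw hwz) ha']
  constructor
  · intro h2 b hb
    rw [e, mem_cj] at hb
    have h3 := h.good h.z_mem h.z_ne hy hy1 hyz ha' h2 hb
    calc a * b = c * ((c⁻¹ * a * c) * (c⁻¹ * b * c)) * c⁻¹ := by group
      _ = c * ((c⁻¹ * b * c) * (c⁻¹ * a * c)) * c⁻¹ := by rw [h3]
      _ = b * a := by group
  · intro h2
    rw [h.mem_qq_iff h.z_mem h.z_ne hy hy1 ha']
    intro b hb
    left
    rw [cm_eq_one]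
    have h3 := h2 (c * b * c⁻¹) (by rw [e, mem_cj]; have : c⁻¹ * (c * b * c⁻¹) * c = b := by group
                                    rwa [this])
    calc (c⁻¹ * a * c) * b = c⁻¹ * (a * (c * b * c⁻¹)) * c := by group
      _ = c⁻¹ * ((c * b * c⁻¹) * a) * c := by rw [h3]
      _ = b * (c⁻¹ * a * c) := by group

include hB in
/-- the element `b ∈ W_t - Q_z` acts as the transvection with centre `t` -/
theorem phi_wt {t b : G} (ht : t ∈ pts V cf z) (hb : b ∈ wt V cf z t) (hbz : b ∉ qq V cf z) (m : M) :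
    (B m (R.pi t) = 0 → R.phi b • m = m) ∧ (B m (R.pi t) = 1 → R.phi b • m = m + R.pi t) := by
  obtain ⟨y, hy, hy1, hyz, c, hc, e1, e⟩ := h.wt_ex ht
  have hbc := h.wt_le_cf ht hb
  rw [e, mem_cj] at hb
  have hyW := h.V_le (p := z) hy
  have hb' : c⁻¹ * b * c ∉ qq V cf z := by
    intro h2
    apply hbz
    have := conj_mem_of_normalizer (h.cf_norm_qq h.z_mem h.z_ne) hc h2
    have e4 : c * (c⁻¹ * b * c) * c⁻¹ = b := by group
    rwa [e4] at this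
  have F := hB y hy hy1 hyz _ hb hb'
  have h1 := F.fix (R.phi c) m
  have h2 := F.mv (R.phi c) m
  have h3 : R.phi c • R.pi y = R.pi t := by rw [R.act c hc y hyW, e1]
  have h4 : R.phi c * R.phi (c⁻¹ * b * c) * (R.phi c)⁻¹ = R.phi b := by
    rw [R.phi_mul _ (mul_mem (inv_mem hc) hbc) _ hc, R.phi_mul _ (inv_mem hc) _ hbc, R.phi_inv hc]
    group
  rw [h3, h4] at h1 h2
  exact ⟨h1, h2⟩

include hB in
/-- `a b ≠ b a` for `b ∈ W_t - Q_z`, `B a t = 1` -/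
theorem not_comm {t a b : G} (ht : t ∈ pts V cf z) (ha : a ∈ ww V cf z) (hb : b ∈ wt V cf z t)
    (hbz : b ∉ qq V cf z) (h1 : B (R.pi a) (R.pi t) = 1) : a * b ≠ b * a := by
  intro e
  have h2 := (h.phi_wt R hB ht hb hbz (R.pi a)).2 h1
  have hbc := h.wt_le_cf ht hb
  rw [R.act b hbc a ha, conj_eq_of_comm e.symm] at h2
  have h3 : R.pi t = 0 := by simpa using h2
  rcases (R.pi_ker t (h.pt_mem ht)).mp h3 with e1 | e1
  · exact h.pt_ne ht e1
  · exact h.pt_nz ht e1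

include hB in
/-- `⁅a, b⁆ = z t` for `b ∈ W_t - Q_z`, `B a t = 1` -/
theorem cm_pt {t a b : G} (ht : t ∈ pts V cf z) (ha : a ∈ ww V cf z) (hb : b ∈ wt V cf z t)
    (hbz : b ∉ qq V cf z) (h1 : B (R.pi a) (R.pi t) = 1) : a * b * a⁻¹ * b⁻¹ = z * t :=
  h.wt_cm ht ha hb (h.not_comm R hB ht ha hb hbz h1)

include hB in
/-- `b a b⁻¹ = z t a` for `b ∈ W_t - Q_z`, `B a t = 1` -/
theorem conj_pt' {t a b : G} (ht : t ∈ pts V cf z) (ha : a ∈ ww V cf z) (hb : b ∈ wt V cf z t)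
    (hbz : b ∉ qq V cf z) (h1 : B (R.pi a) (R.pi t) = 1) : b * a * b⁻¹ = z * t * a := by
  have h2 := h.cm_pt R hB ht ha hb hbz h1
  have h3 : (z * t) * (z * t) = 1 := h.sqz _ (mul_mem h.z_mem_ww (h.pt_mem ht))
  calc b * a * b⁻¹ = (a * b * a⁻¹ * b⁻¹)⁻¹ * a := by group
    _ = (z * t)⁻¹ * a := by rw [h2]
    _ = z * t * a := by rw [inv_eq_of_mul_eq_one_left h3]

omit [Finite G] in
theorem pi_zmul {a : G} (ha : a ∈ ww V cf z) : R.pi (z * a) = R.pi a := by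
  rw [R.pi_mul z h.z_mem_ww a ha, R.pi_z h.toFam, zero_add]

include hB in
/-- (1.6): `f_t ∈ Q_z` acts on `W_z` as `a ↦ a z^{(a, t)}` -/
theorem exists_f {t : G} (ht : t ∈ pts V cf z) : ∃ f ∈ qq V cf z,
    (∃ b ∈ wt V cf z t, ∃ b' ∈ wt V cf z (z * t), b ∉ qq V cf z ∧ b' ∉ qq V cf z ∧ f = b * b') ∧
    ∀ a ∈ ww V cf z, (B (R.pi a) (R.pi t) = 0 → f * a * f⁻¹ = a) ∧
      (B (R.pi a) (R.pi t) = 1 → f * a * f⁻¹ = z * a) := by
  have hz := h.z_mem
  have hz1 := h.z_ne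
  have ht' := h.pt_z ht
  obtain ⟨b, hb, hbz⟩ := h.exists_wt ht
  obtain ⟨b', hb', hbz'⟩ := h.exists_wt ht'
  have hbc := h.wt_le_cf ht hb
  have hbc' := h.wt_le_cf ht' hb'
  have key : ∀ a ∈ ww V cf z, (B (R.pi a) (R.pi t) = 0 → (b * b') * a * (b * b')⁻¹ = a) ∧
      (B (R.pi a) (R.pi t) = 1 → (b * b') * a * (b * b')⁻¹ = z * a) := by
    intro a ha
    have e1 : R.pi (z * t) = R.pi t := h.pi_zmul R (h.pt_mem ht)
    constructor
    · intro h1
      have h2 := (h.form_pt R hB ht ha).mp h1 b hb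
      have h3 := (h.form_pt R hB ht' ha).mp (by rw [e1]; exact h1) b' hb'
      calc (b * b') * a * (b * b')⁻¹ = b * (b' * a) * b'⁻¹ * b⁻¹ := by group
        _ = b * (a * b') * b'⁻¹ * b⁻¹ := by rw [h3]
        _ = (b * a) * b⁻¹ := by group
        _ = (a * b) * b⁻¹ := by rw [h2]
        _ = a := by group
    · intro h1
      have h2 := h.conj_pt' R hB ht ha hb hbz h1
      have h3 := h.conj_pt' R hB ht' ha hb' hbz' (by rw [e1]; exact h1)
      have h4 := h.wt_ab ht hb (h.pt_mem_wt ht)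
      have e3 : z * (z * t) * a = t * a := by
        calc z * (z * t) * a = (z * z) * (t * a) := by group
          _ = t * a := by rw [h.ln.sq z hz, one_mul]
      calc (b * b') * a * (b * b')⁻¹ = b * (b' * a * b'⁻¹) * b⁻¹ := by group
        _ = b * (t * a) * b⁻¹ := by rw [h3, e3]
        _ = (b * t) * b⁻¹ * (b * a * b⁻¹) := by group
        _ = (t * b) * b⁻¹ * (z * t * a) := by rw [h4, h2]
        _ = (t * z) * (t * a) := by group
        _ = (z * t) * (t * a) := by rw [h.pt_comm ht]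
        _ = z * (t * t) * a := by group
        _ = z * a := by rw [h.pt_sq ht, mul_one]
  refine ⟨b * b', ⟨mul_mem hbc hbc', h.cf_comm hz hz1 (mul_mem hbc hbc'), fun w hw => ?_⟩,
    ⟨b, hb, b', hb', hbz, hbz', rfl⟩, key⟩
  rcases z2 (B (R.pi w) (R.pi t)) with h1 | h1
  · rw [(key w hw).1 h1, mul_inv_cancel]
    exact one_mem _
  · rw [(key w hw).2 h1, mul_assoc, mul_inv_cancel, mul_one]
    exact mem_zpowers z

include hB in
/-- (0.1) for the module: an element of `H` which is trivial on `M/Rad` and on `Rad` is trivial -/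
theorem eq_one_of_rad [FaithfulSMul H M] {x : H} (h1 : ∀ m n, B (x • m + m) n = 0)
    (h2 : ∀ r, (∀ n, B r n = 0) → x • r = r) : x = 1 := by
  have S := h.sys R hB
  have A := h.act R hB
  have hrad : ∀ (x : H) (r : M), (∀ n, B r n = 0) → ∀ n, B (x • r) n = 0 := by
    intro x r hr n
    have := A.form x r (x⁻¹ • n)
    rw [smul_inv_smul, hr] at this
    exact this
  let N : Subgroup H :=
    { carrier := {x | (∀ m n, B (x • m + m) n = 0) ∧ ∀ r, (∀ n, B r n = 0) → x • r = r}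
      mul_mem' := by
        rintro a b ⟨ha, ha'⟩ ⟨hb, hb'⟩
        refine ⟨fun m n => ?_, fun r hr => by rw [mul_smul, hb' r hr, ha' r hr]⟩
        have e : (a * b) • m + m = (a • (b • m) + b • m) + (b • m + m) := by
          rw [mul_smul]
          calc a • b • m + m = a • b • m + m + (b • m + b • m) := by rw [S.two, add_zero]
            _ = a • b • m + b • m + (b • m + m) := by abel
        rw [e, S.add_left, ha, hb, add_zero]
      one_mem' := ⟨fun m n => by rw [one_smul, S.two, S.zero_left], fun r _ => one_smul _ _⟩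
      inv_mem' := by
        rintro a ⟨ha, ha'⟩
        refine ⟨fun m n => ?_, fun r hr => ?_⟩
        · have e : a⁻¹ • m + m = a⁻¹ • (a • m + m) := by
            rw [smul_add, inv_smul_smul, add_comm]
          rw [e]
          exact hrad _ _ (ha m) n
        · rw [inv_smul_eq_iff, ha' r hr] }
  have hN : ∀ x ∈ N, x * x = 1 := by
    intro x hx
    refine FaithfulSMul.eq_of_smul_eq_smul (M := H) (α := M) fun m => ?_
    rw [one_smul, mul_smul]
    have e1 := hx.2 _ (hx.1 m)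
    rw [smul_add] at e1
    have e2 : x • x • m + (x • m + x • m) = m + (x • m + x • m) := by
      calc x • x • m + (x • m + x • m) = (x • x • m + x • m) + x • m := by abel
        _ = m + (x • m + x • m) := by rw [e1]; abel
    exact add_right_cancel e2
  have hc : ∀ x ∈ N, ∀ g : H, g * x * g⁻¹ ∈ N := by
    rintro x ⟨hx, hx'⟩ g
    refine ⟨fun m n => ?_, fun r hr => ?_⟩
    · have e : (g * x * g⁻¹) • m + m = g • (x • (g⁻¹ • m) + g⁻¹ • m) := by
        rw [mul_smul, mul_smul, smul_add, smul_inv_smul]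
      rw [e]
      exact hrad _ _ (hx _) n
    · rw [mul_smul, mul_smul, hx' _ (hrad _ _ hr), smul_inv_smul]
  have hle : R.pre N ≤ qq V cf z := by
    refine h.o2h (R.pre_le N) (le_normalizer_of_forall fun c hc' n hn => ?_) fun n hn => ⟨1, ?_⟩
    · rw [R.mem_pre] at hn ⊢
      refine ⟨mul_mem (mul_mem hc' hn.1) (inv_mem hc'), ?_⟩
      rw [R.phi_mul _ (mul_mem hc' hn.1) _ (inv_mem hc'), R.phi_mul c hc' n hn.1, R.phi_inv hc']
      exact hc _ hn.2 _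
    · rw [R.mem_pre] at hn
      rw [pow_one, pow_two, ← R.phi_ker _ (mul_mem hn.1 hn.1), R.phi_mul n hn.1 n hn.1]
      exact hN _ hn.2
  obtain ⟨c, hc', rfl⟩ := R.phi_surj x
  exact (R.phi_ker c hc').mpr (hle (R.mem_pre.mpr ⟨hc', h1, h2⟩))

include hB in
/-- (1.3) -/
theorem inj [FaithfulSMul H M] : Inj (TT R) B := by
  have S := h.sys R hB
  have A := h.act R hB
  intro u hu v hv huv
  obtain ⟨a, ha⟩ := A.tv u hu
  obtain ⟨b, hb⟩ := A.tv v hv
  have huv' : ∀ m, B m u = B m v := fun m => by rw [S.symm, huv, S.symm]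
  have key : ∀ m, (B m v = 0 → (a * b) • m = m) ∧ (B m v = 1 → (a * b) • m = m + (u + v)) := by
    intro m
    constructor
    · intro h1
      rw [mul_smul, (hb m).1 h1, (ha m).1 (by rw [huv', h1])]
    · intro h1
      rw [mul_smul, (hb m).2 h1, (ha (m + v)).2 (by rw [huv', S.add_left, h1, S.alt, add_zero])]
      abel
  have hr : ∀ n, B (u + v) n = 0 := fun n => by rw [S.add_left, huv, z2_add]
  have h1 : a * b = 1 := by
    refine h.eq_one_of_rad R hB (fun m n => ?_) fun r hr' => (key r).1 (hr' v)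
    rcases z2 (B m v) with h1 | h1
    · rw [(key m).1 h1, S.two, S.zero_left]
    · rw [(key m).2 h1]
      have e : m + (u + v) + m = u + v := by
        calc m + (u + v) + m = u + v + (m + m) := by abel
          _ = u + v := by rw [S.two, add_zero]
      rw [e, hr]
  obtain ⟨m, hm⟩ := S.nd v hv
  have h2 := (key m).2 (by rw [S.symm]; exact hm)
  rw [h1, one_smul] at h2
  exact S.eq_of_add (by simpa using h2.symm)

end Tvf

end Cfsg.Agent.Omega.NO3S.TV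

end

section


/-!
# NO-3a.4, transvection types (helper311's text #16747): section 3, (3.1)-(3.3)

`h : Tvf T V z cf`, `R : MRep V cf z M H`, `hB : IsB R B`, `hc : Conn (TT R) B`.

* `Tvf.swap` (3.1); `Tvf.swap_norm`;
* `xx V cf z` : `X_z = ⟨W_t : t ~ z⟩`, `pp V cf z` : `P_z = ⟨W_t ∩ K_z⟩`; `Tvf.cf_eq` : `C_z = X_z N_{C_z}(V)`;
  `Tvf.pp_two`, `Tvf.kk_xx` : `[K_z, X_z] ≤ P_z` (3.2);
* `Tvf.kk_inf_two` (3.3): `K_p ∩ K_q` is a 2-group.
-/

set_option autoImplicit false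
set_option linter.unusedSectionVars false

namespace Cfsg.Agent.Omega.NO3S.TV

open Subgroup Cfsg Cfsg.Agent.ZN Cfsg.Agent.MinSimple.Geo Cfsg.Agent.Omega.CaseL Cfsg.Agent.Omega.NO3S.Fit
open Cfsg.Agent.ZN.Block (conj_mem_of_normalizer conj_mem_of_normalizer' le_normalizer_of_forall
  mem_normalizer_of)
open Sys (rf rf_zero rf_one)

universe u

variable {G : Type u} [Group G]

/-- an element of odd order of `N P`, `P` a 2-group which normalises `N`, is in `N` -/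
theorem odd_mem_of_mul [Finite G] {N P : Subgroup G} (hP : IsPGroup 2 P) {k p : G} (hk : k ∈ N) (hp : p ∈ P)
    (hpn : p ∈ normalizer (N : Set G)) (ho : Odd (orderOf (k * p))) : k * p ∈ N := by
  have h1 : ∀ m : ℕ, (k * p) ^ m * (p ^ m)⁻¹ ∈ N := by
    intro m
    induction m with
    | zero => simp
    | succ m ih =>
      have e : (k * p) ^ (m + 1) * (p ^ (m + 1))⁻¹ =
          ((k * p) ^ m * (p ^ m)⁻¹) * (p ^ m * k * (p ^ m)⁻¹) := by
        rw [pow_succ, pow_succ]; group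
      rw [e]
      exact mul_mem ih (conj_mem_of_normalizer le_rfl (pow_mem hpn m) hk)
  obtain ⟨n, hn⟩ := hP ⟨p, hp⟩
  have hn' : p ^ 2 ^ n = 1 := congrArg Subtype.val hn
  have h2 := h1 (2 ^ n)
  rw [hn', inv_one, mul_one] at h2
  obtain ⟨m, hm⟩ := exists_pow_eq_self_of_coprime (x := k * p) (n := 2 ^ n)
    (Nat.Coprime.pow_left n (Nat.coprime_two_left.mpr ho))
  rw [← hm]
  exact pow_mem h2 m

/-- `X_z` -/
def xx (V : Subgroup G) (cf : G → Subgroup G) (z : G) : Subgroup G := ⨆ t : pts V cf z, wt V cf z t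

/-- `P_z` -/
def pp (V : Subgroup G) (cf : G → Subgroup G) (z : G) : Subgroup G := ⨆ t : pts V cf z, wt V cf z t ⊓ kk V cf z

variable {T V : Subgroup G} {z : G} {cf : G → Subgroup G}

theorem wt_le_xx {t : G} (ht : t ∈ pts V cf z) : wt V cf z t ≤ xx V cf z :=
  le_iSup (fun t : pts V cf z => wt V cf z t) ⟨t, ht⟩

theorem wt_inf_le_pp {t : G} (ht : t ∈ pts V cf z) : wt V cf z t ⊓ kk V cf z ≤ pp V cf z :=
  le_iSup (fun t : pts V cf z => wt V cf z t ⊓ kk V cf z) ⟨t, ht⟩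

theorem pp_le_kk : pp V cf z ≤ kk V cf z := iSup_le fun _ => inf_le_right

theorem pp_le_xx : pp V cf z ≤ xx V cf z := iSup_mono fun _ => inf_le_left

namespace Tvf

variable (h : Tvf T V z cf)
include h

theorem xx_le_cf : xx V cf z ≤ cf z := iSup_le fun t => h.wt_le_cf t.2

theorem cf_le_norm_xx : cf z ≤ normalizer ((xx V cf z : Subgroup G) : Set G) := by
  refine le_normalizer_of_forall fun c hc x hx => ?_
  have key : xx V cf z ≤ (xx V cf z).comap (MulAut.conj c).toMonoidHom := by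
    refine iSup_le fun t => ?_
    intro w hw
    change c * w * c⁻¹ ∈ xx V cf z
    refine wt_le_xx (pts_conj t.2 hc) ?_
    rw [wt_cj h.toFam t.2 hc]
    exact conj_mem_cj hw
  exact key hx

theorem cf_le_norm_pp : cf z ≤ normalizer ((pp V cf z : Subgroup G) : Set G) := by
  refine le_normalizer_of_forall fun c hc x hx => ?_
  have key : pp V cf z ≤ (pp V cf z).comap (MulAut.conj c).toMonoidHom := by
    refine iSup_le fun t => ?_
    intro w hw
    change c * w * c⁻¹ ∈ pp V cf z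
    refine wt_inf_le_pp (pts_conj t.2 hc) ⟨?_, conj_mem_of_normalizer h.cf_norm_kk hc hw.2⟩
    rw [wt_cj h.toFam t.2 hc]
    exact conj_mem_cj hw.1
  exact key hx

theorem kk_le_cf : kk V cf z ≤ cf z := h.kk_le_cent.trans (h.cent_le_cf h.z_mem h.z_ne)

/-- `K_z` normalises `W_t` -/
theorem kk_norm_wt {t : G} (ht : t ∈ pts V cf z) : kk V cf z ≤ normalizer ((wt V cf z t : Subgroup G) : Set G) :=
  fun _ hk => h.wt_norm ht (h.kk_le_cf hk) (mem_centralizer_iff.mp hk t (h.pt_mem ht)).symm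

/-- `[K_z, X_z] ≤ P_z` -/
theorem kk_xx {k x : G} (hk : k ∈ kk V cf z) (hx : x ∈ xx V cf z) : k * x * k⁻¹ * x⁻¹ ∈ pp V cf z := by
  let N : Subgroup G :=
    { carrier := {x | x ∈ cf z ∧ ∀ k ∈ kk V cf z, k * x * k⁻¹ * x⁻¹ ∈ pp V cf z}
      mul_mem' := by
        rintro a b ⟨ha, ha'⟩ ⟨hb, hb'⟩
        refine ⟨mul_mem ha hb, fun k hk => ?_⟩
        have e : k * (a * b) * k⁻¹ * (a * b)⁻¹ = (k * a * k⁻¹ * a⁻¹) * (a * (k * b * k⁻¹ * b⁻¹) * a⁻¹) := by group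
        rw [e]
        exact mul_mem (ha' k hk) (conj_mem_of_normalizer h.cf_le_norm_pp ha (hb' k hk))
      one_mem' := ⟨one_mem _, fun k _ => by
        have e : k * 1 * k⁻¹ * 1⁻¹ = 1 := by group
        rw [e]; exact one_mem _⟩
      inv_mem' := by
        rintro a ⟨ha, ha'⟩
        refine ⟨inv_mem ha, fun k hk => ?_⟩
        have e : k * a⁻¹ * k⁻¹ * a⁻¹⁻¹ = a⁻¹ * (k * a * k⁻¹ * a⁻¹)⁻¹ * a⁻¹⁻¹ := by group
        rw [e]
        exact conj_mem_of_normalizer h.cf_le_norm_pp (inv_mem ha) (inv_mem (ha' k hk)) }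
  have key : xx V cf z ≤ N := by
    refine iSup_le fun t => fun w hw => ⟨h.wt_le_cf t.2 hw, fun k hk => ?_⟩
    have hw' : w ∈ wt V cf z t := hw
    refine wt_inf_le_pp t.2 ⟨?_, ?_⟩
    · exact (wt V cf z t).mul_mem (conj_mem_of_normalizer (h.kk_norm_wt t.2) hk hw') ((wt V cf z t).inv_mem hw')
    · have e : k * w * k⁻¹ * w⁻¹ = k * (w * k⁻¹ * w⁻¹) := by group
      rw [e]
      exact (kk V cf z).mul_mem hk (conj_mem_of_normalizer h.cf_norm_kk (h.wt_le_cf t.2 hw) ((kk V cf z).inv_mem hk))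
  exact (key hx).2 k hk

variable [Finite G]

/-- `P_z ≤ O₂(K_z)` -/
theorem pp_le_o2 : pp V cf z ≤ o2 (kk V cf z) := by
  refine iSup_le fun t => le_o2 inf_le_right ?_ ?_
  · rintro ⟨a, ha⟩
    exact ⟨1, Subtype.ext (by rw [pow_one]; exact (pow_two a).trans (h.wt_sq t.2 ha.1))⟩
  · refine le_normalizer_of_forall fun k hk w hw => ⟨conj_mem_of_normalizer (h.kk_norm_wt t.2) hk hw.1, ?_⟩
    exact (kk V cf z).mul_mem ((kk V cf z).mul_mem hk hw.2) ((kk V cf z).inv_mem hk)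

theorem pp_two : IsPGroup 2 (pp V cf z) := (isPGroup_o2 _).to_le h.pp_le_o2

end Tvf

/-! ### with the form -/

namespace Tvf

variable (h : Tvf T V z cf) [Finite G] {M H : Type u} [AddCommGroup M] [Group H] [DistribMulAction H M]
  (R : MRep V cf z M H) {B : M → M → ZMod 2} (hB : IsB R B)
include h hB

/-- `b ∈ W_t - Q_z` acts as `rf B t` -/
theorem phi_rf {t b : G} (ht : t ∈ pts V cf z) (hb : b ∈ wt V cf z t) (hbz : b ∉ qq V cf z) (m : M) :
    R.phi b • m = rf B (R.pi t) m := by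
  have h1 := h.phi_wt R hB ht hb hbz m
  rcases z2 (B m (R.pi t)) with h2 | h2
  · rw [rf_zero h2, h1.1 h2]
  · rw [rf_one h2, h1.2 h2]

/-- each point is moved by `Q_z` -/
theorem exists_move {t : G} (ht : t ∈ pts V cf z) : ∃ q ∈ qq V cf z, q * t * q⁻¹ = z * t := by
  have S := h.sys R hB
  obtain ⟨_, ⟨s, hs, rfl⟩, hs1⟩ := S.exists_nd (pi_mem_TT R ht)
  obtain ⟨f, hf, -, hf2⟩ := h.exists_f R hB hs
  exact ⟨f, hf, (hf2 t (h.pt_mem ht)).2 hs1⟩

/-- a point is moved by an element of `Q_z` which fixes a given other point -/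
theorem exists_move2 [FaithfulSMul H M] {t u : G} (ht : t ∈ pts V cf z) (hu : u ∈ pts V cf z)
    (hne : R.pi t ≠ R.pi u) : ∃ q ∈ qq V cf z, q * t * q⁻¹ = t ∧ q * u * q⁻¹ = z * u := by
  obtain ⟨_, ⟨s, hs, rfl⟩, hs1, hs2⟩ := (h.sys R hB).exists_nonperp (h.inj R hB) (pi_mem_TT R ht)
    (pi_mem_TT R hu) (Ne.symm hne)
  obtain ⟨f, hf, -, hf2⟩ := h.exists_f R hB hs
  refine ⟨f, hf, (hf2 t (h.pt_mem ht)).1 hs1, (hf2 u (h.pt_mem hu)).2 ?_⟩
  rw [(h.sys R hB).symm]; exact hs2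

omit hB in
/-- two elements of `W_z` with the same image are conjugate under `Q_z` if they are points -/
theorem conj_eq_or {c t u : G} (hc : c ∈ cf z) (ht : t ∈ pts V cf z) (hu : u ∈ pts V cf z)
    (e : R.phi c • R.pi t = R.pi u) : c * t * c⁻¹ = u ∨ c * t * c⁻¹ = z * u := by
  rw [R.act c hc t (h.pt_mem ht)] at e
  exact (R.pi_eq h.toFam (conj_mem_wf hc (h.pt_mem ht)) (h.pt_mem hu)).mp e

/-- **(3.1) SWAP** -/
theorem swap [FaithfulSMul H M] (hc : Conn (TT R) B) {t u : G} (ht : t ∈ pts V cf z) (hu : u ∈ pts V cf z)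
    (h0 : B (R.pi t) (R.pi u) = 0) (hne : R.pi t ≠ R.pi u) :
    ∃ c ∈ cf z, c * t * c⁻¹ = u ∧ c * u * c⁻¹ = t := by
  have S := h.sys R hB
  have hzc := h.V_le_cf h.z_mem h.z_ne h.z_mem
  obtain ⟨_, ⟨a, ha, rfl⟩, _, ⟨b, hb, rfl⟩, -, -, -, -, -, -, e1, e2⟩ :=
    S.swap hc (pi_mem_TT R ht) (pi_mem_TT R hu) h0
  obtain ⟨x, hx, hxz⟩ := h.exists_wt ha
  obtain ⟨x', hx', hxz'⟩ := h.exists_wt hb
  have hxc := h.wt_le_cf ha hx
  have hxc' := h.wt_le_cf hb hx'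
  have hxx := mul_mem hxc hxc'
  have e3 : R.phi (x * x') • R.pi t = R.pi u := by
    rw [R.phi_mul x hxc x' hxc', mul_smul, h.phi_rf R hB hb hx' hxz', h.phi_rf R hB ha hx hxz, e1]
  have e4 : R.phi (x * x') • R.pi u = R.pi t := by
    rw [R.phi_mul x hxc x' hxc', mul_smul, h.phi_rf R hB hb hx' hxz', h.phi_rf R hB ha hx hxz, e2]
  have hzz : ∀ w : G, z * (z * w) = w := fun w => by rw [← mul_assoc, h.ln.sq z h.z_mem, one_mul]
  have hcz : ∀ c ∈ cf z, ∀ w : G, c * (z * w) * c⁻¹ = z * (c * w * c⁻¹) := by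
    intro c hc w
    have := h.cf_comm h.z_mem h.z_ne hc
    calc c * (z * w) * c⁻¹ = (c * z) * w * c⁻¹ := by group
      _ = (z * c) * w * c⁻¹ := by rw [this]
      _ = z * (c * w * c⁻¹) := by group
  -- first correction
  obtain ⟨c, hc, ec1, ec2⟩ : ∃ c ∈ cf z, c * t * c⁻¹ = u ∧ (c * u * c⁻¹ = t ∨ c * u * c⁻¹ = z * t) := by
    rcases h.conj_eq_or R hxx ht hu e3 with e5 | e5
    · exact ⟨x * x', hxx, e5, h.conj_eq_or R hxx hu ht e4⟩
    · obtain ⟨q, hq, hq1⟩ := h.exists_move R hB hu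
      refine ⟨q * (x * x'), mul_mem hq.1 hxx, ?_, ?_⟩
      · have : q * (x * x') * t * (q * (x * x'))⁻¹ = q * ((x * x') * t * (x * x')⁻¹) * q⁻¹ := by group
        rw [this, e5, hcz q hq.1, hq1, hzz]
      · have : q * (x * x') * u * (q * (x * x'))⁻¹ = q * ((x * x') * u * (x * x')⁻¹) * q⁻¹ := by group
        rw [this]
        have h6 : q * t * q⁻¹ = t ∨ q * t * q⁻¹ = z * t := h.qq_cases h.z_mem hq (h.pt_mem ht)
        rcases h.conj_eq_or R hxx hu ht e4 with e7 | e7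
        · rw [e7]; exact h6
        · rw [e7, hcz q hq.1]
          rcases h6 with e8 | e8
          · right; rw [e8]
          · left; rw [e8, hzz]
  rcases ec2 with e5 | e5
  · exact ⟨c, hc, ec1, e5⟩
  · obtain ⟨q, hq, hq1, hq2⟩ := h.exists_move2 R hB hu ht hne.symm
    refine ⟨q * c, mul_mem hq.1 hc, ?_, ?_⟩
    · have : q * c * t * (q * c)⁻¹ = q * (c * t * c⁻¹) * q⁻¹ := by group
      rw [this, ec1, hq1]
    · have : q * c * u * (q * c)⁻¹ = q * (c * u * c⁻¹) * q⁻¹ := by group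
      rw [this, e5, hcz q hq.1, hq2, hzz]

/-- `X_z` is transitive on `TT` -/
theorem exists_xx (hc : Conn (TT R) B) {u v : M} (hu : u ∈ TT R) (hv : v ∈ TT R) :
    ∃ x ∈ xx V cf z, R.phi x • u = v := by
  have S := h.sys R hB
  let D : Set M := {w | w ∈ TT R ∧ ∃ x ∈ xx V cf z, R.phi x • u = w}
  have hD : TT R ⊆ D := by
    refine hc D (fun w hw => hw.1) ⟨u, hu, 1, one_mem _, by rw [R.phi_one', one_smul]⟩ ?_
    rintro w ⟨hw, x, hx, hxw⟩ w' hw' hww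
    obtain ⟨s, hs, hs1⟩ := S.refl w hw w' hw' hww
    obtain ⟨b, hb, hbz⟩ := h.exists_wt hs
    have hbx := wt_le_xx hs hb
    refine ⟨hw', b * x, mul_mem hbx hx, ?_⟩
    rw [R.phi_mul b (h.xx_le_cf hbx) x (h.xx_le_cf hx), mul_smul, hxw, h.phi_rf R hB hs hb hbz, hs1,
      rf_one (by rw [S.add_right, S.alt, hww, zero_add]), S.add_cancel]
  exact (hD hv).2

/-- **(3.2)** `C_z = X_z N_{C_z}(V)` -/
theorem cf_eq (hc : Conn (TT R) B) {c : G} (hcz : c ∈ cf z) : ∃ x ∈ xx V cf z, ∃ n ∈ cf z,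
    n ∈ normalizer (V : Set G) ∧ c = x * n := by
  obtain ⟨y, hy, hy1, hyz⟩ := h.ln.exists_y
  have hy0 : R.pi y ∈ TT R := pi_mem_TT R (mem_pts hy hy1 hyz)
  obtain ⟨x, hx, hxv⟩ := h.exists_xx R hB hc hy0 ((h.act R hB).smul_mem (R.phi c) _ hy0)
  have hxc := h.xx_le_cf hx
  refine ⟨x, hx, x⁻¹ * c, mul_mem (inv_mem hxc) hcz, ?_, by group⟩
  rw [← R.smul_v0_iff h.toFam hy hy1 hyz (mul_mem (inv_mem hxc) hcz), R.phi_mul _ (inv_mem hxc) c hcz, mul_smul,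
    ← hxv, R.phi_inv hxc, inv_smul_smul]

end Tvf

/-! ### (3.3) -/

/-- the intersection of all `K_p`, `p ∈ V#` -/
def ka (V : Subgroup G) (cf : G → Subgroup G) : Subgroup G where
  carrier := {u | ∀ p ∈ V, p ≠ 1 → u ∈ kk V cf p}
  mul_mem' := fun ha hb p hp hp1 => (kk V cf p).mul_mem (ha p hp hp1) (hb p hp hp1)
  one_mem' := fun p _ _ => (kk V cf p).one_mem
  inv_mem' := fun ha p hp hp1 => (kk V cf p).inv_mem (ha p hp hp1)

theorem norm_ka (h : Fam T V z cf) : normalizer (V : Set G) ≤ normalizer ((ka V cf : Subgroup G) : Set G) := by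
  refine le_normalizer_of_forall fun g hg u hu p hp hp1 => ?_
  have := h.conj_kk hg (h.conj_pt' hg hp) (Fam.conj_ne' hp1) (hu _ (h.conj_pt' hg hp) (Fam.conj_ne' hp1))
  have e : g * (g⁻¹ * p * g) * g⁻¹ = p := by group
  rwa [e] at this

/-- (NL) for arbitrary subgroups -/
theorem eq_bot_of_norm [Finite G] (h : Fam T V z cf) {E : Subgroup G} (hE : E ≤ cf z)
    (h1 : normalizer (V : Set G) ≤ normalizer (E : Set G)) (h2 : cf z ≤ normalizer (E : Set G)) : E = ⊥ := by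
  have ho2 : o2 E = ⊥ := h.nl (isPGroup_o2 E) (h1.trans (normalizer_le_normalizer_o2 E))
    (h2.trans (normalizer_le_normalizer_o2 E))
  have hc : E ≤ centralizer ((o2 (cf z) : Subgroup G) : Set G) := by
    intro c hc
    rw [mem_centralizer_iff]
    intro r hr
    have h3 : r * c * r⁻¹ * c⁻¹ ∈ E ⊓ o2 (cf z) := by
      refine mem_inf.mpr ⟨mul_mem (conj_mem_of_normalizer h2 (o2_le _ hr) hc) (inv_mem hc), ?_⟩
      have e : r * c * r⁻¹ * c⁻¹ = r * (c * r⁻¹ * c⁻¹) := by group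
      rw [e]
      exact mul_mem hr (conj_mem_of_normalizer (le_normalizer_o2 _) (hE hc) (inv_mem hr))
    have h4 : E ⊓ o2 (cf z) ≤ o2 E := by
      refine le_o2 inf_le_left ((isPGroup_o2 (cf z)).to_le inf_le_right) ?_
      refine le_normalizer_of_forall fun g hg x hx => ?_
      exact mem_inf.mpr ⟨mul_mem (mul_mem hg (mem_inf.mp hx).1) (inv_mem hg),
        conj_mem_of_normalizer (le_normalizer_o2 _) (hE hg) (mem_inf.mp hx).2⟩
    have h5 := h4 h3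
    rw [ho2, mem_bot, mul_inv_eq_one] at h5
    exact mul_inv_eq_iff_eq_mul.mp h5
  have h6 : IsPGroup 2 E := (isPGroup_o2 (cf z)).to_le ((le_inf hE hc).trans h.char2_z)
  rw [eq_bot_iff, ← ho2]
  exact le_o2 le_rfl h6 le_normalizer

namespace Tvf

variable (h : Tvf T V z cf) [Finite G] {M H : Type u} [AddCommGroup M] [Group H] [DistribMulAction H M]
  (R : MRep V cf z M H) {B : M → M → ZMod 2} (hB : IsB R B)
include h hB

theorem odd_kk_aux {y e : G} (hy : y ∈ V) (hy1 : y ≠ 1) (hyz : y ≠ z) (he : e ∈ kk V cf z)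
    (he' : e ∈ kk V cf (z * y)) (ho : Odd (orderOf e)) : e ∈ kk V cf y := by
  have hz := h.z_mem
  have hz1 := h.z_ne
  have hzy : z * y ∈ V := mul_mem hz hy
  have hzy1 : z * y ≠ 1 := h.mul_ne_one hy (Ne.symm hyz)
  have S := h.sys R hB
  have hyp := mem_pts (cf := cf) hy hy1 hyz
  obtain ⟨_, ⟨t, ht, rfl⟩, ht1⟩ := S.exists_nd (pi_mem_TT R hyp)
  obtain ⟨f, hf, ⟨b, hb, b', hb', -, -, hfb⟩, hf2⟩ := h.exists_f R hB ht
  have hfV := h.qq_le_normalizer hz hf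
  have e1 : f * (z * y) * f⁻¹ = y := by
    have h3 := (hf2 y (h.pt_mem hyp)).2 ht1
    have h4 : f * z = z * f := h.qq_p hf
    calc f * (z * y) * f⁻¹ = (f * z) * y * f⁻¹ := by group
      _ = (z * f) * y * f⁻¹ := by rw [h4]
      _ = z * (f * y * f⁻¹) := by group
      _ = y := by rw [h3, ← mul_assoc, h.ln.sq z hz, one_mul]
  have hfx : f ∈ xx V cf z := by
    rw [hfb]; exact mul_mem (wt_le_xx ht hb) (wt_le_xx (h.pt_z ht) hb')
  have h5 : f * e * f⁻¹ ∈ kk V cf y := by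
    have := h.conj_kk hfV hzy hzy1 he'
    rwa [e1] at this
  have h6 : (f * e * f⁻¹)⁻¹ * e ∈ pp V cf z := by
    have := h.kk_xx ((kk V cf z).inv_mem he) hfx
    have e2 : (f * e * f⁻¹)⁻¹ * e = (e⁻¹ * f * e⁻¹⁻¹ * f⁻¹)⁻¹ := by group
    rw [e2]
    exact inv_mem this
  have h7 : (f * e * f⁻¹)⁻¹ * e ∈ normalizer ((kk V cf y : Subgroup G) : Set G) :=
    h.cf_norm_kk (h.cent_le_cf hy hy1 (h.kk_le_cent (pp_le_kk h6)))
  have h8 := odd_mem_of_mul h.pp_two h5 h6 h7 (by rw [mul_inv_cancel_left]; exact ho)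
  rwa [mul_inv_cancel_left] at h8

/-- odd elements of `K_z ∩ K_y` are in all `K_p` -/
theorem odd_ka {y e : G} (hy : y ∈ V) (hy1 : y ≠ 1) (hyz : y ≠ z) (he : e ∈ kk V cf z)
    (he' : e ∈ kk V cf y) (ho : Odd (orderOf e)) : e ∈ ka V cf := by
  have hz := h.z_mem
  have hz1 := h.z_ne
  intro p hp hp1
  rcases h.ln.four hz hy hz1 hy1 (Ne.symm hyz) hp with e1 | e1 | e1 | e1
  · exact absurd e1 hp1
  · rw [e1]; exact he
  · rw [e1]; exact he'
  · rw [e1]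
    refine h.odd_kk_aux R hB (mul_mem hz hy) (h.mul_ne_one hy (Ne.symm hyz)) (fun e2 => hy1 (by simpa using e2)) he ?_ ho
    rw [← mul_assoc, h.ln.sq z hz, one_mul]
    exact he'

/-- odd elements of all `K_p` are trivial -/
theorem oddGen_ka (hc : Conn (TT R) B) : Cfsg.Agent.MinSimple.VModule.oddGen (ka V cf) = ⊥ := by
  have hz := h.z_mem
  have hz1 := h.z_ne
  set E := Cfsg.Agent.MinSimple.VModule.oddGen (ka V cf) with hE
  have hEk : E ≤ ka V cf := Cfsg.Agent.MinSimple.VModule.oddGen_le _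
  have h1 : normalizer (V : Set G) ≤ normalizer (E : Set G) :=
    (norm_ka h.toFam).trans (Cfsg.Agent.MinSimple.VModule.normalizer_le_normalizer_oddGen _)
  have hEz : E ≤ kk V cf z := fun e he => hEk he z hz hz1
  have hkV : kk V cf z ≤ normalizer (V : Set G) := h.kk_le_cent.trans (centralizer_le_normalizer _)
  have hodd : ∀ g c : G, Odd (orderOf c) → Odd (orderOf (g * c * g⁻¹)) := by
    intro g c hc
    have : orderOf (g * c * g⁻¹) = orderOf c := by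
      rw [← MulAut.conj_apply]
      exact MulEquiv.orderOf_eq (MulAut.conj g) c
    rwa [this]
  have h2 : xx V cf z ≤ normalizer (E : Set G) := by
    refine le_normalizer_of_forall fun x hx e he => ?_
    have key : E ≤ E.comap (MulAut.conj x).toMonoidHom := by
      refine (closure_le _).mpr ?_
      rintro e ⟨he, ho⟩
      change x * e * x⁻¹ ∈ E
      have heE : e ∈ E := Cfsg.Agent.MinSimple.VModule.mem_oddGen he ho
      have hez := he z hz hz1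
      have h3 := h.kk_xx ((kk V cf z).inv_mem hez) hx
      have e1 : x * e * x⁻¹ = e * (e⁻¹ * x * e⁻¹⁻¹ * x⁻¹) := by group
      have ho' := hodd x e ho
      rw [e1] at ho' ⊢
      exact odd_mem_of_mul h.pp_two heE h3 (h1 (hkV (pp_le_kk h3))) ho'
    exact key he
  refine eq_bot_of_norm h.toFam (hEz.trans h.kk_le_cf) h1 ?_
  intro c hcz
  obtain ⟨x, hx, n, -, hn, rfl⟩ := h.cf_eq R hB hc hcz
  exact mul_mem (h2 hx) (h1 hn)

/-- **(3.3)** `K_p ∩ K_q` is a 2-group. -/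
theorem kk_inf_two (hc : Conn (TT R) B) {p q : G} (hp : p ∈ V) (hp1 : p ≠ 1) (hq : q ∈ V) (hq1 : q ≠ 1)
    (hqp : q ≠ p) : IsPGroup 2 (kk V cf p ⊓ kk V cf q : Subgroup G) := by
  have hz := h.z_mem
  have hz1 := h.z_ne
  obtain ⟨y, hy, hy1, hyz⟩ := h.ln.exists_y
  obtain ⟨g, hg, e1, e2⟩ := h.trans2 hp hp1 hq hq1 hqp hz hz1 hy hy1 hyz
  -- odd elements of `K_p ∩ K_q` are trivial
  have key : ∀ e ∈ kk V cf p, e ∈ kk V cf q → Odd (orderOf e) → e = 1 := by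
    intro e he he' ho
    have h1 := h.conj_kk hg hp hp1 he
    have h2 := h.conj_kk hg hq hq1 he'
    rw [e1] at h1
    rw [e2] at h2
    have ho' : Odd (orderOf (g * e * g⁻¹)) := by
      have : orderOf (g * e * g⁻¹) = orderOf e := by
        rw [← MulAut.conj_apply]
        exact MulEquiv.orderOf_eq (MulAut.conj g) e
      rwa [this]
    have h3 := Cfsg.Agent.MinSimple.VModule.mem_oddGen (h.odd_ka R hB hy hy1 hyz h1 h2 ho') ho'
    rw [h.oddGen_ka R hB hc, mem_bot] at h3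
    exact conj_eq_one_iff.mp h3
  rintro ⟨c, hcp, hcq⟩
  obtain ⟨k, m, hm, hkm⟩ := Nat.exists_eq_two_pow_mul_odd (n := orderOf c) (orderOf_pos _).ne'
  refine ⟨k, Subtype.ext ?_⟩
  change c ^ 2 ^ k = 1
  have h1 : orderOf (c ^ 2 ^ k) = m := by
    rw [orderOf_pow' c (by positivity), hkm, Nat.gcd_eq_right (Dvd.intro _ rfl)]
    exact Nat.mul_div_cancel_left m (by positivity)
  exact key _ (pow_mem hcp _) (pow_mem hcq _) (by rw [h1]; exact hm)

end Tvf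

end Cfsg.Agent.Omega.NO3S.TV

end
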