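import Cfsg.Agent.Mrg.Omega.NO3S.TV.Sys
import Cfsg.Agent.Mrg.Omega.NO3S.Fit.Char

section


/-!
# NO-3S, `q = 2`, `n = 1`, transvection types (helper311's text #16747): the module part of (3.6), sections 4 and 7

`Sys TT B` on `M`; `h` : an isometry preserving `TT`, fixing `v ∈ TT`, and trivial on `v^⊥ / (⟨v⟩ + Rad)`; `t ∈ TT` with
`(t, v) = 1`, `j = h t + t`.

* `Sys.mem_closure` : `v^⊥` is generated by `TT ∩ v^⊥`; `Sys.rd_of` : `v^⊥⊥ = ⟨v⟩ + Rad`;
* `HAct.act` (3.6) : `h m = m + (m, j) v + ρ(m)`, `ρ(m) ∈ Rad`, for `m ∈ v^⊥`;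
* `HAct.four` (section 4) : no planar pair ⟹ `h` is trivial on `v^⊥`, and `h m + m ∈ {0, v}` for all `m`;
* `HAct.seven` (section 7) : planar pairs, `a + b + r ∈ TT` for all distinct perpendicular `a, b ∈ TT` ⟹ as in `four`, or
  `h m = m + (m, j) (v + r)` on `v^⊥`, and `(·, j) ≠ 0` on `v^⊥`.
-/

set_option autoImplicit false

namespace Cfsg.Agent.Omega.NO3S.TV

variable {M : Type*} [AddCommGroup M]

/-- `m` is in the radical -/
def Rd (B : M → M → ZMod 2) (m : M) : Prop := ∀ a, B a m = 0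

namespace Sys

variable {TT : Set M} {B : M → M → ZMod 2}

theorem rd_left (S : Sys TT B) {ρ : M} (hρ : Rd B ρ) (a : M) : B ρ a = 0 := by rw [S.symm]; exact hρ a

theorem rd_add (S : Sys TT B) {a b : M} (ha : Rd B a) (hb : Rd B b) : Rd B (a + b) := fun m => by
  rw [S.add_right, ha m, hb m, add_zero]

/-- (1.3) for `Rd` -/
theorem eq_of_rd (S : Sys TT B) (I : Inj TT B) {a b : M} (ha : a ∈ TT) (hb : b ∈ TT) (h : Rd B (a + b)) : a = b := by
  refine I a ha b hb fun m => ?_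
  have := h m
  rw [S.add_right, S.symm m, S.symm m] at this
  exact z2_eq_of_add this

/-- `v^⊥` is generated by `TT ∩ v^⊥` -/
theorem mem_closure (S : Sys TT B) {v : M} (hv : v ∈ TT) {m : M} (hm : B m v = 0) :
    m ∈ AddSubgroup.closure {t | t ∈ TT ∧ B t v = 0} := by
  obtain ⟨t, ht, hvt⟩ := S.exists_nd hv
  have htv : B t v = 1 := by rw [S.symm]; exact hvt
  set K := AddSubgroup.closure {t | t ∈ TT ∧ B t v = 0} with hK
  have hvK : v ∈ K := AddSubgroup.subset_closure ⟨hv, S.alt v⟩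
  -- `t + t' ∈ K`
  have key : ∀ t' ∈ TT, B t' v = 1 → t' + t ∈ K := by
    intro t' ht' h'
    rcases z2 (B t t') with e | e
    · have h1 : v + t ∈ TT := S.refl v hv t ht hvt
      have h2 : v + t + t' ∈ TT := S.refl _ h1 t' ht' (by rw [S.add_left, e, S.symm, h', add_zero])
      have h3 : v + t + t' ∈ K := AddSubgroup.subset_closure ⟨h2, by
        rw [S.add_left, S.add_left, S.alt, htv, h']; decide⟩
      have h4 := add_mem hvK h3
      have h5 : v + (v + t + t') = t' + t := by rw [add_assoc, S.add_cancel, add_comm]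
      rwa [h5] at h4
    · refine AddSubgroup.subset_closure ⟨?_, by rw [S.add_left, h', htv]; decide⟩
      rw [add_comm]
      exact S.refl t ht t' ht' e
  have all : ∀ m ∈ AddSubgroup.closure TT, (B m v = 0 ∧ m ∈ K) ∨ (B m v = 1 ∧ m + t ∈ K) := by
    intro m hm
    induction hm using AddSubgroup.closure_induction with
    | mem x hx =>
      rcases z2 (B x v) with e | e
      · exact Or.inl ⟨e, AddSubgroup.subset_closure ⟨hx, e⟩⟩
      · exact Or.inr ⟨e, key x hx e⟩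
    | zero => exact Or.inl ⟨S.zero_left v, zero_mem _⟩
    | add a b _ _ ha hb =>
      rcases ha with ⟨a1, a2⟩ | ⟨a1, a2⟩ <;> rcases hb with ⟨b1, b2⟩ | ⟨b1, b2⟩
      · exact Or.inl ⟨by rw [S.add_left, a1, b1, add_zero], add_mem a2 b2⟩
      · refine Or.inr ⟨by rw [S.add_left, a1, b1, zero_add], ?_⟩
        rw [add_assoc]; exact add_mem a2 b2
      · refine Or.inr ⟨by rw [S.add_left, a1, b1, add_zero], ?_⟩
        have : a + b + t = a + t + b := by abel
        rw [this]; exact add_mem a2 b2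
      · refine Or.inl ⟨by rw [S.add_left, a1, b1]; decide, ?_⟩
        have h1 := add_mem a2 b2
        have : a + t + (b + t) = a + b := by
          calc a + t + (b + t) = a + b + (t + t) := by abel
            _ = a + b := by rw [S.two, add_zero]
        rwa [this] at h1
    | neg a _ ha => rw [S.neg_eq]; exact ha
  rcases all m (by rw [S.span]; exact AddSubgroup.mem_top m) with h | h
  · exact h.2
  · rw [hm] at h
    exact absurd h.1 zero_ne_one

/-- a functional `(·, j)` which vanishes on `v^⊥`: `j ∈ {0, v} + Rad` -/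
theorem rd_of (S : Sys TT B) {v t : M} (htv : B t v = 1) {j : M} (hj : ∀ m, B m v = 0 → B m j = 0) :
    Rd B j ∨ Rd B (j + v) := by
  rcases z2 (B t j) with e | e
  · left
    intro m
    rcases z2 (B m v) with e1 | e1
    · exact hj m e1
    · have h1 : B (m + t) v = 0 := by rw [S.add_left, e1, htv]; decide
      have h2 := hj _ h1
      rw [S.add_left, e, add_zero] at h2
      exact h2
  · right
    intro m
    rcases z2 (B m v) with e1 | e1
    · rw [S.add_right, e1, hj m e1, add_zero]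
    · have h1 : B (m + t) v = 0 := by rw [S.add_left, e1, htv]; decide
      have h2 := hj _ h1
      rw [S.add_left, e] at h2
      rw [S.add_right, e1]
      exact h2

/-- the vectors perpendicular to `j` -/
def pp (S : Sys TT B) (j : M) : AddSubgroup M where
  carrier := {m | B m j = 0}
  add_mem' {a b} ha hb := by
    change B a j = 0 at ha
    change B b j = 0 at hb
    change B (a + b) j = 0
    rw [S.add_left, ha, hb, add_zero]
  zero_mem' := S.zero_left j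
  neg_mem' {a} ha := by
    change B a j = 0 at ha
    change B (-a) j = 0
    rw [S.neg_eq]; exact ha

end Sys

/-- the situation of (3.6) for `h` acting on the module at `y`, `v = x̄` -/
structure HAct (TT : Set M) (B : M → M → ZMod 2) (v t : M) (h : M →+ M) : Prop where
  sys : Sys TT B
  inj : Inj TT B
  v_mem : v ∈ TT
  t_mem : t ∈ TT
  tv : B t v = 1
  iso : ∀ a b, B (h a) (h b) = B a b
  map : ∀ a ∈ TT, h a ∈ TT
  hv : h v = v
  tri : ∀ m, B m v = 0 → ∃ ρ, Rd B ρ ∧ (h m = m + ρ ∨ h m = m + v + ρ)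

namespace HAct

variable {TT : Set M} {B : M → M → ZMod 2} {v t : M} {h : M →+ M}

/-- `j ⊥ v` -/
theorem jv (c : HAct TT B v t h) : B (h t + t) v = 0 := by
  have h1 := c.iso t v
  rw [c.hv, c.tv] at h1
  rw [c.sys.add_left, h1, c.tv]
  decide

/-- **(3.6)** -/
theorem act (c : HAct TT B v t h) {m : M} (hm : B m v = 0) : ∃ ρ, Rd B ρ ∧
    ((B m (h t + t) = 0 ∧ h m = m + ρ) ∨ (B m (h t + t) = 1 ∧ h m = m + v + ρ)) := by
  obtain ⟨ρ, hρ, e⟩ := c.tri m hm
  have h1 := c.iso m t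
  have hρ' : ∀ a, B ρ a = 0 := fun a => c.sys.rd_left hρ a
  refine ⟨ρ, hρ, ?_⟩
  rcases e with e | e
  · left
    refine ⟨?_, e⟩
    rw [e, c.sys.add_left, hρ', add_zero] at h1
    rw [c.sys.add_right, h1, z2_add]
  · right
    refine ⟨?_, e⟩
    rw [e, c.sys.add_left, c.sys.add_left, hρ', add_zero] at h1
    have h2 : B v (h t) = 1 := by
      have := c.iso v t
      rw [c.hv, c.sys.symm v t, c.tv] at this
      exact this
    rw [h2] at h1
    rw [c.sys.add_right, ← h1]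
    generalize B m (h t) = a
    revert a; decide

/-- `h` is trivial on `v^⊥` if it is trivial on `TT ∩ v^⊥` -/
theorem eq_of (c : HAct TT B v t h) (hT : ∀ a ∈ TT, B a v = 0 → h a = a) {m : M} (hm : B m v = 0) :
    h m = m := by
  have h1 : AddSubgroup.closure {t | t ∈ TT ∧ B t v = 0} ≤ h.eqLocus (AddMonoidHom.id M) :=
    (AddSubgroup.closure_le _).mpr fun a ha => hT a ha.1 ha.2
  exact h1 (c.sys.mem_closure c.v_mem hm)

/-- if `h` is trivial on `v^⊥` then `h m + m ∈ {0, v}` for all `m` -/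
theorem id_case (c : HAct TT B v t h) (hT : ∀ m, B m v = 0 → h m = m)
    (hj : ∀ m, B m v = 0 → B m (h t + t) = 0) (m : M) : h m + m = 0 ∨ h m + m = v := by
  have S := c.sys
  have key : h t + t = 0 ∨ h t + t = v := by
    rcases S.rd_of c.tv hj with e | e
    · left
      have h1 : h t = t := S.eq_of_rd c.inj (c.map t c.t_mem) c.t_mem e
      rw [h1, S.two]
    · right
      have h1 : t + v ∈ TT := S.refl t c.t_mem v c.v_mem c.tv
      have h2 : h t = t + v := S.eq_of_rd c.inj (c.map t c.t_mem) h1 (by rw [← add_assoc]; exact e)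
      rw [h2, add_comm t, S.add_cancel']
  rcases z2 (B m v) with e1 | e1
  · left; rw [hT m e1, S.two]
  · have h1 : B (m + t) v = 0 := by rw [S.add_left, e1, c.tv]; decide
    have h2 := hT _ h1
    rw [map_add] at h2
    have h3 : h m + m = h t + t := by
      calc h m + m = (h m + h t) + (h t + m) := by rw [add_assoc, S.add_cancel]
        _ = (m + t) + (h t + m) := by rw [h2]
        _ = (h t + t) + (m + m) := by abel
        _ = h t + t := by rw [S.two, add_zero]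
    rw [h3]; exact key

/-- **Section 4**: no planar pair. -/
theorem four (c : HAct TT B v t h) (np : ∀ a ∈ TT, ∀ b ∈ TT, ¬ Sys.Planar TT B a b) :
    (∀ m, B m v = 0 → h m = m) ∧ ∀ m, h m + m = 0 ∨ h m + m = v := by
  have S := c.sys
  have key : ∀ a ∈ TT, B a v = 0 → B a (h t + t) = 0 ∧ h a = a := by
    intro a ha hav
    obtain ⟨ρ, hρ, ⟨e1, e2⟩ | ⟨e1, e2⟩⟩ := c.act hav
    · refine ⟨e1, S.eq_of_rd c.inj (c.map a ha) ha ?_⟩
      rw [e2, add_comm, S.add_cancel]; exact hρ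
    · exfalso
      refine np a ha v c.v_mem ⟨hav, ?_, h a, c.map a ha, fun m => ?_⟩
      · intro e
        rw [e, S.symm, c.jv] at e1
        exact absurd e1 zero_ne_one
      · rw [e2, S.add_left, S.add_left, S.rd_left hρ, add_zero]
  have h1 : ∀ m, B m v = 0 → h m = m := fun m hm => c.eq_of (fun a ha hav => (key a ha hav).2) hm
  refine ⟨h1, c.id_case h1 fun m hm => ?_⟩
  have h2 : AddSubgroup.closure {t | t ∈ TT ∧ B t v = 0} ≤ S.pp (h t + t) :=
    (AddSubgroup.closure_le _).mpr fun a ha => (key a ha.1 ha.2).1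
  exact h2 (S.mem_closure c.v_mem hm)

/-- the vectors on which `h m = m + (m, j) u` -/
def gg (S : Sys TT B) (h : M →+ M) (j u : M) : AddSubgroup M where
  carrier := {m | (B m j = 0 ∧ h m = m) ∨ (B m j = 1 ∧ h m = m + u)}
  add_mem' {a b} ha hb := by
    change (B a j = 0 ∧ h a = a) ∨ (B a j = 1 ∧ h a = a + u) at ha
    change (B b j = 0 ∧ h b = b) ∨ (B b j = 1 ∧ h b = b + u) at hb
    change (B (a + b) j = 0 ∧ h (a + b) = a + b) ∨ (B (a + b) j = 1 ∧ h (a + b) = a + b + u)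
    rw [S.add_left, map_add]
    rcases ha with ⟨a1, a2⟩ | ⟨a1, a2⟩ <;> rcases hb with ⟨b1, b2⟩ | ⟨b1, b2⟩
    · left; rw [a1, b1, a2, b2]; exact ⟨by decide, rfl⟩
    · right; rw [a1, b1, a2, b2]; exact ⟨by decide, by abel⟩
    · right; rw [a1, b1, a2, b2]; exact ⟨by decide, by abel⟩
    · left; rw [a1, b1, a2, b2]
      refine ⟨by decide, ?_⟩
      calc a + u + (b + u) = a + b + (u + u) := by abel
        _ = a + b := by rw [S.two, add_zero]
  zero_mem' := Or.inl ⟨S.zero_left j, map_zero h⟩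
  neg_mem' {a} ha := by
    change (B a j = 0 ∧ h a = a) ∨ (B a j = 1 ∧ h a = a + u) at ha
    change (B (-a) j = 0 ∧ h (-a) = -a) ∨ (B (-a) j = 1 ∧ h (-a) = -a + u)
    rw [S.neg_eq]; exact ha

/-- **Section 7**: planar pairs with constant `r ∈ Rad`. -/
theorem seven (c : HAct TT B v t h) {r : M} (hr : Rd B r)
    (pl : ∀ a ∈ TT, ∀ b ∈ TT, a ≠ b → B a b = 0 → a + b + r ∈ TT) :
    ((∀ m, B m v = 0 → h m = m) ∧ ∀ m, h m + m = 0 ∨ h m + m = v) ∨
      ((∃ m, B m v = 0 ∧ B m (h t + t) = 1) ∧ ∀ m, B m v = 0 →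
        (B m (h t + t) = 0 ∧ h m = m) ∨ (B m (h t + t) = 1 ∧ h m = m + (v + r))) := by
  have S := c.sys
  have key : ∀ m, B m v = 0 → (B m (h t + t) = 0 ∧ h m = m) ∨ (B m (h t + t) = 1 ∧ h m = m + (v + r)) := by
    have h2 : AddSubgroup.closure {t | t ∈ TT ∧ B t v = 0} ≤ gg S h (h t + t) (v + r) := by
      refine (AddSubgroup.closure_le _).mpr ?_
      rintro a ⟨ha, hav⟩
      obtain ⟨ρ, hρ, ⟨e1, e2⟩ | ⟨e1, e2⟩⟩ := c.act hav
      · refine Or.inl ⟨e1, S.eq_of_rd c.inj (c.map a ha) ha ?_⟩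
        rw [e2, add_comm, S.add_cancel]; exact hρ
      · refine Or.inr ⟨e1, ?_⟩
        have hne : a ≠ v := by
          intro e
          rw [e, S.symm, c.jv] at e1
          exact absurd e1 zero_ne_one
        rw [← add_assoc]
        refine S.eq_of_rd c.inj (c.map a ha) (pl a ha v c.v_mem hne hav) ?_
        have e3 : h a + (a + v + r) = ρ + r := by
          rw [e2]
          calc a + v + ρ + (a + v + r) = (a + a) + (v + v) + (ρ + r) := by abel
            _ = ρ + r := by rw [S.two, S.two, add_zero, zero_add]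
        rw [e3]
        exact S.rd_add hρ hr
    exact fun m hm => h2 (S.mem_closure c.v_mem hm)
  by_cases hex : ∃ m, B m v = 0 ∧ B m (h t + t) = 1
  · exact Or.inr ⟨hex, key⟩
  · left
    have h0 : ∀ m, B m v = 0 → B m (h t + t) = 0 := fun m hm =>
      z2_ne' fun e => hex ⟨m, hm, e⟩
    have h1 : ∀ m, B m v = 0 → h m = m := fun m hm => by
      rcases key m hm with e | e
      · exact e.2
      · rw [h0 m hm] at e
        exact absurd e.1 zero_ne_one
    exact ⟨h1, c.id_case h1 h0⟩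

end HAct

end Cfsg.Agent.Omega.NO3S.TV

end

section


/-!
# NO-3S, `q = 2`, `n = 1`, transvection types (helper311's text #16747): section 4

Base point `z` (= `y` of the text) with its module `M = W_z/⟨z⟩`, another point `x ∈ V`.

* `Loc T V z cf R TT B` : the family with `TT`, `B` at `z`;
* `Far V z cf x c` : `p = c z c⁻¹`, `c ∈ cf x`, is a point of `D_x - V`; `W_p = cj c W_z`;
* `Tri R B x g` : `g` is trivial on `N_z = x̄^⊥/(⟨x̄⟩ + Rad)`;
* `Loc.exists_planar` : section 4.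
-/

set_option autoImplicit false
set_option linter.unusedSectionVars false

namespace Cfsg.Agent.Omega.NO3S.TV

open Subgroup Cfsg Cfsg.Agent.ZN Cfsg.Agent.MinSimple.Geo Cfsg.Agent.Omega.CaseL Cfsg.Agent.Omega.NO3S.Fit
open Cfsg.Agent.ZN.Block (conj_mem_of_normalizer conj_mem_of_normalizer' le_normalizer_of_forall
  mem_normalizer_of)

universe u

variable {G : Type u} [Group G]

/-- `p = c z c⁻¹`, `c ∈ cf x`, is a point collinear with `x`, in `D_x - V` -/
structure Far (V : Subgroup G) (z : G) (cf : G → Subgroup G) (x c : G) : Prop where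
  mem : c ∈ cf x
  cent : c * z * c⁻¹ ∈ kk V cf z
  nmem : c * z * c⁻¹ ∉ V

/-- `g` acts trivially on `N_z = x̄^⊥ / (⟨x̄⟩ + Rad)` -/
def Tri {V : Subgroup G} {z : G} {cf : G → Subgroup G} {M H : Type u} [AddCommGroup M] [Group H]
    [DistribMulAction H M] (R : MRep V cf z M H) (B : M → M → ZMod 2) (x g : G) : Prop :=
  ∀ m, B m (R.pi x) = 0 → ∃ ρ, Rd B ρ ∧ (R.phi g • m = m + ρ ∨ R.phi g • m = m + R.pi x + ρ)

/-- the family with the form at the base point `z` -/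
structure Loc (T V : Subgroup G) (z : G) (cf : G → Subgroup G) {M H : Type u} [AddCommGroup M] [Group H]
    [DistribMulAction H M] (R : MRep V cf z M H) (TT : Set M) (B : M → M → ZMod 2) : Prop where
  fam : Fam T V z cf
  jj : jj V cf = V
  sys : Sys TT B
  inj : Inj TT B
  map : ∀ h : H, ∀ v ∈ TT, h • v ∈ TT
  form : ∀ (h : H) (a b : M), B (h • a) (h • b) = B a b
  mem : ∀ x ∈ V, x ≠ 1 → x ≠ z → R.pi x ∈ TT
  perp : ∀ x ∈ V, x ≠ 1 → x ≠ z → ∀ w ∈ ww V cf z, B (R.pi w) (R.pi x) = 0 ↔ w ∈ kk V cf x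

namespace Loc

variable {T V : Subgroup G} {z : G} {cf : G → Subgroup G} {M H : Type u} [AddCommGroup M] [Group H]
  [DistribMulAction H M] {R : MRep V cf z M H} {TT : Set M} {B : M → M → ZMod 2} {x c d : G}

section geo

variable (L : Loc T V z cf R TT B) (hx : x ∈ V) (hx1 : x ≠ 1) (hxz : x ≠ z)
include L hx hx1 hxz

/-- an element of `cf x` which fixes `z` is in `C_G(V)` -/
theorem cent_of (hc : c ∈ cf x) (h : c * z * c⁻¹ = z) : c ∈ centralizer (V : Set G) :=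
  L.fam.mem_centralizer_of hx hx1 L.fam.ln.z_mem L.fam.ln.z_ne (Ne.symm hxz) (L.fam.cf_comm hx hx1 hc)
    (comm_of_conj_eq h)

/-- `W_p` depends only on `p` -/
theorem cj_eq (hc : c ∈ cf x) (hd : d ∈ cf x) (h : d * z * d⁻¹ = c * z * c⁻¹) :
    cj d (ww V cf z) = cj c (ww V cf z) := by
  have h1 : c⁻¹ * d ∈ centralizer (V : Set G) := by
    refine L.cent_of hx hx1 hxz (mul_mem (inv_mem hc) hd) ?_
    calc c⁻¹ * d * z * (c⁻¹ * d)⁻¹ = c⁻¹ * (d * z * d⁻¹) * c := by group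
      _ = c⁻¹ * (c * z * c⁻¹) * c := by rw [h]
      _ = z := by group
  have h2 : cj (c⁻¹ * d) (ww V cf z) = ww V cf z :=
    cj_eq_of_mem_normalizer (L.fam.cent_norm L.fam.ln.z_mem L.fam.ln.z_ne h1)
  have h3 : cj d (ww V cf z) = cj c (cj (c⁻¹ * d) (ww V cf z)) := by rw [cj_cj, mul_inv_cancel_left]
  rw [h3, h2]

/-- `x ∈ W_p` -/
theorem x_mem (hc : c ∈ cf x) : x ∈ cj c (ww V cf z) := by
  rw [mem_cj]
  have : c⁻¹ * x * c = x := by
    have := L.fam.cf_comm hx hx1 hc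
    rw [mul_assoc, ← this]; group
  rw [this]
  exact L.fam.V_le hx

/-- `p ∈ W_p` -/
theorem p_mem : c * z * c⁻¹ ∈ cj c (ww V cf z) := conj_mem_cj L.fam.z_mem_ww

/-- `W_z` centralises `x` and `p`: it is in the conjugate of `C_G(V)` -/
theorem cent_w (hF : Far V z cf x c) {w : G} (hw : w ∈ ww V cf z) : c⁻¹ * w * c ∈ centralizer (V : Set G) := by
  have hz := L.fam.ln.z_mem
  have hz1 := L.fam.ln.z_ne
  have hcx := L.fam.cf_comm hx hx1 hF.mem
  have hwx : x * w = w * x := L.fam.V_comm hx (L.fam.ww_le_cent hz hz1 hw)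
  have hwp := mem_centralizer_iff.mp hF.cent w hw
  refine L.fam.mem_centralizer_of hx hx1 hz hz1 (Ne.symm hxz) ?_ ?_
  · calc c⁻¹ * w * c * x = c⁻¹ * w * (c * x) := by group
      _ = c⁻¹ * w * (x * c) := by rw [hcx]
      _ = c⁻¹ * (w * x) * c := by group
      _ = c⁻¹ * (x * w) * c := by rw [hwx]
      _ = c⁻¹ * x * c * (c⁻¹ * w * c) := by group
      _ = c⁻¹ * (x * c) * (c⁻¹ * w * c) := by group
      _ = c⁻¹ * (c * x) * (c⁻¹ * w * c) := by rw [hcx]
      _ = x * (c⁻¹ * w * c) := by group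
  · calc c⁻¹ * w * c * z = c⁻¹ * (w * (c * z * c⁻¹)) * c := by group
      _ = c⁻¹ * (c * z * c⁻¹ * w) * c := by rw [hwp]
      _ = z * (c⁻¹ * w * c) := by group

/-- `W_z` normalises `W_p` -/
theorem norm_w (hF : Far V z cf x c) {w a : G} (hw : w ∈ ww V cf z) (ha : a ∈ cj c (ww V cf z)) :
    w * a * w⁻¹ ∈ cj c (ww V cf z) := by
  have h1 := L.cent_w hx hx1 hxz hF hw
  rw [mem_cj] at ha ⊢
  have h2 := conj_mem_of_normalizer (L.fam.cent_norm L.fam.ln.z_mem L.fam.ln.z_ne) h1 ha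
  have e : c⁻¹ * w * c * (c⁻¹ * a * c) * (c⁻¹ * w * c)⁻¹ = c⁻¹ * (w * a * w⁻¹) * c := by group
  rwa [e] at h2

/-- `V ∩ W_p = ⟨x⟩` -/
theorem inf_V (hF : Far V z cf x c) {v : G} (hv : v ∈ V) (hvp : v ∈ cj c (ww V cf z)) : v = 1 ∨ v = x := by
  have hz := L.fam.ln.z_mem
  have hz1 := L.fam.ln.z_ne
  have hcx := L.fam.cf_comm hx hx1 hF.mem
  have hvx : v ∈ ww V cf x := L.fam.V_le hv
  rw [mem_cj] at hvp
  have h1 : c⁻¹ * v * c ∈ ww V cf x := conj_mem_of_normalizer' L.fam.cf_norm hF.mem hvx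
  have h2 : c⁻¹ * v * c ∈ V := by
    have := L.fam.mem_jj hx hx1 hz hz1 (Ne.symm hxz) h1 hvp
    rwa [L.jj] at this
  -- `v = c u c⁻¹`, `u ∈ V`
  have hcxx : c * x * c⁻¹ = x := conj_eq_of_comm hcx
  have e : v = c * (c⁻¹ * v * c) * c⁻¹ := by group
  have hpV := hF.nmem
  rcases L.fam.ln.four hx hz hx1 hz1 hxz h2 with e1 | e1 | e1 | e1
  · left; rw [e, e1]; group
  · right; rw [e, e1, hcxx]
  · exfalso
    rw [e1] at e
    exact hpV (by rw [← e]; exact hv)
  · exfalso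
    rw [e1] at e
    have e2 : c * (x * z) * c⁻¹ = (c * x * c⁻¹) * (c * z * c⁻¹) := by group
    rw [e2, hcxx] at e
    apply hpV
    have : c * z * c⁻¹ = x * v := by
      rw [e, ← mul_assoc, L.fam.ln.sq x hx, one_mul]
    rw [this]
    exact mul_mem hx hv

/-- commutators of `W_z` and `D_p(x)` are in `W_z ∩ W_p` -/
theorem comm_J (hF : Far V z cf x c) {n w : G} (hn : n ∈ cj c (ww V cf z))
    (hnV : n ∈ centralizer (V : Set G)) (hw : w ∈ ww V cf z) :
    n * w * n⁻¹ * w⁻¹ ∈ ww V cf z ∧ n * w * n⁻¹ * w⁻¹ ∈ cj c (ww V cf z) := by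
  have hz := L.fam.ln.z_mem
  have hz1 := L.fam.ln.z_ne
  constructor
  · exact mul_mem (conj_mem_of_normalizer (L.fam.cent_norm hz hz1) hnV hw) (inv_mem hw)
  · have e : n * w * n⁻¹ * w⁻¹ = n * (w * n⁻¹ * w⁻¹) := by group
    rw [e]
    exact mul_mem hn (L.norm_w hx hx1 hxz hF hw (inv_mem hn))

omit hx hx1 hxz in
/-- the action of `n ∈ C_G(V)` -/
theorem phi_pi {n w : G} (hn : n ∈ centralizer (V : Set G)) (hw : w ∈ ww V cf z) :
    R.phi n • R.pi w + R.pi w = R.pi (n * w * n⁻¹ * w⁻¹) := by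
  have h1 := R.comm_eq L.fam (L.fam.cent_le_cf L.fam.ln.z_mem L.fam.ln.z_ne hn) hw
  rw [← h1, L.sys.sub_eq]

/-- the module situation (3.6) for `n` -/
theorem hact {n : G} (hn : n ∈ centralizer (V : Set G)) (ht : Tri R B x n) :
    ∃ t, HAct TT B (R.pi x) t (DistribSMul.toAddMonoidHom M (R.phi n)) := by
  have hv := L.mem x hx hx1 hxz
  obtain ⟨t, ht1, ht2⟩ := L.sys.exists_nd hv
  refine ⟨t, ?_⟩
  exact
    { sys := L.sys
      inj := L.inj
      v_mem := hv
      t_mem := ht1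
      tv := by rw [L.sys.symm]; exact ht2
      iso := fun a b => L.form _ a b
      map := fun a ha => L.map _ a ha
      hv := by
        change R.phi n • R.pi x = R.pi x
        rw [R.act n (L.fam.cent_le_cf L.fam.ln.z_mem L.fam.ln.z_ne hn) x (L.fam.V_le hx),
          conj_eq_of_comm (L.fam.V_comm hx hn).symm]
      tri := ht }

omit hx1 hxz in
theorem mem_V_of_pi {e : G} (he : e ∈ ww V cf z) (h : R.pi e = 0 ∨ R.pi e = R.pi x) : e ∈ V := by
  have hz := L.fam.ln.z_mem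
  rcases h with h | h
  · rcases (R.pi_ker e he).mp h with h | h
    · rw [h]; exact one_mem _
    · rw [h]; exact hz
  · rcases (R.pi_eq L.fam he (L.fam.V_le hx)).mp h with h | h
    · rw [h]; exact hx
    · rw [h]; exact mul_mem hz hx

theorem eq_of_pi (hF : Far V z cf x c) {e : G} (he : e ∈ ww V cf z) (hep : e ∈ cj c (ww V cf z))
    (h : R.pi e = 0 ∨ R.pi e = R.pi x) : e = 1 ∨ e = x :=
  L.inf_V hx hx1 hxz hF (L.mem_V_of_pi hx he h) hep

/-- **Section 4, first half**: `[W_z, D_p(x)] ≤ ⟨x⟩` -/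
theorem four_one (np : ∀ a ∈ TT, ∀ b ∈ TT, ¬ Sys.Planar TT B a b) (hF : Far V z cf x c) {n w : G}
    (hn : n ∈ cj c (ww V cf z)) (hnk : n ∈ kk V cf x) (ht : Tri R B x n) (hw : w ∈ ww V cf z) :
    n * w * n⁻¹ * w⁻¹ = 1 ∨ n * w * n⁻¹ * w⁻¹ = x := by
  have hnV := L.fam.kk_le_cent hnk
  obtain ⟨t, ha⟩ := L.hact hx hx1 hxz hnV ht
  have h1 := (ha.four np).2 (R.pi w)
  have h2 := L.comm_J hx hx1 hxz hF hn hnV hw
  refine L.eq_of_pi hx hx1 hxz hF h2.1 h2.2 ?_
  rw [← L.phi_pi hnV hw]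
  exact h1

end geo

/-- `d` interchanges `z` and `p = c z c⁻¹` -/
structure Sw (z : G) (cf : G → Subgroup G) (x c d : G) : Prop where
  mem : d ∈ cf x
  one : d * z * d⁻¹ = c * z * c⁻¹
  two : d * (c * z * c⁻¹) * d⁻¹ = z

section swap

variable (L : Loc T V z cf R TT B) (hx : x ∈ V) (hx1 : x ≠ 1) (hxz : x ≠ z) (hF : Far V z cf x c)
  (hS : Sw z cf x c d)
include L hx hx1 hxz hF hS

theorem sw_one : cj d (ww V cf z) = cj c (ww V cf z) := L.cj_eq hx hx1 hxz hF.mem hS.mem hS.one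

theorem sw_two : cj d (cj c (ww V cf z)) = ww V cf z := by
  have h1 : d * c ∈ centralizer (V : Set G) := by
    refine L.cent_of hx hx1 hxz (mul_mem hS.mem hF.mem) ?_
    have := hS.two
    calc d * c * z * (d * c)⁻¹ = d * (c * z * c⁻¹) * d⁻¹ := by group
      _ = z := this
  rw [cj_cj]
  exact cj_eq_of_mem_normalizer (L.fam.cent_norm L.fam.ln.z_mem L.fam.ln.z_ne h1)

theorem conj_one {w : G} (hw : w ∈ ww V cf z) : d * w * d⁻¹ ∈ cj c (ww V cf z) := by
  rw [← L.sw_one hx hx1 hxz hF hS]; exact conj_mem_cj hw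

theorem conj_two {w : G} (hw : w ∈ cj c (ww V cf z)) : d * w * d⁻¹ ∈ ww V cf z := by
  have := conj_mem_cj (g := d) hw
  rwa [L.sw_two hx hx1 hxz hF hS] at this

theorem conj_kk {w : G} (hw : w ∈ kk V cf x) : d * w * d⁻¹ ∈ kk V cf x :=
  conj_mem_of_normalizer L.fam.cf_norm_kk hS.mem hw

theorem conj_x : d * x * d⁻¹ = x := conj_eq_of_comm (L.fam.cf_comm hx hx1 hS.mem)

/-- `W_p ≤ C_G(V)` -/
theorem wp_cent {w : G} (hw : w ∈ cj c (ww V cf z)) : w ∈ centralizer (V : Set G) := by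
  have hz := L.fam.ln.z_mem
  have hz1 := L.fam.ln.z_ne
  have h1 := L.conj_two hx hx1 hxz hF hS hw
  have h2 := mem_centralizer_iff.mp hF.cent _ h1
  have h3 : x * (d * w * d⁻¹) = (d * w * d⁻¹) * x := L.fam.V_comm hx (L.fam.ww_le_cent hz hz1 h1)
  have hdx := L.fam.cf_comm hx hx1 hS.mem
  refine L.fam.mem_centralizer_of hx hx1 hz hz1 (Ne.symm hxz) ?_ ?_
  · calc w * x = d⁻¹ * ((d * w * d⁻¹) * (d * x)) := by group
      _ = d⁻¹ * ((d * w * d⁻¹) * (x * d)) := by rw [hdx]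
      _ = d⁻¹ * ((d * w * d⁻¹) * x * d) := by group
      _ = d⁻¹ * (x * (d * w * d⁻¹) * d) := by rw [h3]
      _ = d⁻¹ * (x * d) * w := by group
      _ = d⁻¹ * (d * x) * w := by rw [hdx]
      _ = x * w := by group
  · have e := hS.one
    calc w * z = d⁻¹ * ((d * w * d⁻¹) * (d * z * d⁻¹)) * d := by group
      _ = d⁻¹ * ((d * w * d⁻¹) * (c * z * c⁻¹)) * d := by rw [e]
      _ = d⁻¹ * ((c * z * c⁻¹) * (d * w * d⁻¹)) * d := by rw [← h2]
      _ = d⁻¹ * ((d * z * d⁻¹) * (d * w * d⁻¹)) * d := by rw [e]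
      _ = z * w := by group

/-- **Section 4, second half**: `[W_p, D_z] ≤ ⟨x⟩` -/
theorem four_two (np : ∀ a ∈ TT, ∀ b ∈ TT, ¬ Sys.Planar TT B a b)
    (ht : ∀ n ∈ cj c (ww V cf z), n ∈ kk V cf x → Tri R B x n) {w m : G} (hw : w ∈ cj c (ww V cf z))
    (hm : m ∈ ww V cf z) (hmk : m ∈ kk V cf x) : w * m * w⁻¹ * m⁻¹ = 1 ∨ w * m * w⁻¹ * m⁻¹ = x := by
  have h1 := L.conj_one hx hx1 hxz hF hS hm
  have h2 := L.conj_kk hx hx1 hxz hF hS hmk
  have h3 := L.conj_two hx hx1 hxz hF hS hw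
  have hdx := L.conj_x hx hx1 hxz hF hS
  have h4 := L.four_one hx hx1 hxz np hF h1 h2 (ht _ h1 h2) h3
  have e : w * m * w⁻¹ * m⁻¹ = d⁻¹ * (d * m * d⁻¹ * (d * w * d⁻¹) * (d * m * d⁻¹)⁻¹ * (d * w * d⁻¹)⁻¹)⁻¹ * d := by
    group
  rcases h4 with h4 | h4
  · left; rw [e, h4]; group
  · right
    rw [e, h4, L.fam.ln.inv_eq hx]
    calc d⁻¹ * x * d = d⁻¹ * (d * x * d⁻¹) * d := by rw [hdx]
      _ = x := by group

/-- `W_p` is trivial on `N_z` -/
theorem tri_four (np : ∀ a ∈ TT, ∀ b ∈ TT, ¬ Sys.Planar TT B a b)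
    (ht : ∀ n ∈ cj c (ww V cf z), n ∈ kk V cf x → Tri R B x n) {w : G} (hw : w ∈ cj c (ww V cf z)) :
    Tri R B x w := by
  intro m hm
  obtain ⟨a, ha, rfl⟩ := R.pi_surj m
  have hak := (L.perp x hx hx1 hxz a ha).mp hm
  have hwV := L.wp_cent hx hx1 hxz hF hS hw
  refine ⟨0, fun b => L.sys.zero_right b, ?_⟩
  have h1 := L.phi_pi hwV ha
  rw [add_zero, add_zero]
  have h3 : R.phi w • R.pi a = R.pi a + R.pi (w * a * w⁻¹ * a⁻¹) := by
    rw [← h1, add_comm, L.sys.add_cancel']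
  rcases L.four_two hx hx1 hxz hF hS np ht hw ha hak with h2 | h2
  · left; rw [h3, h2, R.pi_one L.fam, add_zero]
  · right; rw [h3, h2]

end swap

/-- **Section 4.** There is a planar pair. -/
theorem exists_planar (L : Loc T V z cf R TT B) (hx : x ∈ V) (hx1 : x ≠ 1) (hxz : x ≠ z)
    (swap : ∀ c, Far V z cf x c → ∃ d, Sw z cf x c d)
    (tri : ∀ c, Far V z cf x c → ∀ n ∈ cj c (ww V cf z), n ∈ kk V cf x → Tri R B x n)
    (ntri : ∃ c, Far V z cf x c ∧ ∃ w ∈ cj c (ww V cf z), ¬ Tri R B x w) :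
    ∃ a ∈ TT, ∃ b ∈ TT, Sys.Planar TT B a b := by
  by_contra hcon
  push Not at hcon
  obtain ⟨c, hF, w, hw, hwt⟩ := ntri
  obtain ⟨d, hS⟩ := swap c hF
  exact hwt (L.tri_four hx hx1 hxz hF hS hcon (tri c hF) hw)

end Loc

end Cfsg.Agent.Omega.NO3S.TV

end

section


/-!
# NO-3S, `q = 2`, `n = 1`, transvection types (helper311's text #16747): the module part of (3.4), (3.5)

`Sys TT B` on the finite module `M` of `H`; `HS` : `H` preserves `TT` and `B` and contains the transvections with centres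
in `TT`.

* `Sys.triv` : **(3.4)** a 2-subgroup `O` of `Stab(v)` normalized by `Stab(v)` is trivial on `v^⊥ / (⟨v⟩ + Rad)`;
* `Sys.odd_eq_one` : **(3.5)** an element of odd order of `Stab(v)` which is trivial on `v^⊥ / (⟨v⟩ + Rad)` is `1`.
-/

set_option autoImplicit false

namespace Cfsg.Agent.Omega.NO3S.TV

variable {M : Type*} [AddCommGroup M]

section fixed

variable {P : Type*} [Group P] [DistribMulAction P M]

/-- a 2-group fixes a nonzero vector of `L/K` -/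
theorem exists_fixed_mod [Finite M] (hP : IsPGroup 2 P) (two : ∀ m : M, m + m = 0) {K L : AddSubgroup M}
    (hK : ∀ (g : P), ∀ m ∈ K, g • m ∈ K) (hL : ∀ (g : P), ∀ m ∈ L, g • m ∈ L) (hne : ∃ m ∈ L, m ∉ K) :
    ∃ m ∈ L, m ∉ K ∧ ∀ g : P, g • m + m ∈ K := by
  classical
  have hneg : ∀ m : M, -m = m := fun m => neg_eq_of_add_eq_zero_left (two m)
  -- `P` acts on the cosets
  let X : Type _ := {m : M // m ∈ L}
  let s : Setoid X := ⟨fun a b => (a : M) + b ∈ K, ⟨fun a => by rw [two]; exact zero_mem _,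
    fun {a b} h => by rw [add_comm]; exact h, fun {a b c} h1 h2 => by
      have : (a : M) + c = (a + b) + (b + c) := by
        calc (a : M) + c = a + (b + b) + c := by rw [two, add_zero]
          _ = (a + b) + (b + c) := by abel
      rw [this]; exact add_mem h1 h2⟩⟩
  let Q := Quotient s
  let iA : MulAction P Q :=
    { smul := fun g => Quotient.map (fun a : X => (⟨g • (a : M), hL g a a.2⟩ : X)) (fun a b hab => by
        change g • (a : M) + g • (b : M) ∈ K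
        rw [← smul_add]; exact hK g _ hab)
      one_smul := fun q => by
        induction q using Quotient.inductionOn with
        | h a =>
          refine Quotient.sound ?_
          change (1 : P) • (a : M) + a ∈ K
          rw [one_smul, two]; exact zero_mem _
      mul_smul := fun g g' q => by
        induction q using Quotient.inductionOn with
        | h a =>
          refine Quotient.sound ?_
          change (g * g') • (a : M) + g • (g' • (a : M)) ∈ K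
          rw [mul_smul, two]; exact zero_mem _ }
  have hfQ : Finite Q := inferInstance
  let e0 : Q := Quotient.mk s ⟨0, zero_mem _⟩
  have h0 : e0 ∈ MulAction.fixedPoints P Q := by
    intro g
    refine Quotient.sound ?_
    change g • (0 : M) + 0 ∈ K
    rw [smul_zero, add_zero]; exact zero_mem _
  -- the number of cosets is even
  have hcard : 2 ∣ Nat.card Q := by
    have e1 : Nonempty (Q ≃ L ⧸ K.addSubgroupOf L) := by
      refine ⟨Quotient.congr (Equiv.refl _) fun a b => ?_⟩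
      change (a : M) + b ∈ K ↔ QuotientAddGroup.leftRel _ a b
      rw [QuotientAddGroup.leftRel_apply, AddSubgroup.mem_addSubgroupOf]
      change _ ↔ -(a : M) + b ∈ K
      rw [hneg]
    obtain ⟨e1⟩ := e1
    rw [Nat.card_congr e1]
    obtain ⟨m, hm, hmK⟩ := hne
    have h2 : addOrderOf (QuotientAddGroup.mk (⟨m, hm⟩ : L) : L ⧸ K.addSubgroupOf L) = 2 := by
      refine addOrderOf_eq_prime ?_ ?_
      · change QuotientAddGroup.mk ((2 : ℕ) • (⟨m, hm⟩ : L)) = 0
        have : (2 : ℕ) • (⟨m, hm⟩ : L) = 0 := by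
          rw [two_nsmul]
          exact Subtype.ext (two m)
        rw [this]; rfl
      · intro e
        rw [QuotientAddGroup.eq_zero_iff, AddSubgroup.mem_addSubgroupOf] at e
        exact hmK e
    rw [← h2]
    exact addOrderOf_dvd_natCard _
  obtain ⟨q, hq, hq0⟩ := hP.exists_fixed_point_of_prime_dvd_card_of_fixed_point Q hcard h0
  induction q using Quotient.inductionOn with
  | h a =>
    refine ⟨a, a.2, fun h => hq0 (Quotient.sound ?_), fun g => ?_⟩
    · change (0 : M) + a ∈ K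
      rwa [zero_add]
    · exact Quotient.exact (hq g)

end fixed

namespace Sys

variable {TT : Set M} {B : M → M → ZMod 2}

/-- `⟨v⟩ + Rad` -/
def kv (S : Sys TT B) (v : M) : AddSubgroup M where
  carrier := {m | Rd B m ∨ Rd B (m + v)}
  add_mem' {a b} ha hb := by
    change Rd B a ∨ Rd B (a + v) at ha
    change Rd B b ∨ Rd B (b + v) at hb
    change Rd B (a + b) ∨ Rd B (a + b + v)
    rcases ha with ha | ha <;> rcases hb with hb | hb
    · exact Or.inl (S.rd_add ha hb)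
    · right; rw [add_assoc]; exact S.rd_add ha hb
    · right
      have : a + b + v = a + v + b := by abel
      rw [this]; exact S.rd_add ha hb
    · left
      have := S.rd_add ha hb
      have e : a + v + (b + v) = a + b := by
        calc a + v + (b + v) = a + b + (v + v) := by abel
          _ = a + b := by rw [S.two, add_zero]
      rwa [e] at this
  zero_mem' := Or.inl fun a => S.zero_right a
  neg_mem' {a} ha := by
    change Rd B a ∨ Rd B (a + v) at ha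
    change Rd B (-a) ∨ Rd B (-a + v)
    rwa [S.neg_eq]

theorem mem_kv (S : Sys TT B) {v m : M} : m ∈ S.kv v ↔ Rd B m ∨ Rd B (m + v) := Iff.rfl

theorem mem_pp (S : Sys TT B) {v m : M} : m ∈ S.pp v ↔ B m v = 0 := Iff.rfl

/-- `⟨v⟩ + Rad` is perpendicular to `v^⊥` -/
theorem kv_perp (S : Sys TT B) {v m n : M} (hm : m ∈ S.kv v) (hn : B n v = 0) : B n m = 0 := by
  rcases hm with h | h
  · exact h n
  · have := h n
    rwa [S.add_right, hn, add_zero] at this

theorem kv_le_pp (S : Sys TT B) (v : M) : S.kv v ≤ S.pp v := fun m hm => by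
  rw [S.mem_pp, S.symm]
  exact S.kv_perp hm (S.alt v)

/-- the form of the statement in `HAct.tri` -/
theorem tri_of (S : Sys TT B) {v m m' : M} (h : m' + m ∈ S.kv v) :
    ∃ ρ, Rd B ρ ∧ (m' = m + ρ ∨ m' = m + v + ρ) := by
  rcases h with h | h
  · exact ⟨m' + m, h, Or.inl (by rw [add_comm m', S.add_cancel])⟩
  · refine ⟨m' + m + v, h, Or.inr ?_⟩
    calc m' = m' + (m + m) + (v + v) := by rw [S.two, S.two, add_zero, add_zero]
      _ = m + v + (m' + m + v) := by abel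

theorem of_tri (S : Sys TT B) {v m m' : M} (h : ∃ ρ, Rd B ρ ∧ (m' = m + ρ ∨ m' = m + v + ρ)) :
    m' + m ∈ S.kv v := by
  obtain ⟨ρ, hρ, e | e⟩ := h
  · left
    rw [e]
    have : m + ρ + m = ρ := by rw [add_comm, S.add_cancel]
    rwa [this]
  · right
    rw [e]
    have : m + v + ρ + m + v = ρ := by
      calc m + v + ρ + m + v = (m + m) + (v + v) + ρ := by abel
        _ = ρ := by rw [S.two, S.two, add_zero, zero_add]
    rwa [this]

section act

variable {H : Type*} [Group H] [DistribMulAction H M]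

theorem _root_.Cfsg.Agent.Omega.NO3S.TV.Act.rd (A : Act TT B H) (h : H) {m : M} (hm : Rd B m) : Rd B (h • m) := by
  intro a
  have := A.form h (h⁻¹ • a) m
  rw [smul_inv_smul] at this
  rw [this]
  exact hm _

theorem smul_kv (S : Sys TT B) (A : Act TT B H) {v : M} {h : H} (hv : h • v = v) {m : M} (hm : m ∈ S.kv v) :
    h • m ∈ S.kv v := by
  rcases hm with e | e
  · exact Or.inl (A.rd h e)
  · right
    have := A.rd h e
    rwa [smul_add, hv] at this

theorem smul_pp (S : Sys TT B) (A : Act TT B H) {v : M} {h : H} (hv : h • v = v) {m : M} (hm : m ∈ S.pp v) :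
    h • m ∈ S.pp v := by
  rw [S.mem_pp] at hm ⊢
  have := A.form h m v
  rwa [hv, hm] at this

/-- **(3.4)** -/
theorem triv [Finite M] (S : Sys TT B) (A : Act TT B H) {v : M} (hv : v ∈ TT) {O : Subgroup H} (hO : IsPGroup 2 O)
    (hOv : ∀ g ∈ O, g • v = v) (hn : ∀ h : H, h • v = v → ∀ g ∈ O, h * g * h⁻¹ ∈ O) {g : H} (hg : g ∈ O) {m : M}
    (hm : B m v = 0) : ∃ ρ, Rd B ρ ∧ (g • m = m + ρ ∨ g • m = m + v + ρ) := by
  -- `C_0`
  let C0 : AddSubgroup M :=
    { carrier := {m | B m v = 0 ∧ ∀ g ∈ O, g • m + m ∈ S.kv v}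
      add_mem' := by
        rintro a b ⟨ha, ha1⟩ ⟨hb, hb1⟩
        refine ⟨by rw [S.add_left, ha, hb, add_zero], fun g hg => ?_⟩
        have : g • (a + b) + (a + b) = (g • a + a) + (g • b + b) := by rw [smul_add]; abel
        rw [this]; exact add_mem (ha1 g hg) (hb1 g hg)
      zero_mem' := ⟨S.zero_left v, fun g _ => by rw [smul_zero, add_zero]; exact zero_mem _⟩
      neg_mem' := by
        rintro a ⟨ha, ha1⟩
        rw [S.neg_eq]
        exact ⟨ha, ha1⟩ }
  have hC0 : ∀ m, m ∈ C0 ↔ B m v = 0 ∧ ∀ g ∈ O, g • m + m ∈ S.kv v := fun _ => Iff.rfl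
  have hKC : S.kv v ≤ C0 := fun m hm => ⟨S.kv_le_pp v hm, fun g hg => add_mem (S.smul_kv A (hOv g hg) hm) hm⟩
  have hCinv : ∀ h : H, h • v = v → ∀ m ∈ C0, h • m ∈ C0 := by
    rintro h hhv m ⟨hm, hm1⟩
    refine ⟨S.smul_pp A hhv hm, fun g hg => ?_⟩
    have h1 := hn h⁻¹ (by rw [inv_smul_eq_iff, hhv]) g hg
    have h2 := S.smul_kv A hhv (hm1 _ h1)
    have e : h • ((h⁻¹ * g * h⁻¹⁻¹) • m + m) = g • h • m + h • m := by
      rw [smul_add, ← mul_smul, ← mul_smul]
      congr 2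
      group
    rwa [e] at h2
  have hC2 : ∀ n ∈ C0, ∀ μ ∈ TT, B μ v = 0 → μ ∉ C0 → B n μ = 0 := by
    intro n hn μ hμ hμv hμC
    refine z2_ne' fun e => hμC ?_
    obtain ⟨a, ha⟩ := A.tv μ hμ
    have h1 : a • v = v := (ha v).1 (by rw [S.symm]; exact hμv)
    have h2 := hCinv a h1 n hn
    rw [(ha n).2 e] at h2
    have := add_mem hn h2
    rwa [S.add_cancel] at this
  -- all `μ ∈ TT ∩ v^⊥` are in `C_0`
  have key : ∀ μ ∈ TT, B μ v = 0 → μ ∈ C0 := by
    by_contra hcon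
    push Not at hcon
    obtain ⟨μ0, hμ0, hμ0v, hμ0C⟩ := hcon
    set E : Set M := {μ | μ ∈ TT ∧ B μ v = 0 ∧ μ ∉ C0} with hE
    set L := AddSubgroup.closure E ⊔ S.kv v with hL
    have hEL : ∀ μ ∈ E, μ ∈ L := fun μ hμ => (le_sup_left : AddSubgroup.closure E ≤ L) (AddSubgroup.subset_closure hμ)
    have hLP : L ≤ S.pp v := sup_le ((AddSubgroup.closure_le _).mpr fun μ hμ => hμ.2.1) (S.kv_le_pp v)
    have hE2 : ∀ g ∈ O, ∀ μ ∈ E, g • μ ∈ E := by
      rintro g hg μ ⟨h1, h2, h3⟩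
      refine ⟨A.smul_mem g μ h1, S.smul_pp A (hOv g hg) h2, fun h4 => h3 ?_⟩
      have := hCinv g⁻¹ (by rw [inv_smul_eq_iff, hOv g hg]) _ h4
      rwa [inv_smul_smul] at this
    have hLO : ∀ (g : O), ∀ m ∈ L, g • m ∈ L := by
      rintro ⟨g, hg⟩ m hm
      change g • m ∈ L
      have h1 : L ≤ L.comap (DistribSMul.toAddMonoidHom M g) := by
        refine sup_le ((AddSubgroup.closure_le _).mpr fun μ hμ => ?_) fun m hm => ?_
        · exact hEL _ (hE2 g hg μ hμ)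
        · exact (le_sup_right : S.kv v ≤ L) (S.smul_kv A (hOv g hg) hm)
      exact h1 hm
    obtain ⟨m, hmL, hmK, hfix⟩ := exists_fixed_mod hO S.two (K := S.kv v) (L := L)
      (fun g m hm => S.smul_kv A (hOv g g.2) hm) hLO ⟨μ0, hEL μ0 ⟨hμ0, hμ0v, hμ0C⟩, fun h => hμ0C (hKC h)⟩
    have hmC : m ∈ C0 := ⟨hLP hmL, fun g hg => hfix ⟨g, hg⟩⟩
    -- `C_0 ⊥ L`
    have hCL : ∀ n ∈ C0, ∀ l ∈ L, B n l = 0 := by
      intro n hn l hl
      have h1 : L ≤ S.pp n := by
        refine sup_le ((AddSubgroup.closure_le _).mpr fun μ hμ => ?_) fun m hm => ?_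
        · change B μ n = 0
          rw [S.symm]
          exact hC2 n hn μ hμ.1 hμ.2.1 hμ.2.2
        · rw [S.mem_pp, S.symm]
          exact S.kv_perp hm hn.1
      have := h1 hl
      rw [S.mem_pp, S.symm] at this
      exact this
    have h1 : ∀ n, B n v = 0 → B n m = 0 := by
      intro n hn
      have h2 : AddSubgroup.closure {t | t ∈ TT ∧ B t v = 0} ≤ S.pp m := by
        refine (AddSubgroup.closure_le _).mpr fun μ hμ => ?_
        change B μ m = 0
        by_cases hμC : μ ∈ C0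
        · exact hCL μ hμC m hmL
        · rw [S.symm]
          exact hC2 m hmC μ hμ.1 hμ.2 hμC
      exact h2 (S.mem_closure hv hn)
    obtain ⟨t, -, ht1⟩ := S.exists_nd hv
    exact hmK (S.rd_of (by rw [S.symm]; exact ht1) h1)
  have hP : m ∈ C0 := by
    have h2 : AddSubgroup.closure {t | t ∈ TT ∧ B t v = 0} ≤ C0 :=
      (AddSubgroup.closure_le _).mpr fun μ hμ => key μ hμ.1 hμ.2
    exact h2 (S.mem_closure hv hm)
  exact S.tri_of (hP.2 g hg)

/-- **(3.5)** -/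
theorem odd_eq_one [FaithfulSMul H M] (S : Sys TT B) (I : Inj TT B) (A : Act TT B H) {v : M} (hv : v ∈ TT) {h : H}
    (hodd : Odd (orderOf h)) (hhv : h • v = v)
    (tri : ∀ m, B m v = 0 → ∃ ρ, Rd B ρ ∧ (h • m = m + ρ ∨ h • m = m + v + ρ)) : h = 1 := by
  -- `h² = 1` on `TT ∩ v^⊥`
  have h1 : ∀ μ ∈ TT, B μ v = 0 → h • h • μ = μ := by
    intro μ hμ hμv
    obtain ⟨ρ, hρ, e | e⟩ := tri μ hμv
    · have e1 : h • μ = μ := by
        refine S.eq_of_rd I (A.smul_mem h μ hμ) hμ ?_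
        rw [e, add_comm, S.add_cancel]; exact hρ
      rw [e1, e1]
    · refine S.eq_of_rd I (A.smul_mem h _ (A.smul_mem h μ hμ)) hμ ?_
      rw [e, smul_add, smul_add, hhv, e]
      have : μ + v + ρ + v + h • ρ + μ = ρ + h • ρ := by
        calc μ + v + ρ + v + h • ρ + μ = (μ + μ) + (v + v) + (ρ + h • ρ) := by abel
          _ = ρ + h • ρ := by rw [S.two, S.two, add_zero, zero_add]
      rw [this]
      exact S.rd_add hρ (A.rd h hρ)
  have h2 : ∀ m, B m v = 0 → h • h • m = m := by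
    intro m hm
    have h3 : AddSubgroup.closure {t | t ∈ TT ∧ B t v = 0} ≤
        ((DistribSMul.toAddMonoidHom M h).comp (DistribSMul.toAddMonoidHom M h)).eqLocus
          (AddMonoidHom.id M) :=
      (AddSubgroup.closure_le _).mpr fun a ha => h1 a ha.1 ha.2
    exact h3 (S.mem_closure hv hm)
  have h4 : h ^ 4 = 1 := by
    refine FaithfulSMul.eq_of_smul_eq_smul (α := M) fun m => ?_
    rw [one_smul]
    have e0 : h ^ 4 = h * (h * (h * h)) := by simp only [pow_succ, pow_zero, one_mul, mul_assoc]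
    rw [e0, mul_smul, mul_smul, mul_smul]
    set δ := h • m + m with hδ
    have hδv : B δ v = 0 := by
      have := A.form h m v
      rw [hhv] at this
      rw [hδ, S.add_left, this, z2_add]
    have e1 : h • m = m + δ := by rw [hδ, add_comm (h • m), S.add_cancel]
    have hδ2 : B (h • δ) v = 0 := S.smul_pp A hhv hδv
    have e2 : h • h • m = m + (δ + h • δ) := by rw [e1, smul_add, e1, add_assoc]
    rw [e2, smul_add, smul_add, e2, h2 _ (by rw [S.add_left, hδv, hδ2, add_zero]), S.add_cancel']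
  have h5 : orderOf h ∣ 4 := orderOf_dvd_of_pow_eq_one h4
  have h6 : Nat.Coprime (orderOf h) 4 := by
    have : Nat.Coprime (orderOf h) (2 ^ 2) := (Nat.coprime_two_right.mpr hodd).pow_right 2
    exact this
  have h7 : orderOf h = 1 := Nat.eq_one_of_dvd_coprimes h6 dvd_rfl h5
  exact orderOf_eq_one_iff.mp h7

end act

end Sys

end Cfsg.Agent.Omega.NO3S.TV

end

section


/-!
# NO-3S, `q = 2`, `n = 1`, transvection types (helper311's text #16747): (3.4) - (3.7)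

Base point `z` (= `y` of the text) with its module `M = W_z/⟨z⟩`, another point `x ∈ V`.

* `Loc.tri_of_two` : **(3.4)** a normal 2-subgroup of `C_G(V)` is trivial on `N_z`;
* `Loc.kk_of_odd` : **(3.5)** an element of odd order of `C_G(V)` which is trivial on `N_z` lies in `K_z`;
* `Loc.tri_far` : **(3.6)** `D_p(x)` is trivial on `N_z`;
* `Loc.exists_not_tri` : **(3.7)** some `W_p`, `p ∈ D_x - V`, is not trivial on `N_z`;
* `Loc.tri_iff` : if `K_z` is a 2-group, then `O_2(C_G(V))` is the kernel of `C_G(V)` on `N_z`.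
-/

set_option autoImplicit false
set_option linter.unusedSectionVars false

namespace Cfsg.Agent.Omega.NO3S.TV

open Subgroup Cfsg Cfsg.Agent.ZN Cfsg.Agent.MinSimple.Geo Cfsg.Agent.Omega.CaseL Cfsg.Agent.Omega.NO3S.Fit
open Cfsg.Agent.ZN.Block (conj_mem_of_normalizer conj_mem_of_normalizer' le_normalizer_of_forall
  mem_normalizer_of)

universe u

variable {G : Type u} [Group G]

/-- a finite group in which the elements of odd order are trivial is a 2-group -/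
theorem exists_pow_two_of_odd [Finite G] {L : Subgroup G} (h : ∀ l ∈ L, Odd (orderOf l) → l = 1) {l : G}
    (hl : l ∈ L) : ∃ k : ℕ, l ^ 2 ^ k = 1 := by
  obtain ⟨k, m, hm, e⟩ := Nat.exists_eq_two_pow_mul_odd (n := orderOf l) (orderOf_pos l).ne'
  refine ⟨k, h _ (pow_mem hl _) ?_⟩
  rw [orderOf_pow' l (pow_ne_zero _ two_ne_zero), e, Nat.gcd_eq_right (Dvd.intro _ rfl),
    Nat.mul_div_cancel_left _ (by positivity)]
  exact hm

namespace Loc

variable {T V : Subgroup G} {z : G} {cf : G → Subgroup G} {M H : Type u} [AddCommGroup M] [Group H]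
  [DistribMulAction H M] {R : MRep V cf z M H} {TT : Set M} {B : M → M → ZMod 2} {x c d : G}

section geo

variable [Finite G] (L : Loc T V z cf R TT B) (A : Act TT B H) (hx : x ∈ V) (hx1 : x ≠ 1) (hxz : x ≠ z)
include L A hx hx1 hxz

/-- **(3.4)** -/
theorem tri_of_two [Finite M] {O : Subgroup G} (hO : IsPGroup 2 O) (hOC : O ≤ centralizer (V : Set G))
    (hn : centralizer (V : Set G) ≤ normalizer (O : Set G)) {g : G} (hg : g ∈ O) : Tri R B x g := by
  have hz := L.fam.ln.z_mem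
  have hz1 := L.fam.ln.z_ne
  have hCc := L.fam.cent_le_cf hz hz1
  have hOc : O ≤ cf z := hOC.trans hCc
  have h1 : IsPGroup 2 (R.img O) := by
    have : IsPGroup 2 (O.subgroupOf (cf z)) := hO.comap_of_injective _ (cf z).subtype_injective
    exact this.map _
  intro m hm
  refine L.sys.triv A (L.mem x hx hx1 hxz) h1 ?_ ?_ ((R.mem_img hOc).mpr ⟨g, hg, rfl⟩) hm
  · intro k hk
    obtain ⟨o, ho, rfl⟩ := (R.mem_img hOc).mp hk
    exact R.cent_v0 L.fam hx (hOC ho)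
  · intro k hk o' ho'
    obtain ⟨o, ho, rfl⟩ := (R.mem_img hOc).mp ho'
    obtain ⟨e, he, rfl⟩ := R.stab L.fam hx hx1 hxz hk
    refine (R.mem_img hOc).mpr ⟨e * o * e⁻¹, conj_mem_of_normalizer hn he ho, ?_⟩
    rw [R.phi_mul _ (mul_mem (hCc he) (hOc ho)) _ (inv_mem (hCc he)), R.phi_mul _ (hCc he) _ (hOc ho),
      R.phi_inv (hCc he)]

/-- **(3.5)** -/
theorem kk_of_odd [FaithfulSMul H M] {g : G} (hg : g ∈ centralizer (V : Set G)) (hodd : Odd (orderOf g))
    (ht : Tri R B x g) : g ∈ kk V cf z := by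
  have hz := L.fam.ln.z_mem
  have hz1 := L.fam.ln.z_ne
  have hgc := L.fam.cent_le_cf hz hz1 hg
  have h1 : Odd (orderOf (R.phi g)) := by
    have h2 : orderOf (R.hom ⟨g, hgc⟩) ∣ orderOf (⟨g, hgc⟩ : cf z) := orderOf_map_dvd _ _
    rw [orderOf_mk] at h2
    exact Odd.of_dvd_nat hodd h2
  have h2 : R.phi g = 1 := L.sys.odd_eq_one L.inj A (L.mem x hx hx1 hxz) h1 (R.cent_v0 L.fam hx hg) ht
  have h3 := (R.phi_ker g hgc).mp h2
  rw [mem_centralizer_iff]
  intro w hw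
  have hgz := L.fam.cf_comm hz hz1 hgc
  have h4 : g ^ 2 * w * (g ^ 2)⁻¹ = w := by
    have e0 : g ^ 2 * w * (g ^ 2)⁻¹ = g * (g * w * g⁻¹) * g⁻¹ := by rw [pow_two]; group
    rw [e0]
    rcases L.fam.qq_cases hz h3 hw with e | e
    · rw [e, e]
    · rw [e]
      calc g * (z * w) * g⁻¹ = (g * z) * w * g⁻¹ := by group
        _ = z * (g * w * g⁻¹) := by rw [hgz]; group
        _ = z * z * w := by rw [e, mul_assoc]
        _ = w := by rw [L.fam.ln.zz, one_mul]
  have h5 : g ∈ zpowers (g ^ 2) := by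
    have h6 : Nat.Coprime (orderOf g) 2 := Nat.coprime_two_right.mpr hodd
    obtain ⟨k, hk⟩ := exists_pow_eq_self_of_coprime (G := G) h6.symm
    exact mem_zpowers_iff.mpr ⟨k, by rw [zpow_natCast]; exact hk⟩
  have h6 : zpowers (g ^ 2) ≤ centralizer ({w} : Set G) := by
    rw [zpowers_le, mem_centralizer_singleton_iff]
    exact comm_of_conj_eq h4
  exact (mem_centralizer_singleton_iff.mp (h6 h5)).symm

omit [Finite G] A in
/-- `K_x` normalises `W_p` -/
theorem kk_norm (hc : c ∈ cf x) : kk V cf x ≤ normalizer ((cj c (ww V cf z) : Subgroup G) : Set G) := by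
  have hz := L.fam.ln.z_mem
  have hz1 := L.fam.ln.z_ne
  refine le_normalizer_of_forall fun k hk w hw => ?_
  rw [mem_cj] at hw ⊢
  have h1 : c⁻¹ * k * c ∈ kk V cf x := conj_mem_of_normalizer' L.fam.cf_norm_kk hc hk
  have h2 := conj_mem_of_normalizer (L.fam.cent_norm hz hz1) (L.fam.kk_le_cent h1) hw
  have e : c⁻¹ * k * c * (c⁻¹ * w * c) * (c⁻¹ * k * c)⁻¹ = c⁻¹ * (k * w * k⁻¹) * c := by group
  rwa [e] at h2

/-- **(3.6)** : `D_p(x) ≤ O_2(K_x) ≤ O_2(C_G(V))` is trivial on `N_z` -/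
theorem tri_far [Finite M] (hc : c ∈ cf x) {n : G} (hn : n ∈ cj c (ww V cf z)) (hnk : n ∈ kk V cf x) :
    Tri R B x n := by
  have hz := L.fam.ln.z_mem
  have hz1 := L.fam.ln.z_ne
  have h1 : cj c (ww V cf z) ⊓ kk V cf x ≤ o2 (kk V cf x) := by
    refine le_o2 inf_le_right ?_ ?_
    · exact IsPGroup.to_le (((L.fam.two_ww hz hz1).map _ : IsPGroup 2 (cj c (ww V cf z)))) inf_le_left
    · refine le_normalizer_of_forall fun k hk w hw => ⟨?_, ?_⟩
      · exact conj_mem_of_normalizer (L.kk_norm hx hx1 hxz hc) hk hw.1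
      · exact (kk V cf x).mul_mem ((kk V cf x).mul_mem hk hw.2) ((kk V cf x).inv_mem hk)
  refine L.tri_of_two A hx hx1 hxz (O := o2 (kk V cf x)) (isPGroup_o2 _) ((o2_le _).trans L.fam.kk_le_cent) ?_
    (h1 ⟨hn, hnk⟩)
  exact (L.fam.cent_le_cf hx hx1).trans (L.fam.cf_norm_kk.trans (normalizer_le_normalizer_o2 _))

/-- the elements of `C_G(V)` which are trivial on `N_z` -/
def trs : Subgroup G where
  carrier := {g | g ∈ centralizer (V : Set G) ∧ Tri R B x g}
  mul_mem' := by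
    rintro a b ⟨ha, ha1⟩ ⟨hb, hb1⟩
    refine ⟨mul_mem ha hb, fun m hm => ?_⟩
    have hz := L.fam.ln.z_mem
    have hz1 := L.fam.ln.z_ne
    have h1 := L.sys.of_tri (hb1 m hm)
    have h2 := L.sys.of_tri (ha1 m hm)
    have hav := R.cent_v0 L.fam hx ha
    refine L.sys.tri_of ?_
    rw [R.phi_mul a (L.fam.cent_le_cf hz hz1 ha) b (L.fam.cent_le_cf hz hz1 hb), mul_smul]
    have h3 := L.sys.smul_kv A hav h1
    rw [smul_add] at h3
    have h4 := add_mem h3 h2
    have e : R.phi a • R.phi b • m + R.phi a • m + (R.phi a • m + m) = R.phi a • R.phi b • m + m := by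
      rw [add_assoc, L.sys.add_cancel]
    rwa [e] at h4
  one_mem' := ⟨one_mem _, fun m _ => L.sys.tri_of (by rw [R.phi_one', one_smul, L.sys.two]; exact zero_mem _)⟩
  inv_mem' := by
    rintro a ⟨ha, ha1⟩
    refine ⟨inv_mem ha, fun m hm => ?_⟩
    have hz := L.fam.ln.z_mem
    have hz1 := L.fam.ln.z_ne
    have hac := L.fam.cent_le_cf hz hz1 ha
    have hav := R.cent_v0 L.fam hx ha
    have hav' : (R.phi a)⁻¹ • R.pi x = R.pi x := by rw [inv_smul_eq_iff, hav]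
    refine L.sys.tri_of ?_
    rw [R.phi_inv hac]
    have h3 := L.sys.smul_kv A hav' (L.sys.of_tri (ha1 m hm))
    rw [smul_add, inv_smul_smul, add_comm] at h3
    exact h3

theorem mem_trs {g : G} : g ∈ L.trs A hx ↔ g ∈ centralizer (V : Set G) ∧ Tri R B x g := Iff.rfl

theorem trs_norm : centralizer (V : Set G) ≤ normalizer ((L.trs A hx : Subgroup G) : Set G) := by
  have hz := L.fam.ln.z_mem
  have hz1 := L.fam.ln.z_ne
  refine le_normalizer_of_forall fun k hk g hg => ⟨mul_mem (mul_mem hk hg.1) (inv_mem hk), fun m hm => ?_⟩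
  have hkc := L.fam.cent_le_cf hz hz1 hk
  have hgc := L.fam.cent_le_cf hz hz1 hg.1
  have hkv := R.cent_v0 L.fam hx hk
  have hkv' : (R.phi k)⁻¹ • R.pi x = R.pi x := by rw [inv_smul_eq_iff, hkv]
  refine L.sys.tri_of ?_
  rw [R.phi_mul _ (mul_mem hkc hgc) _ (inv_mem hkc), R.phi_mul _ hkc _ hgc, R.phi_inv hkc, mul_smul, mul_smul]
  have h1 : B ((R.phi k)⁻¹ • m) (R.pi x) = 0 := L.sys.smul_pp A hkv' hm
  have h2 := L.sys.smul_kv A hkv (L.sys.of_tri (hg.2 _ h1))
  rwa [smul_add, smul_inv_smul] at h2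

/-- if `K_z` is a 2-group, then `O_2(C_G(V))` is the kernel of `C_G(V)` on `N_z` -/
theorem tri_iff [Finite M] [FaithfulSMul H M] (hK : IsPGroup 2 (kk V cf z)) {g : G}
    (hg : g ∈ centralizer (V : Set G)) : Tri R B x g ↔ g ∈ o2 (centralizer (V : Set G)) := by
  constructor
  · intro ht
    have h1 : L.trs A hx ≤ o2 (centralizer (V : Set G)) := by
      refine le_o2 (fun g hg => hg.1) ?_ (L.trs_norm A hx hx1 hxz)
      rintro ⟨l, hl⟩
      obtain ⟨k, hk⟩ := exists_pow_two_of_odd (L := L.trs A hx) (fun l hl hodd => by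
        have h2 := L.kk_of_odd A hx hx1 hxz hl.1 hodd hl.2
        obtain ⟨n, hn⟩ := hK ⟨l, h2⟩
        have h3 : l ^ 2 ^ n = 1 := congrArg Subtype.val hn
        have h4 : orderOf l ∣ 2 ^ n := orderOf_dvd_of_pow_eq_one h3
        have h5 : Nat.Coprime (orderOf l) (2 ^ n) := (Nat.coprime_two_right.mpr hodd).pow_right n
        exact orderOf_eq_one_iff.mp (Nat.eq_one_of_dvd_coprimes h5 dvd_rfl h4)) hl
      exact ⟨k, Subtype.ext hk⟩
    exact h1 ⟨hg, ht⟩
  · intro h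
    exact L.tri_of_two A hx hx1 hxz (isPGroup_o2 _) (o2_le _) (le_normalizer_o2 _) h

end geo

/-! ### (3.7) -/

section nontriv

variable {T' : Subgroup G} {M' H' : Type u} [AddCommGroup M'] [Group H'] [DistribMulAction H' M']
  {R' : MRep V cf x M' H'} {TT' : Set M'} {B' : M' → M' → ZMod 2}

/-- `W_p ≤ C_G(V)` for `p ∈ D_x - V`, from the form at `x` -/
theorem cj_le_cent (L' : Loc T' V x cf R' TT' B') (hz : z ∈ V) (hz1 : z ≠ 1) (hxz : x ≠ z) (hc : c ∈ cf x)
    (hp : c * z * c⁻¹ ∈ kk V cf z) : cj c (ww V cf z) ≤ centralizer (V : Set G) := by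
  have hx := L'.fam.ln.z_mem
  have hx1 := L'.fam.ln.z_ne
  have hzW : z ∈ ww V cf x := L'.fam.V_le hz
  have hpW : c * z * c⁻¹ ∈ ww V cf x := conj_mem_wf hc hzW
  have h1 : B' (R'.pi (c * z * c⁻¹)) (R'.pi z) = 0 := (L'.perp z hz hz1 (Ne.symm hxz) _ hpW).mpr hp
  have hc' : c⁻¹ ∈ cf x := inv_mem hc
  have h2 : B' (R'.pi (c⁻¹ * z * c⁻¹⁻¹)) (R'.pi z) = 0 := by
    rw [← R'.act c⁻¹ hc' z hzW, ← L'.form (R'.phi c), R'.phi_inv hc, smul_inv_smul, R'.act c hc z hzW,
      L'.sys.symm]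
    exact h1
  have h3 : c⁻¹ * z * c⁻¹⁻¹ ∈ kk V cf z :=
    (L'.perp z hz hz1 (Ne.symm hxz) _ (conj_mem_wf hc' hzW)).mp h2
  intro w hw
  rw [mem_cj] at hw
  have h4 := mem_centralizer_iff.mp h3 _ hw
  have h5 : w * z = z * w := by
    calc w * z = c * ((c⁻¹ * w * c) * (c⁻¹ * z * c⁻¹⁻¹)) * c⁻¹ := by group
      _ = c * ((c⁻¹ * z * c⁻¹⁻¹) * (c⁻¹ * w * c)) * c⁻¹ := by rw [h4]
      _ = z * w := by group
  have h6 : w * x = x * w := by
    have h7 : x * (c⁻¹ * w * c) = (c⁻¹ * w * c) * x := L'.fam.V_comm hx (L'.fam.ww_le_cent hz hz1 hw)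
    have hcx := L'.fam.cf_comm hx hx1 hc
    have hcx' := L'.fam.cf_comm hx hx1 hc'
    calc w * x = c * (c⁻¹ * w * c) * (c⁻¹ * x) := by group
      _ = c * ((c⁻¹ * w * c) * x) * c⁻¹ := by rw [hcx']; group
      _ = c * (x * (c⁻¹ * w * c)) * c⁻¹ := by rw [h7]
      _ = (c * x) * (c⁻¹ * w) := by group
      _ = x * w := by rw [hcx]; group
  exact L'.fam.mem_centralizer_of hx hx1 hz hz1 (Ne.symm hxz) h6 h5

/-- the product of two transvections with nonperpendicular centres is not a 2-element -/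
theorem _root_.Cfsg.Agent.Omega.NO3S.TV.Sys.not_two (S' : Sys TT' B') {a b : H'} {μ u : M'} (hμu : B' μ u = 1)
    (ha : ∀ m, (B' m μ = 0 → a • m = m) ∧ (B' m μ = 1 → a • m = m + μ))
    (hb : ∀ m, (B' m u = 0 → b • m = m) ∧ (B' m u = 1 → b • m = m + u)) (k : ℕ) : (a * b) ^ 2 ^ k ≠ 1 := by
  intro e
  have huμ : B' u μ = 1 := by rw [S'.symm]; exact hμu
  have e1 : (a * b) • μ = u := by
    rw [mul_smul, (hb μ).2 hμu, (ha _).2 (by rw [S'.add_left, S'.alt, huμ, zero_add])]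
    rw [add_comm μ u, S'.add_cancel']
  have e2 : (a * b) • u = u + μ := by
    rw [mul_smul, (hb u).1 (S'.alt u), (ha u).2 huμ]
  have e3 : (a * b) • (u + μ) = μ := by
    rw [smul_add, e1, e2, add_comm (u + μ) u, S'.add_cancel]
  have h3 : (a * b) ^ 3 ∈ MulAction.stabilizer H' μ := by
    rw [MulAction.mem_stabilizer_iff, pow_succ, pow_two, mul_smul, mul_smul, e1, e2, e3]
  have h2 : (a * b) ^ 2 ^ k ∈ MulAction.stabilizer H' μ := by rw [e]; exact one_mem _
  have h1 : a * b ∈ MulAction.stabilizer H' μ := by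
    have hco : Int.gcd (3 : ℤ) ((2 ^ k : ℕ) : ℤ) = 1 := by
      have : Nat.Coprime 3 (2 ^ k) := (by norm_num : Nat.Coprime 3 2).pow_right k
      exact this
    have hb := Int.gcd_eq_gcd_ab (3 : ℤ) ((2 ^ k : ℕ) : ℤ)
    rw [hco] at hb
    have e4 : a * b = ((a * b) ^ 3) ^ (Int.gcdA (3 : ℤ) ((2 ^ k : ℕ) : ℤ)) *
        ((a * b) ^ 2 ^ k) ^ (Int.gcdB (3 : ℤ) ((2 ^ k : ℕ) : ℤ)) := by
      rw [← zpow_natCast (a * b) 3, ← zpow_natCast (a * b) (2 ^ k), ← zpow_mul, ← zpow_mul, ← zpow_add]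
      have : ((3 : ℕ) : ℤ) * Int.gcdA 3 ((2 ^ k : ℕ) : ℤ) + ((2 ^ k : ℕ) : ℤ) * Int.gcdB 3 ((2 ^ k : ℕ) : ℤ) = 1 := by
        rw [show ((3 : ℕ) : ℤ) = 3 from rfl, ← hb]; rfl
      rw [this, zpow_one]
    rw [e4]
    exact mul_mem (zpow_mem h3 _) (zpow_mem h2 _)
  rw [MulAction.mem_stabilizer_iff, e1] at h1
  rw [h1, S'.alt] at huμ
  exact zero_ne_one huμ

/-- **(3.7)**, no group acts trivially on `N_z` -/
theorem exists_not_tri [Finite G] [FaithfulSMul H M] (L : Loc T V z cf R TT B) (A : Act TT B H)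
    (L' : Loc T' V x cf R' TT' B') (hxz : x ≠ z)
    (hpts : ∀ t ∈ TT', ∃ c ∈ cf x, t = R'.pi (c * z * c⁻¹))
    (hw0 : ∃ w ∈ ww V cf z, ∀ m : M', (B' m (R'.pi z) = 0 → R'.phi w • m = m) ∧
      (B' m (R'.pi z) = 1 → R'.phi w • m = m + R'.pi z))
    (hμ : ∃ μ ∈ TT', B' μ (R'.pi z) = 0 ∧ μ ≠ R'.pi z)
    (hKK : IsPGroup 2 (kk V cf z ⊓ kk V cf (x * z) : Subgroup G)) :
    ∃ c, Far V z cf x c ∧ ∃ w ∈ cj c (ww V cf z), ¬ Tri R B x w := by
  by_contra hcon
  push Not at hcon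
  have hx := L'.fam.ln.z_mem
  have hx1 := L'.fam.ln.z_ne
  have hz := L.fam.ln.z_mem
  have hz1 := L.fam.ln.z_ne
  have hzW : z ∈ ww V cf x := L'.fam.V_le hz
  -- `L_x`
  set E : Set G := {w | ∃ c, Far V z cf x c ∧ w ∈ cj c (ww V cf z)} with hE
  set X := closure E with hX
  have hXt : X ≤ L.trs A hx := by
    refine (closure_le _).mpr ?_
    rintro w ⟨c, hF, hw⟩
    exact ⟨L'.cj_le_cent hz hz1 hxz hF.mem hF.cent hw, hcon c hF w hw⟩
  -- `Q_x` normalises `L_x`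
  have hq : ∀ q ∈ qq V cf x, ∀ l ∈ X, q * l * q⁻¹ ∈ X := by
    intro q hq l hl
    have hqc : q ∈ cf x := L.fam.qq_le_cf hq
    have h1 : X ≤ X.comap (MulAut.conj q).toMonoidHom := by
      refine (closure_le _).mpr ?_
      rintro w ⟨c, hF, hw⟩
      change q * w * q⁻¹ ∈ X
      refine subset_closure ⟨q * c, ?_, ?_⟩
      · have e : q * c * z * (q * c)⁻¹ = q * (c * z * c⁻¹) * q⁻¹ := by group
        have hpW : c * z * c⁻¹ ∈ ww V cf x := conj_mem_wf hF.mem hzW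
        refine ⟨mul_mem hqc hF.mem, ?_, ?_⟩
        · rw [e]
          rcases L.fam.qq_cases hx hq hpW with e1 | e1
          · rw [e1]; exact hF.cent
          · rw [e1]; exact mul_mem (L.fam.V_le_kk hz hz1 hx) hF.cent
        · rw [e]
          rcases L.fam.qq_cases hx hq hpW with e1 | e1
          · rw [e1]; exact hF.nmem
          · rw [e1]; exact fun h => hF.nmem ((mul_mem_cancel_left hx).mp h)
      · rw [← cj_cj]; exact conj_mem_cj hw
    exact h1 hl
  -- the elements of odd order of `L_x` are trivial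
  obtain ⟨q, hqx, hqV⟩ := L.fam.exists_mover hx hx1
  have hqz := L.fam.move hx hx1 hz hz1 (Ne.symm hxz) hqx hqV
  have hqz' : q⁻¹ * z * q = x * z := by
    have hqx' := L.fam.qq_p hqx
    have e0 : q * (x * z) * q⁻¹ = z := by
      calc q * (x * z) * q⁻¹ = (q * x) * z * q⁻¹ := by group
        _ = x * (q * z * q⁻¹) := by rw [hqx']; group
        _ = x * x * z := by rw [hqz, mul_assoc]
        _ = z := by rw [L'.fam.ln.zz, one_mul]
    calc q⁻¹ * z * q = q⁻¹ * (q * (x * z) * q⁻¹) * q := by rw [e0]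
      _ = x * z := by group
  have hodd : ∀ l ∈ X, Odd (orderOf l) → l = 1 := by
    intro l hl ho
    have h1 : l ∈ kk V cf z := L.kk_of_odd A hx hx1 hxz (hXt hl).1 ho (hXt hl).2
    have h2 := hq q hqx l hl
    have h3 : orderOf (q * l * q⁻¹) = orderOf l := by
      rw [← MulAut.conj_apply]; exact orderOf_injective (MulAut.conj q).toMonoidHom (MulAut.conj q).injective l
    have h4 : q * l * q⁻¹ ∈ kk V cf z := L.kk_of_odd A hx hx1 hxz (hXt h2).1 (by rw [h3]; exact ho) (hXt h2).2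
    have h5 : l ∈ kk V cf (x * z) := by
      have := L.fam.conj_kk (inv_mem (L.fam.qq_le_normalizer hx hqx)) hz hz1 h4
      rw [inv_inv, hqz'] at this
      have e : q⁻¹ * (q * l * q⁻¹) * q = l := by group
      rwa [e] at this
    obtain ⟨n, hn⟩ := hKK ⟨l, ⟨h1, h5⟩⟩
    have h6 : l ^ 2 ^ n = 1 := congrArg Subtype.val hn
    have h7 : orderOf l ∣ 2 ^ n := orderOf_dvd_of_pow_eq_one h6
    have h8 : Nat.Coprime (orderOf l) (2 ^ n) := (Nat.coprime_two_right.mpr ho).pow_right n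
    exact orderOf_eq_one_iff.mp (Nat.eq_one_of_dvd_coprimes h8 dvd_rfl h7)
  -- two transvections
  obtain ⟨μ, hμ, hμ0, hμne⟩ := hμ
  have hzT := L'.mem z hz hz1 (Ne.symm hxz)
  obtain ⟨u, hu, hu0, huμ⟩ := L'.sys.exists_nonperp L'.inj hzT hμ hμne
  have hune : u ≠ R'.pi z := by
    rintro rfl
    rw [L'.sys.symm, hμ0] at huμ
    exact zero_ne_one huμ
  obtain ⟨w0, hw0, hw0a⟩ := hw0
  have key : ∀ t ∈ TT', B' t (R'.pi z) = 0 → t ≠ R'.pi z → ∃ w ∈ X, w ∈ cf x ∧
      ∀ m : M', (B' m t = 0 → R'.phi w • m = m) ∧ (B' m t = 1 → R'.phi w • m = m + t) := by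
    intro t ht ht0 htne
    obtain ⟨c, hc, rfl⟩ := hpts t ht
    have hpW : c * z * c⁻¹ ∈ ww V cf x := conj_mem_wf hc hzW
    have hcent : c * z * c⁻¹ ∈ kk V cf z := (L'.perp z hz hz1 (Ne.symm hxz) _ hpW).mp ht0
    have hF : Far V z cf x c := by
      refine ⟨hc, hcent, fun hV => ?_⟩
      have hne0 : R'.pi (c * z * c⁻¹) ≠ 0 := L'.sys.ne_zero ht
      rcases L'.fam.ln.four hx hz hx1 hz1 hxz hV with e | e | e | e
      · exact hne0 (by rw [e, R'.pi_one L'.fam])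
      · exact hne0 (by rw [e, R'.pi_z L'.fam])
      · exact htne (by rw [e])
      · exact htne (by rw [e, R'.pi_mul x L'.fam.z_mem_ww z hzW, R'.pi_z L'.fam, zero_add])
    have hw0c : w0 ∈ cf x := L'.fam.ww_le_cf' hz hz1 hx hx1 hw0
    refine ⟨c * w0 * c⁻¹, subset_closure ⟨c, hF, conj_mem_cj hw0⟩, mul_mem (mul_mem hc hw0c) (inv_mem hc), ?_⟩
    have hact : ∀ m : M', R'.phi (c * w0 * c⁻¹) • m = R'.phi c • R'.phi w0 • (R'.phi c)⁻¹ • m := by
      intro m
      rw [R'.phi_mul _ (mul_mem hc hw0c) _ (inv_mem hc), R'.phi_mul _ hc _ hw0c, R'.phi_inv hc, mul_smul, mul_smul]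
    have hB : ∀ m : M', B' ((R'.phi c)⁻¹ • m) (R'.pi z) = B' m (R'.pi (c * z * c⁻¹)) := by
      intro m
      rw [← L'.form (R'.phi c), smul_inv_smul, R'.act c hc z hzW]
    intro m
    refine ⟨fun h => ?_, fun h => ?_⟩
    · rw [hact, (hw0a _).1 (by rw [hB]; exact h), smul_inv_smul]
    · rw [hact, (hw0a _).2 (by rw [hB]; exact h), smul_add, smul_inv_smul, R'.act c hc z hzW]
  obtain ⟨a, haX, hac, ha⟩ := key μ hμ hμ0 hμne
  obtain ⟨b, hbX, hbc, hb⟩ := key u hu (by rw [L'.sys.symm]; exact hu0) hune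
  obtain ⟨k, hk⟩ := exists_pow_two_of_odd hodd (mul_mem haX hbX)
  refine L'.sys.not_two (by rw [L'.sys.symm]; exact huμ) ha hb k ?_
  have h1 : R'.phi ((a * b) ^ 2 ^ k) = R'.phi (a * b) ^ 2 ^ k := map_pow R'.hom ⟨a * b, mul_mem hac hbc⟩ _
  rw [← R'.phi_mul a hac b hbc, ← h1, hk, R'.phi_one']

end nontriv

end Loc

end Cfsg.Agent.Omega.NO3S.TV

end

section


/-!
# NO-3S, `q = 2`, `n = 1`, transvection types (helper311's text #16747), section 6: the module part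

`Sys.irr` : a group `Y` which fixes `v ∈ TT`, is normalized by the stabilizer of `v` and acts nontrivially on
`N = v^⊥ / (⟨v⟩ + Rad)` has no proper invariant subspace on `N` (helper320's proof #17019).
-/

set_option autoImplicit false
set_option linter.unusedSectionVars false

namespace Cfsg.Agent.Omega.NO3S.TV.Sys

variable {M : Type*} [AddCommGroup M] {TT : Set M} {B : M → M → ZMod 2}
variable {H : Type*} [Group H] [DistribMulAction H M]

theorem smul_rf (A : Act TT B H) (h : H) (u m : M) : h • rf B u m = rf B (h • u) (h • m) := by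
  rcases z2 (B m u) with e | e
  · rw [rf_zero e, rf_zero (by rw [A.form]; exact e)]
  · rw [rf_one e, rf_one (by rw [A.form]; exact e), smul_add]

theorem exists_rf (A : Act TT B H) {u : M} (hu : u ∈ TT) : ∃ a : H, ∀ m : M, a • m = rf B u m := by
  obtain ⟨a, ha⟩ := A.tv u hu
  refine ⟨a, fun m => ?_⟩
  rcases z2 (B m u) with e | e
  · rw [rf_zero e, (ha m).1 e]
  · rw [rf_one e, (ha m).2 e]

theorem not_kv (S : Sys TT B) (I : Inj TT B) {v t : M} (hv : v ∈ TT) (ht : t ∈ TT) (hne : t ≠ v) :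
    t ∉ S.kv v := by
  rintro (h | h)
  · obtain ⟨m, hm⟩ := S.nd t ht
    rw [S.symm, h m] at hm
    exact zero_ne_one hm
  · exact hne (S.eq_of_rd I ht hv h)

/-- `⟨a, v⟩^⊥⊥ = ⟨a, v⟩ + Rad` -/
theorem exists_sep (S : Sys TT B) {v a b : M} (hv : v ∈ TT) (ha : a ∉ S.kv v)
    (hb : b ∉ S.kv v) (hab : b + a ∉ S.kv v) : ∃ e, B e v = 0 ∧ B e a = 0 ∧ B e b = 1 := by
  by_contra hcon
  push Not at hcon
  have hc : ∀ e, B e v = 0 → B e a = 0 → B e b = 0 := fun e h1 h2 => z2_ne' (hcon e h1 h2)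
  obtain ⟨t, -, ht⟩ := S.exists_nd hv
  have htv : B t v = 1 := by rw [S.symm]; exact ht
  obtain ⟨s, hs, hsa⟩ : ∃ s, B s v = 0 ∧ B s a = 1 := by
    by_contra h
    push Not at h
    exact ha (S.rd_of htv fun m hm => z2_ne' (h m hm))
  rcases z2 (B s b) with hsb | hsb
  · refine hb (S.rd_of htv fun m hm => ?_)
    rcases z2 (B m a) with e | e
    · exact hc m hm e
    · have := hc (m + s) (by rw [S.add_left, hm, hs, add_zero]) (by rw [S.add_left, e, hsa]; decide)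
      rwa [S.add_left, hsb, add_zero] at this
  · refine hab (S.rd_of htv fun m hm => ?_)
    rcases z2 (B m a) with e | e
    · rw [S.add_right, e, hc m hm e, add_zero]
    · have := hc (m + s) (by rw [S.add_left, hm, hs, add_zero]) (by rw [S.add_left, e, hsa]; decide)
      rw [S.add_left, hsb] at this
      rw [S.add_right, e]
      exact this

/-- `g ∈ Y` acts as `a_u a_u'` -/
def EE (B : M → M → ZMod 2) (Y : Subgroup H) (u u' : M) : Prop := ∃ g ∈ Y, ∀ m : M, g • m = rf B u (rf B u' m)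

section EE

variable {Y : Subgroup H}

theorem ee_symm (S : Sys TT B) {u u' : M} (h : EE B Y u u') : EE B Y u' u := by
  obtain ⟨g, hg, e⟩ := h
  refine ⟨g⁻¹, inv_mem hg, fun m => ?_⟩
  rw [inv_smul_eq_iff, e, S.rf_rf, S.rf_rf]

theorem ee_trans (S : Sys TT B) {u u' u'' : M} (h : EE B Y u u') (h' : EE B Y u' u'') : EE B Y u u'' := by
  obtain ⟨g, hg, e⟩ := h
  obtain ⟨g', hg', e'⟩ := h'
  refine ⟨g * g', mul_mem hg hg', fun m => ?_⟩
  rw [mul_smul, e', e, S.rf_rf]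

theorem ee_conj (A : Act TT B H) {v : M} (hn : ∀ h : H, h • v = v → ∀ g ∈ Y, h * g * h⁻¹ ∈ Y) {h : H}
    (hh : h • v = v) {u u' : M} (hE : EE B Y u u') : EE B Y (h • u) (h • u') := by
  obtain ⟨g, hg, e⟩ := hE
  refine ⟨h * g * h⁻¹, hn h hh g hg, fun m => ?_⟩
  rw [mul_smul, mul_smul, e, smul_rf A, smul_rf A, smul_inv_smul]

/-- (ii) -/
theorem ee_adj (S : Sys TT B) (A : Act TT B H) {v : M}
    (hn : ∀ h : H, h • v = v → ∀ g ∈ Y, h * g * h⁻¹ ∈ Y) {a b c : M} (ha : a ∈ TT) (hav : B a v = 0)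
    (hb : b ∈ TT) (hbv : B b v = 0) (hab : B a b = 1) (hE : EE B Y a b) (hc : c ∈ TT) (hcv : B c v = 0)
    (hac : B a c = 1) : EE B Y a c := by
  have hva : B v a = 0 := by rw [S.symm]; exact hav
  -- a transvection with centre in `v^⊥` fixes `v`
  have tv : ∀ e ∈ TT, B e v = 0 → ∀ p q : M, EE B Y p q → EE B Y (rf B e p) (rf B e q) := by
    intro e he hev p q hpq
    obtain ⟨x, hx⟩ := exists_rf A he
    have := ee_conj A hn (h := x) (by rw [hx, rf_zero (by rw [S.symm]; exact hev)]) hpq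
    rwa [hx, hx] at this
  have key : ∀ c ∈ TT, B c v = 0 → B a c = 1 → B b c = 1 → EE B Y a c := by
    intro c hc hcv hac hbc
    have he : b + c ∈ TT := S.refl b hb c hc hbc
    have h1 := tv _ he (by rw [S.add_left, hbv, hcv, add_zero]) a b hE
    rwa [rf_zero (by rw [S.add_right, hab, hac]; decide), rf_one (by rw [S.add_right, S.alt, hbc, zero_add]),
      S.add_cancel] at h1
  rcases z2 (B b c) with hbc | hbc
  · have hca : B c a = 1 := by rw [S.symm]; exact hac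
    have hc' : c + a ∈ TT := S.refl c hc a ha hca
    have hba : B b a = 1 := by rw [S.symm]; exact hab
    have h1 := key _ hc' (by rw [S.add_left, hcv, hav, add_zero]) (by rw [S.add_right, hac, S.alt, add_zero])
      (by rw [S.add_right, hbc, hba, zero_add])
    have h2 := tv a ha hav _ _ h1
    rwa [rf_zero (S.alt a), rf_one (by rw [S.add_left, hca, S.alt, add_zero]), S.add_cancel'] at h2
  · exact key c hc hcv hac hbc

end EE

/-- **section 6: `Y` is irreducible on `v^⊥ / (⟨v⟩ + Rad)`** -/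
theorem irr (S : Sys TT B) (I : Inj TT B) (C : Conn TT B) (A : Act TT B H)
    (hp : ∃ u ∈ TT, ∃ v ∈ TT, Planar TT B u v) {v : M} (hv : v ∈ TT) {Y : Subgroup H}
    (hYv : ∀ g ∈ Y, g • v = v) (hn : ∀ h : H, h • v = v → ∀ g ∈ Y, h * g * h⁻¹ ∈ Y)
    (hne : ∃ g ∈ Y, ∃ m, B m v = 0 ∧ g • m + m ∉ S.kv v) {U : AddSubgroup M} (hU : S.kv v ≤ U)
    (hU' : U ≤ S.pp v) (hUY : ∀ g ∈ Y, ∀ m ∈ U, g • m ∈ U) (hUne : ∃ m ∈ U, m ∉ S.kv v) : S.pp v ≤ U := by
  -- `(0)` a vector of `TT` moved by `Y`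
  obtain ⟨g, hg, m, hm, hgm⟩ := hne
  obtain ⟨u, hu, huv, hgu⟩ : ∃ u ∈ TT, B u v = 0 ∧ g • u + u ∉ S.kv v := by
    by_contra hcon
    push Not at hcon
    let N : AddSubgroup M :=
      { carrier := {m | g • m + m ∈ S.kv v}
        add_mem' := by
          intro a b ha hb
          change g • (a + b) + (a + b) ∈ S.kv v
          have : g • (a + b) + (a + b) = (g • a + a) + (g • b + b) := by rw [smul_add]; abel
          rw [this]; exact add_mem ha hb
        zero_mem' := by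
          change g • (0 : M) + 0 ∈ S.kv v
          rw [smul_zero, add_zero]; exact zero_mem _
        neg_mem' := by
          intro a ha
          change g • (-a) + (-a) ∈ S.kv v
          rw [S.neg_eq]; exact ha }
    have h2 : AddSubgroup.closure {t | t ∈ TT ∧ B t v = 0} ≤ N :=
      (AddSubgroup.closure_le _).mpr fun t ht => hcon t ht.1 ht.2
    exact hgm (h2 (S.mem_closure hv hm))
  have hgv := hYv g hg
  have hne_v : ∀ t, t ∈ TT → B t v = 0 → t ≠ v → t ∉ S.kv v := fun t ht _ h => S.not_kv I hv ht h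
  have huv' : u ≠ v := by
    rintro rfl
    rw [hgv, S.two] at hgu
    exact hgu (zero_mem _)
  -- `E(g u, u)`
  have hE0 : EE B Y (g • u) u := by
    obtain ⟨a, ha⟩ := exists_rf A hu
    have hav : a • v = v := by rw [ha, rf_zero (by rw [S.symm]; exact huv)]
    refine ⟨g * (a * g⁻¹ * a⁻¹), mul_mem hg (hn a hav g⁻¹ (inv_mem hg)), fun m => ?_⟩
    have ha' : ∀ m : M, a⁻¹ • m = rf B u m := by
      intro m
      rw [inv_smul_eq_iff, ha, S.rf_rf]
    rw [mul_smul, mul_smul, mul_smul, ha', ha, smul_rf A, smul_inv_smul]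
  have hgu1 : g • u ∈ TT := A.smul_mem g u hu
  have hgu2 : B (g • u) v = 0 := by
    have := A.form g u v
    rwa [hgv, huv] at this
  have hgu3 : g • u ≠ v := by
    intro e
    apply huv'
    have : u = g⁻¹ • v := by rw [← e, inv_smul_smul]
    rw [this, inv_smul_eq_iff, hgv]
  -- `(i)` a nonperpendicular pair
  obtain ⟨a, ha, hav, b, hb, hbv, hab, hE⟩ : ∃ a ∈ TT, B a v = 0 ∧ ∃ b ∈ TT, B b v = 0 ∧ B a b = 1 ∧ EE B Y a b := by
    rcases z2 (B (g • u) u) with h0 | h0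
    · obtain ⟨e', he1, he2, he3⟩ := S.exists_sep (a := g • u) (b := u) hv (hne_v _ hgu1 hgu2 hgu3)
        (hne_v _ hu huv huv') (by rw [add_comm]; exact hgu)
      rcases S.all_of_planar I C hp e' with h | ⟨e, he, hee⟩
      · rw [h] at he3
        exact absurd he3 zero_ne_one
      · rw [← hee] at he1 he2 he3
        obtain ⟨x, hx⟩ := exists_rf A he
        have h1 := ee_conj A hn (h := x) (by rw [hx, rf_zero (by rw [S.symm]; exact he1)]) hE0
        rw [hx, hx, rf_zero (by rw [S.symm]; exact he2), rf_one (by rw [S.symm]; exact he3)] at h1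
        have h2 : B u e = 1 := by rw [S.symm]; exact he3
        refine ⟨u, hu, huv, u + e, S.refl u hu e he h2, by rw [S.add_left, huv, he1, add_zero],
          by rw [S.add_right, S.alt, h2, zero_add], ?_⟩
        exact ee_trans S (ee_symm S hE0) h1
    · exact ⟨g • u, hgu1, hgu2, u, hu, huv, h0, hE0⟩
  have hne_of : ∀ s ∈ TT, B s v = 0 → ∀ t, B t v = 0 → B s t = 1 → s ≠ v := by
    rintro s hs hsv t htv hst rfl
    rw [S.symm] at hst
    rw [htv] at hst
    exact zero_ne_one hst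
  have hcommon : ∀ s ∈ TT, s ≠ v → ∀ t ∈ TT, t ≠ v → ∃ w ∈ TT, B w v = 0 ∧ B s w = 1 ∧ B w t = 1 := by
    intro s hs hsv t ht htv
    obtain ⟨w, hw, h1, h2, h3⟩ := S.common_perp I C hp hv hs ht hsv htv
    exact ⟨w, hw, by rw [S.symm]; exact h1, by rw [S.symm]; exact h2, h3⟩
  -- `(iii)`
  let P : M → Prop := fun s => ∀ d ∈ TT, B d v = 0 → B s d = 1 → EE B Y s d
  have hPa : P a := fun d hd hdv had => ee_adj S A hn ha hav hb hbv hab hE hd hdv had
  have hPs : ∀ s ∈ TT, B s v = 0 → P s → ∀ w ∈ TT, B w v = 0 → B s w = 1 → P w := by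
    intro s hs hsv hP w hw hwv hsw d hd hdv hwd
    exact ee_adj S A hn hw hwv hs hsv (by rw [S.symm]; exact hsw) (ee_symm S (hP w hw hwv hsw)) hd hdv hwd
  have hPall : ∀ s ∈ TT, B s v = 0 → s ≠ v → P s := by
    intro s hs hsv hne
    obtain ⟨w, hw, hwv, h1, h2⟩ := hcommon a ha (hne_of a ha hav b hbv hab) s hs hne
    exact hPs w hw hwv (hPs a ha hav hPa w hw hwv h1) s hs hsv h2
  -- `(iv)`
  have hstep : ∀ s ∈ TT, B s v = 0 → s ∈ U → ∀ w ∈ TT, B w v = 0 → B s w = 1 → w ∈ U := by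
    intro s hs hsv hsU w hw hwv hsw
    obtain ⟨x, hx, hxe⟩ := hPall s hs hsv (hne_of s hs hsv w hwv hsw) w hw hwv hsw
    have h1 := hUY x hx s hsU
    have hws : B w s = 1 := by rw [S.symm]; exact hsw
    rw [hxe, rf_one hsw, rf_one (by rw [S.add_left, S.alt, hws, zero_add]), add_comm s, S.add_cancel'] at h1
    exact h1
  obtain ⟨m0, hm0, hm0k⟩ := hUne
  have hm0v : B m0 v = 0 := hU' hm0
  obtain ⟨t0, ht0, ht0e⟩ : ∃ t ∈ TT, ∀ y, B t y = B m0 y := by
    rcases S.all_of_planar I C hp m0 with h | h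
    · exact absurd (Or.inl fun y => by rw [S.symm]; exact h y) hm0k
    · exact h
  have hrd : t0 + m0 ∈ S.kv v := Or.inl fun y => by
    rw [S.symm, S.add_left, ht0e, z2_add]
  have ht0v : B t0 v = 0 := by rw [ht0e]; exact hm0v
  have ht0U : t0 ∈ U := by
    have := add_mem (hU hrd) hm0
    rwa [S.add_cancel'] at this
  have ht0n : t0 ≠ v := by
    rintro rfl
    apply hm0k
    have h1 : t0 ∈ S.kv t0 := Or.inr (by rw [S.two]; exact fun y => S.zero_right y)
    have := add_mem h1 hrd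
    rwa [S.add_cancel] at this
  have hall : ∀ t ∈ TT, B t v = 0 → t ∈ U := by
    intro t ht htv
    by_cases hne : t = v
    · rw [hne]
      exact hU (Or.inr (by rw [S.two]; exact fun y => S.zero_right y))
    · obtain ⟨w, hw, hwv, h1, h2⟩ := hcommon t0 ht0 ht0n t ht hne
      exact hstep w hw hwv (hstep t0 ht0 ht0v ht0U w hw hwv h1) t ht htv h2
  intro m hm
  have h2 : AddSubgroup.closure {t | t ∈ TT ∧ B t v = 0} ≤ U :=
    (AddSubgroup.closure_le _).mpr fun t ht => hall t ht.1 ht.2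
  exact h2 (S.mem_closure hv hm)

end Cfsg.Agent.Omega.NO3S.TV.Sys

end

section


/-!
# NO-3S, `q = 2`, `n = 1`, transvection types (helper311's text #16747), section 6: `K_x` is a 2-group

Base point `z` (= `y` of the text) with its module `M = W_z/⟨z⟩`, another point `x ∈ V`.

* `Loc.tri_kk` : `K_x` is trivial on `N_z`;
* `Loc.kk_two`, `Loc.kk_two'` : `K_x` is a 2-group, for all points `x` of `V`;
* `Loc.gg` : an element of `C_G(V)` which is trivial on `N_z` is trivial on `N_x` (radical 0).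
-/

set_option autoImplicit false
set_option linter.unusedSectionVars false

namespace Cfsg.Agent.Omega.NO3S.TV

open Subgroup Cfsg Cfsg.Agent.ZN Cfsg.Agent.MinSimple.Geo Cfsg.Agent.Omega.CaseL Cfsg.Agent.Omega.NO3S.Fit
open Cfsg.Agent.ZN.Block (conj_mem_of_normalizer conj_mem_of_normalizer' le_normalizer_of_forall
  mem_normalizer_of)

universe u

variable {G : Type u} [Group G]

namespace Loc

variable {T V : Subgroup G} {z : G} {cf : G → Subgroup G} {M H : Type u} [AddCommGroup M] [Group H]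
  [DistribMulAction H M] {R : MRep V cf z M H} {TT : Set M} {B : M → M → ZMod 2} {x c w k : G}

/-- the image of `W_z ∩ W_p` on `N_z` -/
def ju (L : Loc T V z cf R TT B) (x c : G) : AddSubgroup M where
  carrier := {m | B m (R.pi x) = 0 ∧ ∃ j, j ∈ ww V cf z ∧ j ∈ cj c (ww V cf z) ∧ m + R.pi j ∈ L.sys.kv (R.pi x)}
  add_mem' := by
    rintro a b ⟨ha, i, hi, hi', hia⟩ ⟨hb, j, hj, hj', hjb⟩
    refine ⟨by rw [L.sys.add_left, ha, hb, add_zero], i * j, mul_mem hi hj, mul_mem hi' hj', ?_⟩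
    rw [R.pi_mul i hi j hj]
    have : a + b + (R.pi i + R.pi j) = (a + R.pi i) + (b + R.pi j) := by abel
    rw [this]; exact add_mem hia hjb
  zero_mem' := ⟨L.sys.zero_left _, 1, one_mem _, one_mem _, by
    rw [R.pi_one L.fam, add_zero]; exact zero_mem _⟩
  neg_mem' := by
    rintro a ⟨ha, h⟩
    rw [L.sys.neg_eq]
    exact ⟨ha, h⟩

theorem mem_ju (L : Loc T V z cf R TT B) {m : M} : m ∈ L.ju x c ↔ B m (R.pi x) = 0 ∧
    ∃ j, j ∈ ww V cf z ∧ j ∈ cj c (ww V cf z) ∧ m + R.pi j ∈ L.sys.kv (R.pi x) := Iff.rfl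

section six

variable [Finite G] (L : Loc T V z cf R TT B) (A : Act TT B H) (C : Conn TT B)
  (hp : ∃ a ∈ TT, ∃ b ∈ TT, Sys.Planar TT B a b) (hx : x ∈ V) (hx1 : x ≠ 1) (hxz : x ≠ z)
  (hF : Far V z cf x c) (hcent : cj c (ww V cf z) ≤ centralizer (V : Set G)) (hw : w ∈ cj c (ww V cf z))
  (hnt : ¬ Tri R B x w)
include L A C hp hx hx1 hxz hF hcent hw hnt

/-- **section 6**: `K_x` is trivial on `N_z` -/
theorem tri_kk (hk : k ∈ kk V cf x) : Tri R B x k := by
  have S := L.sys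
  have hz := L.fam.ln.z_mem
  have hz1 := L.fam.ln.z_ne
  have hv := L.mem x hx hx1 hxz
  have hKC : kk V cf x ≤ centralizer (V : Set G) := L.fam.kk_le_cent
  have hCc : centralizer (V : Set G) ≤ cf z := L.fam.cent_le_cf hz hz1
  have hKc : kk V cf x ≤ cf z := hKC.trans hCc
  by_contra hnk
  have hnk' : ∃ m, B m (R.pi x) = 0 ∧ R.phi k • m + m ∉ L.sys.kv (R.pi x) := by
    by_contra hcon
    push Not at hcon
    exact hnk fun m hm => L.sys.tri_of (hcon m hm)
  have himg : ∀ g, g ∈ R.img (kk V cf x) ↔ ∃ k ∈ kk V cf x, R.phi k = g := fun g => R.mem_img hKc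
  have hYv : ∀ g ∈ R.img (kk V cf x), g • R.pi x = R.pi x := by
    intro g hg
    obtain ⟨k', hk', rfl⟩ := (himg g).mp hg
    exact R.cent_v0 L.fam hx (hKC hk')
  have hn : ∀ h : H, h • R.pi x = R.pi x → ∀ g ∈ R.img (kk V cf x), h * g * h⁻¹ ∈ R.img (kk V cf x) := by
    intro h hh g hg
    obtain ⟨k', hk', rfl⟩ := (himg g).mp hg
    obtain ⟨d, hd, rfl⟩ := R.stab L.fam hx hx1 hxz hh
    refine (himg _).mpr ⟨d * k' * d⁻¹, ?_, ?_⟩
    · exact conj_mem_of_normalizer L.fam.cf_norm_kk (L.fam.cent_le_cf hx hx1 hd) hk'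
    · rw [R.phi_mul _ (mul_mem (hCc hd) (hKc hk')) _ (inv_mem (hCc hd)), R.phi_mul _ (hCc hd) _ (hKc hk'),
        R.phi_inv (hCc hd)]
  have hUY : ∀ g ∈ R.img (kk V cf x), ∀ m ∈ L.ju x c, g • m ∈ L.ju x c := by
    intro g hg m hm
    obtain ⟨k', hk', rfl⟩ := (himg g).mp hg
    obtain ⟨hm0, j, hj, hj', hmj⟩ := L.mem_ju.mp hm
    have hv0 := R.cent_v0 L.fam hx (hKC hk')
    refine L.mem_ju.mpr ⟨L.sys.smul_pp A hv0 hm0, k' * j * k'⁻¹, ?_, ?_, ?_⟩
    · exact conj_mem_of_normalizer (L.fam.cent_norm hz hz1) (hKC hk') hj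
    · exact conj_mem_of_normalizer (L.kk_norm hx hx1 hxz hF.mem) hk' hj'
    · rw [← R.act k' (hKc hk') j hj, ← smul_add]
      exact L.sys.smul_kv A hv0 hmj
  have hwV := hcent hw
  have hwc := hCc hwV
  have hwv0 := R.cent_v0 L.fam hx hwV
  apply hnt
  by_cases hUne : ∃ m ∈ L.ju x c, m ∉ L.sys.kv (R.pi x)
  · -- the image of `J` is `N_z`
    have hall := L.sys.irr L.inj C A hp hv hYv hn ⟨R.phi k, (himg _).mpr ⟨k, hk, rfl⟩, hnk'⟩
      (U := L.ju x c)
      (fun m hm => L.mem_ju.mpr ⟨L.sys.kv_le_pp _ hm, 1, one_mem _, one_mem _, by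
        rw [R.pi_one L.fam, add_zero]; exact hm⟩)
      (fun m hm => (L.mem_ju.mp hm).1) hUY hUne
    intro m hm
    obtain ⟨-, j, hj, hj', hmj⟩ := L.mem_ju.mp (hall hm)
    refine L.sys.tri_of ?_
    have e1 : R.phi w • R.pi j = R.pi j := by
      rw [R.act w hwc j hj]
      congr 1
      rw [mem_cj] at hw hj'
      have h1 := L.fam.comm hz hz1 _ hw _ hj'
      calc w * j * w⁻¹ = c * ((c⁻¹ * w * c) * (c⁻¹ * j * c)) * (c⁻¹ * w⁻¹) := by group
        _ = c * ((c⁻¹ * j * c) * (c⁻¹ * w * c)) * (c⁻¹ * w⁻¹) := by rw [h1]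
        _ = j := by group
    have h2 := add_mem (L.sys.smul_kv A hwv0 hmj) hmj
    rw [smul_add, e1] at h2
    have e2 : R.phi w • m + R.pi j + (m + R.pi j) = R.phi w • m + m := by
      calc R.phi w • m + R.pi j + (m + R.pi j) = R.phi w • m + m + (R.pi j + R.pi j) := by abel
        _ = R.phi w • m + m := by rw [L.sys.two, add_zero]
    rwa [e2] at h2
  · -- the image of `J` is trivial
    push Not at hUne
    intro m hm
    obtain ⟨a, ha, rfl⟩ := R.pi_surj m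
    refine L.sys.tri_of ?_
    have h1 := L.comm_J hx hx1 hxz hF hw hwV ha
    have h2 := L.phi_pi hwV ha
    refine hUne _ (L.mem_ju.mpr ⟨?_, w * a * w⁻¹ * a⁻¹, h1.1, h1.2, ?_⟩)
    · rw [L.sys.add_left, L.sys.smul_pp A hwv0 hm, hm, add_zero]
    · rw [h2, L.sys.two]; exact zero_mem _

/-- **section 6**: `K_x` is a 2-group -/
theorem kk_two [FaithfulSMul H M] (hKK : IsPGroup 2 (kk V cf z ⊓ kk V cf x : Subgroup G)) :
    IsPGroup 2 (kk V cf x) := by
  rintro ⟨l, hl⟩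
  obtain ⟨k, hk⟩ := exists_pow_two_of_odd (L := kk V cf x) (fun l hl ho => by
    have h1 : l ∈ kk V cf z := L.kk_of_odd A hx hx1 hxz (L.fam.kk_le_cent hl) ho
      (L.tri_kk A C hp hx hx1 hxz hF hcent hw hnt hl)
    obtain ⟨n, hn⟩ := hKK ⟨l, ⟨h1, hl⟩⟩
    have h6 : l ^ 2 ^ n = 1 := congrArg Subtype.val hn
    have h7 : orderOf l ∣ 2 ^ n := orderOf_dvd_of_pow_eq_one h6
    have h8 : Nat.Coprime (orderOf l) (2 ^ n) := (Nat.coprime_two_right.mpr ho).pow_right n
    exact orderOf_eq_one_iff.mp (Nat.eq_one_of_dvd_coprimes h8 dvd_rfl h7)) hl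
  exact ⟨k, Subtype.ext hk⟩

/-- **section 6**: all `K_p` are 2-groups -/
theorem kk_two' [FaithfulSMul H M] (hKK : IsPGroup 2 (kk V cf z ⊓ kk V cf x : Subgroup G)) :
    ∀ p ∈ V, p ≠ 1 → IsPGroup 2 (kk V cf p) := by
  have h0 := L.kk_two A C hp hx hx1 hxz hF hcent hw hnt hKK
  intro p hpV hp1
  obtain ⟨g, hg, hgz⟩ := L.fam.ln.trans p hpV hp1
  obtain ⟨g', hg', hgz'⟩ := L.fam.ln.trans x hx hx1
  -- `g' g⁻¹` maps `p` to `x`
  rintro ⟨l, hl⟩
  have hgg : g' * g⁻¹ ∈ normalizer (V : Set G) := mul_mem hg' (inv_mem hg)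
  have h1 := L.fam.conj_kk hgg hpV hp1 hl
  have e : g' * g⁻¹ * p * (g' * g⁻¹)⁻¹ = x := by
    rw [← hgz, ← hgz']; group
  rw [e] at h1
  obtain ⟨n, hn⟩ := h0 ⟨_, h1⟩
  have h2 : (g' * g⁻¹ * l * (g' * g⁻¹)⁻¹) ^ 2 ^ n = 1 := congrArg Subtype.val hn
  rw [conj_pow] at h2
  exact ⟨n, Subtype.ext (conj_eq_one_iff.mp h2)⟩

end six

/-! ### the action of `C_G(V)` on `N_z` and on `N_x`, radical 0 -/

section gg

omit [DistribMulAction H M] in
/-- radical 0: `Tri` in terms of commutators -/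
theorem tri_iff_comm [DistribMulAction H M] {R : MRep V cf z M H} (L : Loc T V z cf R TT B) (hx : x ∈ V)
    (hx1 : x ≠ 1) (hxz : x ≠ z) (hr : ∀ m, (∀ a, B m a = 0) → m = 0) {g : G}
    (hg : g ∈ centralizer (V : Set G)) : Tri R B x g ↔
      ∀ d ∈ ww V cf z, (∀ b ∈ ww V cf x, d * b = b * d) → g * d * g⁻¹ * d⁻¹ ∈ V := by
  have hz := L.fam.ln.z_mem
  have hz1 := L.fam.ln.z_ne
  have hr' : ∀ ρ, Rd B ρ → ρ = 0 := fun ρ hρ => hr ρ fun a => L.sys.rd_left hρ a
  have hkk : ∀ d ∈ ww V cf z, (B (R.pi d) (R.pi x) = 0 ↔ ∀ b ∈ ww V cf x, d * b = b * d) := by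
    intro d hd
    rw [L.perp x hx hx1 hxz d hd, mem_centralizer_iff]
    exact ⟨fun h b hb => (h b hb).symm, fun h b hb => (h b hb).symm⟩
  constructor
  · intro ht d hd hdx
    have h1 := (hkk d hd).mpr hdx
    have h2 := L.phi_pi hg hd
    have h3 : g * d * g⁻¹ * d⁻¹ ∈ ww V cf z :=
      mul_mem (conj_mem_of_normalizer (L.fam.cent_norm hz hz1) hg hd) (inv_mem hd)
    refine L.mem_V_of_pi hx h3 ?_
    rw [← h2]
    obtain ⟨ρ, hρ, e | e⟩ := ht _ h1
    · left; rw [e, hr' ρ hρ, add_zero, L.sys.two]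
    · right; rw [e, hr' ρ hρ, add_zero, add_comm, L.sys.add_cancel]
  · intro h m hm
    obtain ⟨d, hd, rfl⟩ := R.pi_surj m
    have h1 := h d hd ((hkk d hd).mp hm)
    have h2 := L.phi_pi hg hd
    refine ⟨0, fun a => L.sys.zero_right a, ?_⟩
    rw [add_zero, add_zero]
    have h3 : R.phi g • R.pi d = R.pi d + R.pi (g * d * g⁻¹ * d⁻¹) := by
      rw [← h2, add_comm, L.sys.add_cancel']
    rw [h3]
    rcases L.fam.ln.four hz hx hz1 hx1 (Ne.symm hxz) h1 with e | e | e | e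
    · left; rw [e, R.pi_one L.fam, add_zero]
    · left; rw [e, R.pi_z L.fam, add_zero]
    · right; rw [e]
    · right; rw [e, R.pi_mul z L.fam.z_mem_ww x (L.fam.V_le hx), R.pi_z L.fam, zero_add]

variable {T' : Subgroup G} {M' H' : Type u} [AddCommGroup M'] [Group H'] [DistribMulAction H' M']
  {R' : MRep V cf x M' H'} {TT' : Set M'} {B' : M' → M' → ZMod 2}

/-- **section 6**: an element of `C_G(V)` trivial on `N_z` is trivial on `N_x` (radical 0) -/
theorem gg [Finite G] [Finite M] [Finite M'] [FaithfulSMul H M] [FaithfulSMul H' M'] (L : Loc T V z cf R TT B)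
    (A : Act TT B H) (L' : Loc T' V x cf R' TT' B') (A' : Act TT' B' H')
    (hr : ∀ m, (∀ a, B m a = 0) → m = 0) (hr' : ∀ m, (∀ a, B' m a = 0) → m = 0) (hxz : x ≠ z)
    (hK : ∀ p ∈ V, p ≠ 1 → IsPGroup 2 (kk V cf p)) {c : G} (hc : c ∈ centralizer (V : Set G))
    (h : ∀ d ∈ ww V cf z, (∀ b ∈ ww V cf x, d * b = b * d) → c * d * c⁻¹ * d⁻¹ ∈ V) :
    ∀ d ∈ ww V cf x, (∀ b ∈ ww V cf z, d * b = b * d) → c * d * c⁻¹ * d⁻¹ ∈ V := by
  have hz := L.fam.ln.z_mem
  have hz1 := L.fam.ln.z_ne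
  have hx := L'.fam.ln.z_mem
  have hx1 := L'.fam.ln.z_ne
  have h1 := (L.tri_iff_comm hx hx1 hxz hr hc).mpr h
  have h2 := (L.tri_iff A hx hx1 hxz (hK z hz hz1) hc).mp h1
  have h3 := (L'.tri_iff A' hz hz1 (Ne.symm hxz) (hK x hx hx1) hc).mpr h2
  exact (L'.tri_iff_comm hz hz1 (Ne.symm hxz) hr' hc).mp h3

end gg

end Loc

end Cfsg.Agent.Omega.NO3S.TV

end

section


/-!
# NO-3S, `q = 2`, `n = 1`, transvection types (helper311's text #16747): section 7

* `Loc.seven_one` : `r ≠ 0`: `W_z ∩ W_p` contains an element `ρ` over `r`, fixed by the swap of `z` and `p`;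
* `Loc.seven_two` : `p = ρ' ^ q · ρ` with `ρ, ρ'` over `r` (`z ^ q = x z`);
* `Loc.seven_three` : all `p ∈ D_x - V` are in one coset of `V`;
* `Loc.r_eq_zero` : section 7: `r = 0`.
-/

set_option autoImplicit false
set_option linter.unusedSectionVars false

namespace Cfsg.Agent.Omega.NO3S.TV

open Subgroup Cfsg Cfsg.Agent.ZN Cfsg.Agent.MinSimple.Geo Cfsg.Agent.Omega.CaseL Cfsg.Agent.Omega.NO3S.Fit
open Cfsg.Agent.ZN.Block (conj_mem_of_normalizer conj_mem_of_normalizer' le_normalizer_of_forall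
  mem_normalizer_of)

universe u

variable {G : Type u} [Group G]

namespace Loc

variable {T V : Subgroup G} {z : G} {cf : G → Subgroup G} {M H : Type u} [AddCommGroup M] [Group H]
  [DistribMulAction H M] {R : MRep V cf z M H} {TT : Set M} {B : M → M → ZMod 2} {x c d : G} {r : M}

section one

variable (L : Loc T V z cf R TT B) (hx : x ∈ V) (hx1 : x ≠ 1) (hxz : x ≠ z) (hF : Far V z cf x c)
include L hx hx1 hxz hF

/-- `z ∉ W_p` -/
theorem z_nmem : z ∉ cj c (ww V cf z) := by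
  intro h
  rcases L.inf_V hx hx1 hxz hF L.fam.ln.z_mem h with e | e
  · exact L.fam.ln.z_ne e
  · exact hxz e.symm

/-- an element of `W_z ∩ W_p` is determined by its image in `M` -/
theorem eq_of_pi_eq {a b : G} (ha : a ∈ ww V cf z) (hb : b ∈ ww V cf z) (hap : a ∈ cj c (ww V cf z))
    (hbp : b ∈ cj c (ww V cf z)) (h : R.pi a = R.pi b) : a = b := by
  rcases (R.pi_eq L.fam ha hb).mp h with e | e
  · exact e
  · exfalso
    apply L.z_nmem hx hx1 hxz hF
    have h1 : a * b⁻¹ = z := by rw [e]; group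
    have h2 := mul_mem hap (inv_mem hbp)
    rwa [h1] at h2

end one

section seven

variable (L : Loc T V z cf R TT B) (hx : x ∈ V) (hx1 : x ≠ 1) (hxz : x ≠ z)
include L hx hx1 hxz

/-- `v + r ≠ 0` -/
theorem vr_ne (hr : Rd B r) : R.pi x + r ≠ 0 := by
  intro h
  have h1 : R.pi x = r := L.sys.eq_of_add h
  obtain ⟨m, hm⟩ := L.sys.nd _ (L.mem x hx hx1 hxz)
  rw [h1, L.sys.rd_left hr] at hm
  exact zero_ne_one hm

theorem seven_one (hr : Rd B r) (pl : ∀ u ∈ TT, ∀ v ∈ TT, u ≠ v → B u v = 0 → u + v + r ∈ TT)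
    (hF : Far V z cf x c) (hS : Sw z cf x c d)
    (ht : ∀ n ∈ cj c (ww V cf z), n ∈ kk V cf x → Tri R B x n)
    (hw : ∃ w ∈ cj c (ww V cf z), ¬ Tri R B x w) :
    ∃ ρ ∈ ww V cf z, ρ ∈ cj c (ww V cf z) ∧ R.pi ρ = r ∧ d * ρ * d⁻¹ = ρ := by
  have hz := L.fam.ln.z_mem
  have hz1 := L.fam.ln.z_ne
  have hxx := L.fam.ln.sq x hx
  obtain ⟨w', hw', hnt⟩ := hw
  have hw'V := L.wp_cent hx hx1 hxz hF hS hw'
  unfold Tri at hnt
  push Not at hnt
  obtain ⟨m, hm, hnt⟩ := hnt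
  obtain ⟨a, ha, rfl⟩ := R.pi_surj m
  have hak := (L.perp x hx hx1 hxz a ha).mp hm
  have hxW : x ∈ ww V cf z := L.fam.V_le hx
  have hxp := L.x_mem hx hx1 hxz hF.mem
  -- `n ∈ D_p(x)`, `w ∈ W_z`
  have hn := L.conj_one hx hx1 hxz hF hS ha
  have hnk := L.conj_kk hx hx1 hxz hF hS hak
  have hwz := L.conj_two hx hx1 hxz hF hS hw'
  have hdx := L.conj_x hx hx1 hxz hF hS
  have hdx' : d⁻¹ * x * d = x := by
    calc d⁻¹ * x * d = d⁻¹ * (d * x * d⁻¹) * d := by rw [hdx]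
      _ = x := by group
  set n := d * a * d⁻¹ with hnd
  set w := d * w' * d⁻¹ with hwd
  have hnV := L.fam.kk_le_cent hnk
  obtain ⟨t, hact⟩ := L.hact hx hx1 hxz hnV (ht n hn hnk)
  obtain ⟨-, hB⟩ | ⟨⟨m0, hm0, hm1⟩, hB⟩ := hact.seven hr pl
  · -- `W_p` would be trivial on `a`
    exfalso
    have h1 : R.phi n • R.pi w + R.pi w = 0 ∨ R.phi n • R.pi w + R.pi w = R.pi x := hB (R.pi w)
    rw [L.phi_pi hnV hwz] at h1
    have h2 := L.comm_J hx hx1 hxz hF hn hnV hwz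
    have h3 := L.eq_of_pi hx hx1 hxz hF h2.1 h2.2 h1
    have e : w' * a * w'⁻¹ * a⁻¹ = d⁻¹ * (n * w * n⁻¹ * w⁻¹)⁻¹ * d := by rw [hnd, hwd]; group
    have h4 : w' * a * w'⁻¹ * a⁻¹ = 1 ∨ w' * a * w'⁻¹ * a⁻¹ = x := by
      rcases h3 with h3 | h3
      · left; rw [e, h3]; group
      · right; rw [e, h3, L.fam.ln.inv_eq hx, hdx']
    have h5 := L.phi_pi hw'V ha
    have h6 := hnt 0 (fun b => L.sys.zero_right b)
    rw [add_zero, add_zero] at h6
    have h7 : R.phi w' • R.pi a = R.pi a + R.pi (w' * a * w'⁻¹ * a⁻¹) := by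
      rw [← h5, add_comm, L.sys.add_cancel']
    rcases h4 with h4 | h4
    · rw [h4, R.pi_one L.fam, add_zero] at h7
      exact h6.1 h7
    · rw [h4] at h7
      exact h6.2 h7
  · -- `u` with `[n, u]` over `v + r`
    obtain ⟨u, hu, rfl⟩ := R.pi_surj m0
    have huk := (L.perp x hx hx1 hxz u hu).mp hm0
    have h1 : R.phi n • R.pi u = R.pi u + (R.pi x + r) := by
      rcases hB _ hm0 with h | h
      · rw [hm1] at h; exact absurd h.1 one_ne_zero
      · exact h.2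
    have h2 := L.comm_J hx hx1 hxz hF hn hnV hu
    have h3 : R.pi (n * u * n⁻¹ * u⁻¹) = R.pi x + r := by
      rw [← L.phi_pi hnV hu, h1, add_comm, L.sys.add_cancel]
    set e0 := n * u * n⁻¹ * u⁻¹ with he0
    -- all commutators of `D_p(x)` and `D_z` are `1` or `e0`
    have key : ∀ n' ∈ cj c (ww V cf z), n' ∈ kk V cf x → ∀ u' ∈ ww V cf z, u' ∈ kk V cf x →
        n' * u' * n'⁻¹ * u'⁻¹ = 1 ∨ n' * u' * n'⁻¹ * u'⁻¹ = e0 := by
      intro n' hn' hnk' u' hu' huk'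
      have hnV' := L.fam.kk_le_cent hnk'
      have hm' := (L.perp x hx hx1 hxz u' hu').mpr huk'
      have h4 := L.comm_J hx hx1 hxz hF hn' hnV' hu'
      have hone : R.phi n' • R.pi u' = R.pi u' → n' * u' * n'⁻¹ * u'⁻¹ = 1 := by
        intro h
        have h5 : R.pi (n' * u' * n'⁻¹ * u'⁻¹) = R.pi 1 := by
          rw [← L.phi_pi hnV' hu', h, L.sys.two, R.pi_one L.fam]
        exact L.eq_of_pi_eq hx hx1 hxz hF h4.1 (one_mem _) h4.2 (one_mem _) h5
      obtain ⟨t', hact'⟩ := L.hact hx hx1 hxz hnV' (ht n' hn' hnk')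
      obtain ⟨hA', -⟩ | ⟨-, hB'⟩ := hact'.seven hr pl
      · exact Or.inl (hone (hA' _ hm'))
      · rcases hB' _ hm' with h | h
        · exact Or.inl (hone h.2)
        · right
          refine L.eq_of_pi_eq hx hx1 hxz hF h4.1 h2.1 h4.2 h2.2 ?_
          have h5 : R.phi n' • R.pi u' = R.pi u' + (R.pi x + r) := h.2
          rw [h3, ← L.phi_pi hnV' hu', h5, add_comm, L.sys.add_cancel]
    have he0sq : e0⁻¹ = e0 := L.fam.inv_ww hz hz1 h2.1
    have he01 : e0 ≠ 1 := by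
      intro h
      rw [h, R.pi_one L.fam] at h3
      exact L.vr_ne hx hx1 hxz hr h3.symm
    -- `d` fixes `e0`
    have hde : d * e0 * d⁻¹ = e0 := by
      have h4 := L.conj_one hx hx1 hxz hF hS hu
      have h5 := L.conj_kk hx hx1 hxz hF hS huk
      have h6 := L.conj_two hx hx1 hxz hF hS hn
      have h7 := L.conj_kk hx hx1 hxz hF hS hnk
      have e : d * e0 * d⁻¹ = (d * u * d⁻¹ * (d * n * d⁻¹) * (d * u * d⁻¹)⁻¹ * (d * n * d⁻¹)⁻¹)⁻¹ := by
        rw [he0]; group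
      rcases key _ h4 h5 _ h6 h7 with h | h
      · exfalso
        rw [h, inv_one] at e
        exact he01 (conj_eq_one_iff.mp e)
      · rw [e, h, he0sq]
    refine ⟨x * e0, mul_mem hxW h2.1, mul_mem hxp h2.2, ?_, ?_⟩
    · rw [R.pi_mul x hxW e0 h2.1, h3, L.sys.add_cancel]
    · calc d * (x * e0) * d⁻¹ = (d * x * d⁻¹) * (d * e0 * d⁻¹) := by group
        _ = x * e0 := by rw [hdx, hde]

/-- the radical is `{0, r}`: `C_G(V)` fixes `r` -/
theorem smul_r (hrad : ∀ m, (∀ y, B m y = 0) → m = 0 ∨ m = r) (hr : Rd B r) (hr0 : r ≠ 0) (k : H) :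
    k • r = r := by
  rcases hrad (k • r) (fun y => by
    have h1 := L.form k r (k⁻¹ • y)
    rw [smul_inv_smul] at h1
    rw [h1]
    exact L.sys.rd_left hr _) with h | h
  · exfalso
    apply hr0
    rw [← inv_smul_smul k r, h, smul_zero]
  · exact h

theorem seven_two (hrad : ∀ m, (∀ y, B m y = 0) → m = 0 ∨ m = r) (hr : Rd B r) (hr0 : r ≠ 0)
    (pl : ∀ u ∈ TT, ∀ v ∈ TT, u ≠ v → B u v = 0 → u + v + r ∈ TT)
    (swap : ∀ c, Far V z cf x c → ∃ d, Sw z cf x c d)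
    (tri : ∀ c, Far V z cf x c → ∀ n ∈ cj c (ww V cf z), n ∈ kk V cf x → Tri R B x n)
    (ntri : ∀ c, Far V z cf x c → ∃ w ∈ cj c (ww V cf z), ¬ Tri R B x w)
    {q : G} (hq : q ∈ qq V cf x) (hqV : q ∉ centralizer (V : Set G)) (hF : Far V z cf x c) :
    ∃ ρ ∈ ww V cf z, ∃ ρ' ∈ ww V cf z, R.pi ρ = r ∧ R.pi ρ' = r ∧ c * z * c⁻¹ = q * ρ' * q⁻¹ * ρ := by
  have hz := L.fam.ln.z_mem
  have hz1 := L.fam.ln.z_ne
  have hqc : q ∈ cf x := L.fam.qq_le_cf hq
  have hqz : q * z * q⁻¹ = x * z := L.fam.move hx hx1 hz hz1 (Ne.symm hxz) hq hqV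
  have hxz1 : x * z ≠ 1 := L.fam.mul_ne_one hz hxz
  have hxzV : x * z ∈ V := mul_mem hx hz
  have hpx : c * z * c⁻¹ ∈ ww V cf x :=
    conj_mem_of_normalizer L.fam.cf_norm hF.mem (L.fam.V_le hz)
  -- `c' = q⁻¹ c`
  have hc' : q⁻¹ * c ∈ cf x := mul_mem (inv_mem hqc) hF.mem
  have hp' : q⁻¹ * c * z * (q⁻¹ * c)⁻¹ = c * z * c⁻¹ ∨ q⁻¹ * c * z * (q⁻¹ * c)⁻¹ = x * (c * z * c⁻¹) := by
    have h1 := L.fam.qq_cases hx (inv_mem hq) hpx
    have e : q⁻¹ * c * z * (q⁻¹ * c)⁻¹ = q⁻¹ * (c * z * c⁻¹) * q⁻¹⁻¹ := by group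
    rw [e]; exact h1
  have hF' : Far V z cf x (q⁻¹ * c) := by
    refine ⟨hc', ?_, ?_⟩
    · rcases hp' with e | e
      · rw [e]; exact hF.cent
      · rw [e]; exact mul_mem (L.fam.V_le_kk hz hz1 hx) hF.cent
    · intro hcon
      apply hF.nmem
      rcases hp' with e | e
      · rw [← e]; exact hcon
      · rw [e] at hcon
        have := mul_mem hx hcon
        rwa [← mul_assoc, L.fam.ln.sq x hx, one_mul] at this
  obtain ⟨d, hS⟩ := swap c hF
  obtain ⟨d', hS'⟩ := swap _ hF'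
  obtain ⟨ρ, hρ, hρp, hρr, hρd⟩ := L.seven_one hx hx1 hxz hr pl hF hS (tri c hF) (ntri c hF)
  obtain ⟨ρ', hρ', hρp', hρr', hρd'⟩ := L.seven_one hx hx1 hxz hr pl hF' hS' (tri _ hF') (ntri _ hF')
  refine ⟨ρ, hρ, ρ', hρ', hρr, hρr', ?_⟩
  -- `ρ_s = q ρ' q⁻¹`
  have hsW : q * ρ' * q⁻¹ ∈ ww V cf (x * z) := by
    have := L.fam.conj_ww (L.fam.qq_le_normalizer hx hq) hz hz1 hρ'
    rwa [hqz] at this
  -- `k = d⁻¹ q d' ∈ C_G(V)`
  have hk : d⁻¹ * (q * d') ∈ centralizer (V : Set G) := by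
    refine L.cent_of hx hx1 hxz (mul_mem (inv_mem hS.mem) (mul_mem hqc hS'.mem)) ?_
    have e1 := hS'.one
    have e2 := hS.one
    calc d⁻¹ * (q * d') * z * (d⁻¹ * (q * d'))⁻¹ = d⁻¹ * (q * (d' * z * d'⁻¹) * q⁻¹) * d := by group
      _ = d⁻¹ * (c * z * c⁻¹) * d := by rw [e1]; group
      _ = d⁻¹ * (d * z * d⁻¹) * d := by rw [e2]
      _ = z := by group
  set k := d⁻¹ * (q * d') with hkd
  have hkρ : k * ρ' * k⁻¹ ∈ ww V cf z := conj_mem_of_normalizer (L.fam.cent_norm hz hz1) hk hρ'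
  have hkr : R.pi (k * ρ' * k⁻¹) = R.pi ρ := by
    rw [← R.act k (L.fam.cent_le_cf hz hz1 hk) ρ' hρ', hρr', hρr]
    exact L.smul_r hx hx1 hxz hrad hr hr0 _
  have hsd : q * ρ' * q⁻¹ = d * (k * ρ' * k⁻¹) * d⁻¹ := by
    calc q * ρ' * q⁻¹ = q * (d' * ρ' * d'⁻¹) * q⁻¹ := by rw [hρd']
      _ = d * (k * ρ' * k⁻¹) * d⁻¹ := by rw [hkd]; group
  rcases (R.pi_eq L.fam hkρ hρ).mp hkr with e | e
  · -- `ρ_s = ρ`: impossible
    exfalso
    rw [hsd, e, hρd] at hsW
    have h1 : ρ ∈ V := by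
      have := L.fam.mem_jj hz hz1 hxzV hxz1 (fun e' => hx1 (by simpa using e')) hρ hsW
      rwa [L.jj] at this
    rcases L.inf_V hx hx1 hxz hF h1 hρp with h2 | h2
    · rw [h2, R.pi_one L.fam] at hρr
      exact hr0 hρr.symm
    · rw [h2] at hρr
      exact L.vr_ne hx hx1 hxz hr (by rw [hρr, L.sys.two])
  · rw [hsd, e]
    have h1 : ρ * ρ = 1 := L.fam.sq hz hz1 ρ hρ
    have h2 : d * (z * ρ) * d⁻¹ = (d * z * d⁻¹) * (d * ρ * d⁻¹) := by group
    rw [h2, hρd, hS.one, mul_assoc (c * z * c⁻¹), h1, mul_one]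

/-- all the points of `D_x - V` are in one coset of `V` -/
theorem seven_three {q c1 c2 : G} (hq : q ∈ qq V cf x)
    (h1 : ∃ ρ ∈ ww V cf z, ∃ ρ' ∈ ww V cf z, R.pi ρ = r ∧ R.pi ρ' = r ∧ c1 * z * c1⁻¹ = q * ρ' * q⁻¹ * ρ)
    (h2 : ∃ ρ ∈ ww V cf z, ∃ ρ' ∈ ww V cf z, R.pi ρ = r ∧ R.pi ρ' = r ∧ c2 * z * c2⁻¹ = q * ρ' * q⁻¹ * ρ) :
    c1 * z * c1⁻¹ * (c2 * z * c2⁻¹)⁻¹ ∈ V := by
  have hz := L.fam.ln.z_mem
  have hz1 := L.fam.ln.z_ne
  obtain ⟨a, ha, a', ha', har, har', ea⟩ := h1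
  obtain ⟨b, hb, b', hb', hbr, hbr', eb⟩ := h2
  have hab : a * b⁻¹ ∈ V := by
    rcases (R.pi_eq L.fam ha hb).mp (har.trans hbr.symm) with e | e
    · rw [e, mul_inv_cancel]; exact one_mem _
    · rw [e, mul_inv_cancel_right]; exact hz
  have hab' : a' * b'⁻¹ ∈ V := by
    rcases (R.pi_eq L.fam ha' hb').mp (har'.trans hbr'.symm) with e | e
    · rw [e, mul_inv_cancel]; exact one_mem _
    · rw [e, mul_inv_cancel_right]; exact hz
  have hqn := L.fam.qq_le_normalizer hx hq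
  have hv := L.fam.conj_pt' hqn hab
  have hcom : (q⁻¹ * (a * b⁻¹) * q) * b'⁻¹ = b'⁻¹ * (q⁻¹ * (a * b⁻¹) * q) :=
    L.fam.V_comm hv (inv_mem (L.fam.ww_le_cent hz hz1 hb'))
  rw [ea, eb]
  have e : q * a' * q⁻¹ * a * (q * b' * q⁻¹ * b)⁻¹ =
      (q * (a' * b'⁻¹) * q⁻¹) * (a * b⁻¹) := by
    calc q * a' * q⁻¹ * a * (q * b' * q⁻¹ * b)⁻¹ = q * a' * ((q⁻¹ * (a * b⁻¹) * q) * b'⁻¹) * q⁻¹ := by group
      _ = q * a' * (b'⁻¹ * (q⁻¹ * (a * b⁻¹) * q)) * q⁻¹ := by rw [hcom]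
      _ = (q * (a' * b'⁻¹) * q⁻¹) * (a * b⁻¹) := by group
  rw [e]
  exact mul_mem (L.fam.conj_pt hqn hab') hab

end seven

/-- **Section 7**: `r = 0`. -/
theorem r_eq_zero {T' : Subgroup G} {M' H' : Type u} [AddCommGroup M'] [Group H'] [DistribMulAction H' M']
    {R' : MRep V cf x M' H'} {TT' : Set M'} {B' : M' → M' → ZMod 2} (L : Loc T V z cf R TT B)
    (L' : Loc T' V x cf R' TT' B') (pts : ∀ t ∈ TT', ∃ c ∈ cf x, t = R'.pi (c * z * c⁻¹))
    (hrad : ∀ m, (∀ y, B m y = 0) → m = 0 ∨ m = r) (hr : Rd B r)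
    (pl : ∀ u ∈ TT, ∀ v ∈ TT, u ≠ v → B u v = 0 → u + v + r ∈ TT) (hxz : x ≠ z)
    (swap : ∀ c, Far V z cf x c → ∃ d, Sw z cf x c d)
    (tri : ∀ c, Far V z cf x c → ∀ n ∈ cj c (ww V cf z), n ∈ kk V cf x → Tri R B x n)
    (ntri : ∀ c, Far V z cf x c → ∃ w ∈ cj c (ww V cf z), ¬ Tri R B x w)
    (ex : ∃ c, Far V z cf x c) : r = 0 := by
  by_contra hr0
  have hz := L.fam.ln.z_mem
  have hz1 := L.fam.ln.z_ne
  have hx := L'.fam.ln.z_mem
  have hx1 := L'.fam.ln.z_ne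
  obtain ⟨q, hq, hqV⟩ := L.fam.exists_mover hx hx1
  obtain ⟨c, hF⟩ := ex
  have hv0 : R'.pi z ∈ TT' := L'.mem z hz hz1 (Ne.symm hxz)
  have hW : ∀ c ∈ cf x, c * z * c⁻¹ ∈ ww V cf x := fun c hc =>
    conj_mem_of_normalizer L.fam.cf_norm hc (L.fam.V_le hz)
  -- `μ = p mod x`
  have hmem : ∀ c ∈ cf x, R'.pi (c * z * c⁻¹) ∈ TT' := fun c hc => by
    rw [← R'.act c hc z (L.fam.V_le hz)]
    exact L'.map _ _ hv0
  have hV : ∀ v ∈ V, R'.pi v = 0 ∨ R'.pi v = R'.pi z := by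
    intro v hv
    rcases L.fam.ln.four hx hz hx1 hz1 hxz hv with e | e | e | e
    · left; rw [e, R'.pi_one L'.fam]
    · left; rw [e, R'.pi_z L'.fam]
    · right; rw [e]
    · right
      rw [e, R'.pi_mul x L'.fam.z_mem_ww z (L'.fam.V_le hz), R'.pi_z L'.fam, zero_add]
  have two := fun c1 (h : Far V z cf x c1) => L.seven_two hx hx1 hxz hrad hr hr0 pl swap tri ntri hq hqV h
  -- `μ = p mod x`
  set μ := R'.pi (c * z * c⁻¹) with hμ
  have hμT : μ ∈ TT' := hmem c hF.mem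
  have hμv : B' μ (R'.pi z) = 0 := (L'.perp z hz hz1 (Ne.symm hxz) _ (hW c hF.mem)).mpr hF.cent
  have hμne : μ ≠ R'.pi z := by
    intro e
    rcases (R'.pi_eq L'.fam (hW c hF.mem) (L.fam.V_le hz)).mp e with e | e
    · exact hF.nmem (by rw [e]; exact hz)
    · exact hF.nmem (by rw [e]; exact mul_mem hx hz)
  obtain ⟨u, hu, huv, huμ⟩ := L'.sys.exists_nonperp L'.inj hv0 hμT hμne
  obtain ⟨c1, hc1, rfl⟩ := pts u hu
  have huv' : B' (R'.pi (c1 * z * c1⁻¹)) (R'.pi z) = 0 := by rw [L'.sys.symm]; exact huv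
  have hF1 : Far V z cf x c1 := by
    refine ⟨hc1, (L'.perp z hz hz1 (Ne.symm hxz) _ (hW c1 hc1)).mp huv', fun hcon => ?_⟩
    rcases hV _ hcon with e | e
    · rw [e, L'.sys.zero_left] at huμ
      exact zero_ne_one huμ
    · rw [e, L'.sys.symm, hμv] at huμ
      exact zero_ne_one huμ
  have h3 := L.seven_three hx hx1 hxz hq (two c1 hF1) (two c hF)
  have h4 : R'.pi (c1 * z * c1⁻¹) = R'.pi (c1 * z * c1⁻¹ * (c * z * c⁻¹)⁻¹) + μ := by
    rw [hμ, ← R'.pi_mul _ (mul_mem (hW c1 hc1) (inv_mem (hW c hF.mem))) _ (hW c hF.mem)]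
    congr 1; group
  rw [h4, L'.sys.add_left, L'.sys.alt, add_zero] at huμ
  rcases hV _ h3 with e | e
  · rw [e, L'.sys.zero_left] at huμ
    exact zero_ne_one huμ
  · rw [e, L'.sys.symm, hμv] at huμ
    exact zero_ne_one huμ

end Loc

end Cfsg.Agent.Omega.NO3S.TV

end
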