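import Cfsg.Agent.Mrg.Omega.NO3S.TV.Form
import Cfsg.Agent.Mrg.Omega.NO3S.TV.HAct
import Cfsg.Agent.Mrg.Omega.NO3S.TV.EightOf

section


/-!
# NO-3S, `q = 2`, `n = 1`, transvection types: the assembly for a connected family (helper918)

* `trp` : transport of `MRep` along an element of `N_G(V)`;
* `Tvf.loc` : helper320's `Loc` from a transvection family with `W_z ∩ W_y = V`;
* `Tvf.core` : sections 3 - 7: all `K_p` are 2-groups, the radical is 0, all vectors `≠ 0` are in `TT`;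
* `Tvf.false_of_conn` : a connected transvection family with `W_z ∩ W_y = V` has no point `t ∉ V` centralized by `W_y`.
-/

set_option autoImplicit false
set_option linter.unusedSectionVars false

namespace Cfsg.Agent.Omega.NO3S.TV

open Subgroup Cfsg Cfsg.Agent.ZN Cfsg.Agent.MinSimple.Geo Cfsg.Agent.Omega.CaseL Cfsg.Agent.Omega.NO3S.Fit
open Cfsg.Agent.ZN.Block (conj_mem_of_normalizer conj_mem_of_normalizer' le_normalizer_of_forall
  mem_normalizer_of)

universe u

variable {G : Type u} [Group G] {T V : Subgroup G} {z : G} {cf : G → Subgroup G}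
variable {M H : Type u} [AddCommGroup M] [Group H] [DistribMulAction H M] {B : M → M → ZMod 2}

/-! ### transport along `N_G(V)` -/

/-- transport of the module along `g ∈ N_G(V)`, `x = g z g⁻¹` -/
def trp (h : Fam T V z cf) {g x : G} (hg : g ∈ normalizer (V : Set G)) (e : g * z * g⁻¹ = x)
    (R : MRep V cf x M H) : MRep V cf z M H :=
  have hz := h.ln.z_mem
  have hz1 := h.ln.z_ne
  have hx : x ∈ V := e ▸ h.conj_pt hg hz
  have hx1 : x ≠ 1 := e ▸ Fam.conj_ne hz1
  have hw : ∀ a ∈ ww V cf z, g * a * g⁻¹ ∈ ww V cf x := fun a ha => e ▸ h.conj_ww hg hz hz1 ha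
  have hc : ∀ a ∈ cf z, g * a * g⁻¹ ∈ cf x := fun a ha => by
    rw [← e, ← h.cj_cf g hg z hz hz1]; exact conj_mem_cj ha
  have hxz : g⁻¹ * x * g⁻¹⁻¹ = z := by rw [← e]; group
  have hw' : ∀ a ∈ ww V cf x, g⁻¹ * a * g ∈ ww V cf z := fun a ha => by
    have := h.conj_ww (inv_mem hg) hx hx1 ha
    rwa [hxz, inv_inv] at this
  have hc' : ∀ a ∈ cf x, g⁻¹ * a * g ∈ cf z := fun a ha => by
    have h1 := h.cj_cf g⁻¹ (inv_mem hg) x hx hx1
    rw [hxz] at h1
    rw [← h1, mem_cj]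
    have : g⁻¹⁻¹ * (g⁻¹ * a * g) * g⁻¹ = a := by group
    rwa [this]
  { pi := fun w => R.pi (g * w * g⁻¹)
    phi := fun c => R.phi (g * c * g⁻¹)
    pi_mul := fun a ha b hb => by
      rw [← R.pi_mul _ (hw a ha) _ (hw b hb)]
      congr 1; group
    pi_surj := fun m => by
      obtain ⟨w, hw1, rfl⟩ := R.pi_surj m
      refine ⟨g⁻¹ * w * g, hw' w hw1, ?_⟩
      congr 1; group
    pi_ker := fun w hw1 => by
      rw [R.pi_ker _ (hw w hw1)]
      constructor
      · rintro (h1 | h1)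
        · exact Or.inl (conj_eq_one_iff.mp h1)
        · right
          rw [← e] at h1
          exact mul_left_cancel (mul_right_cancel h1)
      · rintro (rfl | rfl)
        · left; group
        · right; exact e
    phi_mul := fun c hc1 d hd1 => by
      rw [← R.phi_mul _ (hc c hc1) _ (hc d hd1)]
      congr 1; group
    phi_surj := fun y => by
      obtain ⟨c, hc1, rfl⟩ := R.phi_surj y
      refine ⟨g⁻¹ * c * g, hc' c hc1, ?_⟩
      congr 1; group
    phi_ker := fun c hc1 => by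
      rw [R.phi_ker _ (hc c hc1)]
      constructor
      · intro h1
        have h2 := h.conj_qq (inv_mem hg) hx hx1 h1
        rw [hxz] at h2
        have e3 : g⁻¹ * (g * c * g⁻¹) * g⁻¹⁻¹ = c := by group
        rwa [e3] at h2
      · intro h1
        have := h.conj_qq hg hz hz1 h1
        rwa [e] at this
    act := fun c hc1 w hw1 => by
      rw [R.act _ (hc c hc1) _ (hw w hw1)]
      congr 1; group }

theorem trp_pi (h : Fam T V z cf) {g x : G} (hg : g ∈ normalizer (V : Set G)) (e : g * z * g⁻¹ = x)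
    (R : MRep V cf x M H) (w : G) : (trp h hg e R).pi w = R.pi (g * w * g⁻¹) := rfl

theorem trp_phi (h : Fam T V z cf) {g x : G} (hg : g ∈ normalizer (V : Set G)) (e : g * z * g⁻¹ = x)
    (R : MRep V cf x M H) (c : G) : (trp h hg e R).phi c = R.phi (g * c * g⁻¹) := rfl

/-- the points on `x = g z g⁻¹` -/
theorem pts_conj_iff (h : Fam T V z cf) {g x t : G} (hg : g ∈ normalizer (V : Set G)) (e : g * z * g⁻¹ = x) :
    g * t * g⁻¹ ∈ pts V cf x ↔ t ∈ pts V cf z := by
  have hz := h.ln.z_mem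
  have hz1 := h.ln.z_ne
  have hx : x ∈ V := e ▸ h.conj_pt hg hz
  have hx1 : x ≠ 1 := e ▸ Fam.conj_ne hz1
  have hxz : g⁻¹ * x * g⁻¹⁻¹ = z := by rw [← e]; group
  constructor
  · rintro ⟨y, hy, hy1, hyx, c, hc, e1⟩
    refine ⟨g⁻¹ * y * g, h.conj_pt' hg hy, Fam.conj_ne' hy1, ?_, g⁻¹ * c * g, ?_, ?_⟩
    · intro e2
      apply hyx
      rw [← e, ← e2]; group
    · have h1 := h.cj_cf g⁻¹ (inv_mem hg) x hx hx1
      rw [hxz] at h1
      rw [← h1, mem_cj]
      have : g⁻¹⁻¹ * (g⁻¹ * c * g) * g⁻¹ = c := by group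
      rwa [this]
    · calc t = g⁻¹ * (g * t * g⁻¹) * g := by group
        _ = g⁻¹ * c * g * (g⁻¹ * y * g) * (g⁻¹ * c * g)⁻¹ := by rw [e1]; group
  · rintro ⟨y, hy, hy1, hyz, c, hc, rfl⟩
    refine ⟨g * y * g⁻¹, h.conj_pt hg hy, Fam.conj_ne hy1, ?_, g * c * g⁻¹, ?_, by group⟩
    · intro e2
      apply hyz
      rw [← e] at e2
      exact mul_left_cancel (mul_right_cancel e2)
    · rw [← e, ← h.cj_cf g hg z hz hz1]; exact conj_mem_cj hc

theorem trp_TT (h : Fam T V z cf) {g x : G} (hg : g ∈ normalizer (V : Set G)) (e : g * z * g⁻¹ = x)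
    (R : MRep V cf x M H) : TT (trp h hg e R) = TT R := by
  ext m
  constructor
  · rintro ⟨t, ht, rfl⟩
    exact ⟨_, (pts_conj_iff h hg e).mpr ht, rfl⟩
  · rintro ⟨t, ht, rfl⟩
    refine ⟨g⁻¹ * t * g, ?_, ?_⟩
    · rw [← pts_conj_iff h hg e]
      have : g * (g⁻¹ * t * g) * g⁻¹ = t := by group
      rwa [this]
    · rw [trp_pi]; congr 1; group

theorem trp_isB (h : Fam T V z cf) {g x : G} (hg : g ∈ normalizer (V : Set G)) (e : g * z * g⁻¹ = x)
    (R : MRep V cf x M H) (hB : IsB R B) : IsB (trp h hg e R) B := by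
  intro y hy hy1 hyz w hw hwz
  have hz := h.ln.z_mem
  have hz1 := h.ln.z_ne
  have hx : x ∈ V := e ▸ h.conj_pt hg hz
  have hx1 : x ≠ 1 := e ▸ Fam.conj_ne hz1
  have hxz : g⁻¹ * x * g⁻¹⁻¹ = z := by rw [← e]; group
  refine hB (g * y * g⁻¹) (h.conj_pt hg hy) (Fam.conj_ne hy1) ?_ (g * w * g⁻¹) (h.conj_ww hg hy hy1 hw) ?_
  · intro e2
    apply hyz
    rw [← e] at e2
    exact mul_left_cancel (mul_right_cancel e2)
  · intro h1
    apply hwz
    have h2 := h.conj_qq (inv_mem hg) hx hx1 h1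
    rw [hxz] at h2
    have e3 : g⁻¹ * (g * w * g⁻¹) * g⁻¹⁻¹ = w := by group
    rwa [e3] at h2

/-- the graph is connected, for every module at `z` -/
def AllConn (V : Subgroup G) (cf : G → Subgroup G) (z : G) : Prop :=
  ∀ (M H : Type u) [AddCommGroup M] [Group H] [DistribMulAction H M] (R : MRep V cf z M H) (B : M → M → ZMod 2),
    IsB R B → Conn (TT R) B

theorem AllConn.conj (h : Fam T V z cf) (hc : AllConn V cf z) {g x : G} (hg : g ∈ normalizer (V : Set G))
    (e : g * z * g⁻¹ = x) : AllConn V cf x := by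
  intro M H _ _ _ R B hB
  have := hc M H (trp h hg e R) B (trp_isB h hg e R hB)
  rwa [trp_TT] at this

namespace Tvf

/-! ### `Loc` -/

variable (h : Tvf T V z cf) [Finite G] (R : MRep V cf z M H) (hB : IsB R B)
include h

theorem perp_iff {x w : G} (hB : IsB R B) (hx : x ∈ V) (hx1 : x ≠ 1) (hxz : x ≠ z) (hw : w ∈ ww V cf z) :
    B (R.pi w) (R.pi x) = 0 ↔ w ∈ kk V cf x := by
  rw [h.form_pt R hB (mem_pts hx hx1 hxz) hw, wt_eq h.toFam hx hx1 hxz, kk, mem_centralizer_iff]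
  exact ⟨fun h1 b hb => (h1 b hb).symm, fun h1 b hb => (h1 b hb).symm⟩

theorem loc [FaithfulSMul H M] (hB : IsB R B) (hj : jj V cf ≤ V) : Loc T V z cf R (TT R) B where
  fam := h.toFam
  jj := le_antisymm hj h.toFam.V_le_jj
  sys := h.sys R hB
  inj := h.inj R hB
  map := (h.act R hB).smul_mem
  form := (h.act R hB).form
  mem _ hx hx1 hxz := pi_mem_TT R (mem_pts hx hx1 hxz)
  perp _ hx hx1 hxz _ hw := h.perp_iff R hB hx hx1 hxz hw

/-- the points on `z` over one point `y ∈ V` -/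
theorem TT_pts {y : G} (hy : y ∈ V) (hy1 : y ≠ 1) (hyz : y ≠ z) {t : M} (ht : t ∈ TT R) :
    ∃ c ∈ cf z, t = R.pi (c * y * c⁻¹) := by
  rw [h.TT_eq R hy hy1 hyz] at ht
  obtain ⟨x, rfl⟩ := ht
  obtain ⟨c, hc, rfl⟩ := R.phi_surj x
  exact ⟨c, hc, R.act c hc y (h.V_le hy)⟩

/-- `W_y` contains an element which acts as the transvection -/
theorem exists_tv {y : G} (hB : IsB R B) (hy : y ∈ V) (hy1 : y ≠ 1) (hyz : y ≠ z) : ∃ w ∈ ww V cf y, ∀ m : M,
    (B m (R.pi y) = 0 → R.phi w • m = m) ∧ (B m (R.pi y) = 1 → R.phi w • m = m + R.pi y) := by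
  have hp := mem_pts (cf := cf) hy hy1 hyz
  obtain ⟨b, hb, hbz⟩ := h.exists_wt hp
  refine ⟨b, ?_, fun m => h.phi_wt R hB hp hb hbz m⟩
  rwa [wt_eq h.toFam hy hy1 hyz] at hb

/-- **sections 3 - 7** -/
theorem core [Finite M] [FaithfulSMul H M] (hB : IsB R B) (hj : jj V cf ≤ V) (hc : AllConn V cf z) {x t0 : G}
    (hx : x ∈ V) (hx1 : x ≠ 1) (hxz : x ≠ z) (ht0 : t0 ∈ pts V cf z) (ht0k : t0 ∈ kk V cf x) (ht0V : t0 ∉ V) :
    (∀ p ∈ V, p ≠ 1 → IsPGroup 2 (kk V cf p)) ∧ (∀ m, (∀ a, B m a = 0) → m = 0) ∧ ∀ m : M, m ≠ 0 → m ∈ TT R := by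
  have hz := h.z_mem
  have hz1 := h.z_ne
  have hzx : z ≠ x := Ne.symm hxz
  have S := h.sys R hB
  have A := h.act R hB
  have I := h.inj R hB
  have C := hc M H R B hB
  have L := h.loc R hB hj
  -- the module at `x`
  obtain ⟨g, hg, e, h'⟩ := h.point hx hx1
  obtain ⟨M', H', i1, i2, i3, i4, i5, i6, ⟨R'⟩⟩ := h'.toFam.exists_mrep
  obtain ⟨B', hB'⟩ := h'.exists_isB R'
  have S' := h'.sys R' hB'
  have A' := h'.act R' hB'
  have I' := h'.inj R' hB'
  have C' := (hc.conj h.toFam hg e) M' H' R' B' hB'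
  have L' := h'.loc R' hB' hj
  have hzp : z ∈ pts V cf x := mem_pts hz hz1 hzx
  -- swap
  have swap : ∀ c, Far V z cf x c → ∃ d, Loc.Sw z cf x c d := by
    intro c hF
    have hpp : c * z * c⁻¹ ∈ pts V cf x := mem_pts_conj hz hz1 hzx hF.mem
    have h0 : B' (R'.pi z) (R'.pi (c * z * c⁻¹)) = 0 := by
      rw [S'.symm, h'.perp_iff R' hB' hz hz1 hzx (h'.pt_mem hpp)]
      exact hF.cent
    have hne : R'.pi z ≠ R'.pi (c * z * c⁻¹) := by
      intro e1
      apply hF.nmem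
      rcases (R'.pi_eq h'.toFam (h'.V_le hz) (h'.pt_mem hpp)).mp e1 with e2 | e2
      · rw [← e2]; exact hz
      · have : c * z * c⁻¹ = x * z := by
          have h5 : x * z = x * (x * (c * z * c⁻¹)) := congrArg (fun a => x * a) e2
          rw [h5, ← mul_assoc, h.ln.sq x hx, one_mul]
        rw [this]; exact mul_mem hx hz
    obtain ⟨d, hd, e1, e2⟩ := h'.swap R' hB' C' hzp hpp h0 hne
    exact ⟨d, hd, e1, e2⟩
  have tri : ∀ c, Far V z cf x c → ∀ n ∈ cj c (ww V cf z), n ∈ kk V cf x → Tri R B x n :=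
    fun c hF n hn hnk => L.tri_far A hx hx1 hxz hF.mem hn hnk
  have hpts : ∀ t ∈ TT R', ∃ c ∈ cf x, t = R'.pi (c * z * c⁻¹) := fun t ht => h'.TT_pts R' hz hz1 hzx ht
  have hw0 := h'.exists_tv R' hB' hz hz1 hzx
  have hKK : IsPGroup 2 (kk V cf z ⊓ kk V cf x : Subgroup G) := h.kk_inf_two R hB C hz hz1 hx hx1 hxz
  have hxzV : x * z ∈ V := mul_mem hx hz
  have hxz1 : x * z ≠ 1 := h.mul_ne_one hz hxz
  have hxzz : x * z ≠ z := fun e1 => hx1 (by simpa using e1)
  have hKK' : IsPGroup 2 (kk V cf z ⊓ kk V cf (x * z) : Subgroup G) :=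
    h.kk_inf_two R hB C hz hz1 hxzV hxz1 hxzz
  -- a point of `D_x - V`
  have hμ : ∃ μ ∈ TT R', B' μ (R'.pi z) = 0 ∧ μ ≠ R'.pi z := by
    obtain ⟨n, hn, e1, e2⟩ := h.trans2 hz hz1 hx hx1 hxz hx hx1 hz hz1 hzx
    have h1 : n * t0 * n⁻¹ ∈ pts V cf x := (pts_conj_iff h.toFam hn e1).mpr ht0
    have h2 : n * t0 * n⁻¹ ∈ kk V cf z := by
      have := h.conj_kk hn hx hx1 ht0k
      rwa [e2] at this
    have h3 : n * t0 * n⁻¹ ∉ V := by
      intro h4
      apply ht0V
      have := h.toFam.conj_pt' hn h4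
      have e3 : n⁻¹ * (n * t0 * n⁻¹) * n = t0 := by group
      rwa [e3] at this
    refine ⟨R'.pi (n * t0 * n⁻¹), pi_mem_TT R' h1, ?_, ?_⟩
    · rw [h'.perp_iff R' hB' hz hz1 hzx (h'.pt_mem h1)]
      exact h2
    · intro e3
      apply h3
      rcases (R'.pi_eq h'.toFam (h'.pt_mem h1) (h'.V_le hz)).mp e3 with e4 | e4
      · rw [e4]; exact hz
      · rw [e4]; exact hxzV
  obtain ⟨c, hF, w, hw, hnt⟩ := L.exists_not_tri A L' hxz hpts hw0 hμ hKK'
  have hcent := L'.cj_le_cent hz hz1 hxz hF.mem hF.cent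
  have hp := L.exists_planar hx hx1 hxz swap tri ⟨c, hF, w, hw, hnt⟩
  have hK : ∀ p ∈ V, p ≠ 1 → IsPGroup 2 (kk V cf p) := L.kk_two' A C hp hx hx1 hxz hF hcent hw hnt hKK
  -- all `W_p` are nontrivial on `N_z`
  have ntri : ∀ c, Far V z cf x c → ∃ w ∈ cj c (ww V cf z), ¬ Tri R B x w := by
    intro c hF
    obtain ⟨w0, hw0, hw0a⟩ := hw0
    have hw0c : w0 ∈ cf x := L.fam.ww_le_cf' hz hz1 hx hx1 hw0
    have hcent := L'.cj_le_cent hz hz1 hxz hF.mem hF.cent
    refine ⟨c * w0 * c⁻¹, conj_mem_cj hw0, fun ht => ?_⟩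
    have hwV := hcent (conj_mem_cj (g := c) hw0)
    have h1 := (L.tri_iff A hx hx1 hxz (hK z hz hz1) hwV).mp ht
    have h2 := (L'.tri_iff A' hz hz1 hzx (hK x hx hx1) hwV).mpr h1
    have hzW : z ∈ ww V cf x := h'.V_le hz
    have hpp : c * z * c⁻¹ ∈ pts V cf x := mem_pts_conj hz hz1 hzx hF.mem
    set μ := R'.pi (c * z * c⁻¹) with hμd
    have hμT : μ ∈ TT R' := pi_mem_TT R' hpp
    have hμne : μ ≠ R'.pi z := by
      intro e1
      apply hF.nmem
      rcases (R'.pi_eq h'.toFam (h'.pt_mem hpp) hzW).mp e1 with e2 | e2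
      · rw [e2]; exact hz
      · rw [e2]; exact hxzV
    obtain ⟨u, hu, hu0, huμ⟩ := S'.exists_nonperp I' (pi_mem_TT R' hzp) hμT hμne
    have hact : R'.phi (c * w0 * c⁻¹) • u = u + μ := by
      rw [R'.phi_mul _ (mul_mem hF.mem hw0c) _ (inv_mem hF.mem), R'.phi_mul _ hF.mem _ hw0c, R'.phi_inv hF.mem,
        mul_smul, mul_smul]
      have hb : B' ((R'.phi c)⁻¹ • u) (R'.pi z) = 1 := by
        rw [← L'.form (R'.phi c), smul_inv_smul, R'.act c hF.mem z hzW]
        exact huμ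
      rw [(hw0a _).2 hb, smul_add, smul_inv_smul, R'.act c hF.mem z hzW]
    obtain ⟨ρ, hρ, h3⟩ := h2 u (by rw [S'.symm]; exact hu0)
    rw [hact] at h3
    rcases h3 with h3 | h3
    · have h4 : μ = ρ := add_left_cancel h3
      obtain ⟨m, hm⟩ := S'.nd μ hμT
      rw [h4, S'.symm, hρ m] at hm
      exact zero_ne_one hm
    · have h4 : μ = R'.pi z + ρ := by
        rw [add_assoc] at h3
        exact add_left_cancel h3
      apply hμne
      refine I' _ hμT _ (pi_mem_TT R' hzp) fun m => ?_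
      rw [h4, S'.add_left, S'.symm ρ, hρ m, add_zero]
  obtain ⟨r, hr⟩ := S.exists_r I C hp
  have hr0 : r = 0 := L.r_eq_zero L' hpts hr.rad_eq (fun a => by rw [S.symm]; exact hr.rad a) hr.perp hxz swap tri
    ntri ⟨c, hF⟩
  subst hr0
  refine ⟨hK, fun m hm => ?_, fun m hm => ?_⟩
  · rcases hr.rad_eq m hm with e1 | e1 <;> exact e1
  · rcases hr.cases m with e1 | e1 | e1 | e1
    · exact absurd e1 hm
    · exact absurd e1 hm
    · exact e1
    · rwa [add_zero] at e1

/-- the interchange of two commuting conditions -/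
theorem cm_two : CommTwo V cf := by
  intro p hp hp1 q hq hq1 hqp a ha b hb
  by_cases h1 : a ∈ qq V cf q
  · left
    have := h.good hp hp1 hq hq1 hqp ha h1 hb
    rw [this]; group
  · by_cases h2 : b ∈ qq V cf p
    · left
      have := h.good hq hq1 hp hp1 (Ne.symm hqp) hb h2 ha
      rw [← this]; group
    · right
      exact h.cm_eq hp hp1 hq hq1 hqp ha h1 hb h2

/-- **Theorem TV for connected families** -/
theorem false_of_conn (hj : jj V cf ≤ V) (hc : AllConn V cf z) {x t0 : G}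
    (hx : x ∈ V) (hx1 : x ≠ 1) (hxz : x ≠ z) (ht0 : t0 ∈ pts V cf z) (ht0k : t0 ∈ kk V cf x) (ht0V : t0 ∉ V) :
    False := by
  have hz := h.z_mem
  have hz1 := h.z_ne
  obtain ⟨M, H, i1, i2, i3, i4, i5, i6, ⟨R⟩⟩ := h.toFam.exists_mrep
  obtain ⟨B, hB⟩ := h.exists_isB R
  have S := h.sys R hB
  obtain ⟨hK, hr, hall⟩ := h.core R hB hj hc hx hx1 hxz ht0 ht0k ht0V
  have L := h.loc R hB hj
  have E : LocE T V z cf :=
    { toFam := h.toFam
      inter := hj
      two := h.cm_two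
      one := h.one
      pt := by
        intro m hm hm1 hmz
        have h0 : R.pi m ≠ 0 := by
          intro e
          rcases (R.pi_ker m hm).mp e with e | e
          · exact hm1 e
          · exact hmz e
        obtain ⟨t, ht, e⟩ := hall _ h0
        rcases (R.pi_eq h.toFam (h.pt_mem ht) hm).mp e with e1 | e1
        · rw [← e1]; exact ht
        · have : m = z * t := by rw [e1, ← mul_assoc, h.ln.sq z hz, one_mul]
          rw [this]; exact h.pt_z ht
      perp := by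
        intro y hy hy1 hyz m hm hmy b hb
        have h1 : B (R.pi m) (R.pi y) = 0 := by
          rw [h.perp_iff R hB hy hy1 hyz (h.pt_mem hm), kk, mem_centralizer_iff]
          exact fun b hb => (hmy b hb).symm
        rw [S.symm] at h1
        exact (h.form_pt R hB hm (h.V_le hy)).mp h1 b hb
      gg := by
        intro y hy hy1 hyz c hc1 hd
        obtain ⟨g, hg, e, h'⟩ := h.point hy hy1
        obtain ⟨M', H', i1, i2, i3, i4, i5, i6, ⟨R'⟩⟩ := h'.toFam.exists_mrep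
        obtain ⟨B', hB'⟩ := h'.exists_isB R'
        have L' := h'.loc R' hB' hj
        obtain ⟨-, hr', -⟩ := h.core (trp h.toFam hg e R') (trp_isB h.toFam hg e R' hB') hj hc hx hx1 hxz ht0
          ht0k ht0V
        exact L.gg (h.act R hB) L' (h'.act R' hB') hr hr' hyz hK hc1 hd }
  exact E.false hx hx1 hxz (h.pt_mem ht0) ht0V fun b hb => (mem_centralizer_iff.mp ht0k b hb).symm

end Tvf

end Cfsg.Agent.Omega.NO3S.TV

end

section


/-!
# NO-3a.4, transvection types (helper311's text #16747): the connected subfamily (section 3)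

* `cmp TT B v` : the component of `v` in the graph 'not perpendicular' on `TT`;
* `stc R B v` : the stabiliser of the component; `cfc R B y` : the subfamily with `C' = R.pre (stc R B (R.pi y))` at `z`;
* `Tvf.sub` : `Tvf T V z (cfc R B y)`; `Tvf.sub_pts`, `Tvf.sub_ww`, `Tvf.sub_form`; `Tvf.sub_conn` : it is connected;
* `Tvf.exists_conn` : summary.
-/

set_option autoImplicit false
set_option linter.unusedSectionVars false

namespace Cfsg.Agent.Omega.NO3S.TV

open Subgroup Cfsg Cfsg.Agent.ZN Cfsg.Agent.MinSimple.Geo Cfsg.Agent.Omega.CaseL Cfsg.Agent.Omega.NO3S.Fit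
open Cfsg.Agent.ZN.Block (conj_mem_of_normalizer conj_mem_of_normalizer' le_normalizer_of_forall
  mem_normalizer_of)

universe u

/-! ### components -/

section cmp

variable {M : Type*} [AddCommGroup M] {X : Set M} {B : M → M → ZMod 2}

/-- the component of `v` -/
def cmp (X : Set M) (B : M → M → ZMod 2) (v : M) : Set M :=
  {u | ∀ S : Set M, v ∈ S → (∀ a ∈ S, ∀ b ∈ X, B a b = 1 → b ∈ S) → u ∈ S}

theorem self_mem_cmp (v : M) : v ∈ cmp X B v := fun _ h _ => h

theorem cmp_step {v a b : M} (ha : a ∈ cmp X B v) (hb : b ∈ X) (h : B a b = 1) : b ∈ cmp X B v :=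
  fun S h1 h2 => h2 a (ha S h1 h2) b hb h

theorem cmp_sub {v : M} (hv : v ∈ X) : cmp X B v ⊆ X := fun _ hu => hu X hv fun _ _ _ hb _ => hb

theorem cmp_trans {v u w : M} (hu : u ∈ cmp X B v) (hw : w ∈ cmp X B u) : w ∈ cmp X B v :=
  hw _ hu fun _ ha _ hb h => cmp_step ha hb h

theorem cmp_symm (hs : ∀ a b, B a b = B b a) {v u : M} (hv : v ∈ X) (hu : u ∈ cmp X B v) : v ∈ cmp X B u := by
  have := hu {w | w ∈ X ∧ v ∈ cmp X B w} ⟨hv, self_mem_cmp v⟩ fun a ha b hb h =>
    ⟨hb, cmp_trans (cmp_step (self_mem_cmp b) ha.1 (by rw [hs]; exact h)) ha.2⟩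
  exact this.2

theorem cmp_smul {H : Type*} [Group H] [DistribMulAction H M] (A : Act X B H) (x : H) {v u : M}
    (hu : u ∈ cmp X B v) : x • u ∈ cmp X B (x • v) := by
  refine hu {w | x • w ∈ cmp X B (x • v)} (self_mem_cmp _) fun a ha b hb h => ?_
  exact cmp_step ha (A.smul_mem x b hb) (by rw [A.form]; exact h)

end cmp

variable {G : Type u} [Group G] {T V : Subgroup G} {z : G} {cf : G → Subgroup G}
variable {M H : Type u} [AddCommGroup M] [Group H] [DistribMulAction H M]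

/-- the stabiliser of the component of `v` -/
def stc (X : Set M) (B : M → M → ZMod 2) (v : M) (hv : v ∈ X) (hs : ∀ a b, B a b = B b a) (A : Act X B H) :
    Subgroup H where
  carrier := {x | x • v ∈ cmp X B v}
  one_mem' := by
    change (1 : H) • v ∈ cmp X B v
    rw [one_smul]; exact self_mem_cmp v
  mul_mem' := by
    intro a b ha hb
    change (a * b) • v ∈ cmp X B v
    rw [mul_smul]
    exact cmp_trans ha (cmp_smul A a hb)
  inv_mem' := by
    intro a ha
    change a⁻¹ • v ∈ cmp X B v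
    have h1 := cmp_smul A a⁻¹ (cmp_symm hs hv ha)
    rw [inv_smul_smul] at h1
    exact h1

namespace Tvf

variable (h : Tvf T V z cf) [Finite G] (R : MRep V cf z M H) {B : M → M → ZMod 2} (hB : IsB R B)

/-- the stabiliser of the component of `y` -/
def st {y : G} (hy : y ∈ V) (hy1 : y ≠ 1) (hyz : y ≠ z) : Subgroup H :=
  stc (TT R) B (R.pi y) (pi_mem_TT R (mem_pts hy hy1 hyz)) (h.sys R hB).symm (h.act R hB)

/-- the subfamily of the component of `y` -/
def cfc {y : G} (hy : y ∈ V) (hy1 : y ≠ 1) (hyz : y ≠ z) : G → Subgroup G :=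
  subf V z (R.pre (h.st R hB hy hy1 hyz))

variable {y : G} (hy : y ∈ V) (hy1 : y ≠ 1) (hyz : y ≠ z)

theorem mem_st {x : H} : x ∈ h.st R hB hy hy1 hyz ↔ x • R.pi y ∈ cmp (TT R) B (R.pi y) := Iff.rfl

theorem le_pre_st : normalizer (V : Set G) ⊓ centralizer ({z} : Set G) ≤ R.pre (h.st R hB hy hy1 hyz) := by
  refine R.le_pre h.toFam hy hy1 hyz fun x hx => ?_
  rw [h.mem_st, hx]
  exact self_mem_cmp _

theorem cfc_z : h.cfc R hB hy hy1 hyz z = R.pre (h.st R hB hy hy1 hyz) := subf_z (h.le_pre_st R hB hy hy1 hyz)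

theorem sub_ww {w : G} : w ∈ ww V (h.cfc R hB hy hy1 hyz) z ↔
    w ∈ ww V cf z ∧ R.pi w ∈ AddSubgroup.closure (cmp (TT R) B (R.pi y)) := by
  have e : (Set.range fun x : h.st R hB hy hy1 hyz => (x : H) • R.pi y) = cmp (TT R) B (R.pi y) := by
    ext m
    constructor
    · rintro ⟨x, rfl⟩; exact x.2
    · intro hm
      have hv := pi_mem_TT R (mem_pts (cf := cf) hy hy1 hyz)
      obtain ⟨x, rfl⟩ := h.TT_trans R hv (cmp_sub hv hm)
      exact ⟨⟨x, hm⟩, rfl⟩
  rw [ww, h.cfc_z, R.mem_wf_pre h.toFam hy hy1 hyz, e]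

theorem sub_fam : Fam T V z (h.cfc R hB hy hy1 hyz) := by
  have S := h.sys R hB
  have hv := pi_mem_TT R (mem_pts (cf := cf) hy hy1 hyz)
  obtain ⟨_, ⟨t, ht, rfl⟩, ht1⟩ := S.exists_nd hv
  obtain ⟨w, hw, hwz⟩ := h.exists_not_qq hy hy1 h.z_mem h.z_ne (Ne.symm hyz)
  have htW : t ∈ ww V (h.cfc R hB hy hy1 hyz) z := (h.sub_ww R hB hy hy1 hyz).mpr
    ⟨h.pt_mem ht, AddSubgroup.subset_closure (cmp_step (self_mem_cmp _) (pi_mem_TT R ht) ht1)⟩
  rw [ww, h.cfc_z] at htW
  have hty : B (R.pi t) (R.pi y) = 1 := by rw [S.symm]; exact ht1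
  have htQ : t ∉ qq V cf y := by
    intro h1
    have := (h.form_qq R hy hy1 hyz (hB y hy hy1 hyz w hw hwz) (h.pt_mem ht)).mpr h1
    rw [hty] at this
    exact one_ne_zero this
  have hc := h.cm_eq h.z_mem h.z_ne hy hy1 hyz (h.pt_mem ht) htQ hw hwz
  refine h.toFam.sub_of h.one (h.le_pre_st R hB hy hy1 hyz) (R.pre_le _) hy hy1 hyz ⟨t, htW, htQ⟩ ⟨t, htW, w, hw, ?_, ?_⟩
  · rw [hc]; exact h.mul_ne_one hy (Ne.symm hyz)
  · rw [hc]; exact fun e => hy1 (by simpa using e)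

theorem cfc_le {p : G} (hp : p ∈ V) (hp1 : p ≠ 1) : h.cfc R hB hy hy1 hyz p ≤ cf p := by
  obtain ⟨g, hg, rfl⟩ := h.ln.trans p hp hp1
  rw [cfc, subf_eq (h.le_pre_st R hB hy hy1 hyz) hg, ← h.cj_cf g hg z h.z_mem h.z_ne]
  exact cj_mono (R.pre_le _)

theorem sub_ww_le {p : G} (hp : p ∈ V) (hp1 : p ≠ 1) : ww V (h.cfc R hB hy hy1 hyz) p ≤ ww V cf p :=
  wf_mono (h.cfc_le R hB hy hy1 hyz hp hp1)

theorem sub_qq {p c : G} (hp : p ∈ V) (hp1 : p ≠ 1) (hc : c ∈ h.cfc R hB hy hy1 hyz p) (hq : c ∈ qq V cf p) :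
    c ∈ qq V (h.cfc R hB hy hy1 hyz) p :=
  ⟨hc, hq.2.1, fun w hw => hq.2.2 w (h.sub_ww_le R hB hy hy1 hyz hp hp1 hw)⟩

/-- **the connected subfamily** is again a transvection family -/
theorem sub : Tvf T V z (h.cfc R hB hy hy1 hyz) where
  toFam := h.sub_fam R hB hy hy1 hyz
  one := by
    intro p hp hp1 q hq hq1 hqp w hw w' hw' hwq hwq'
    have F := h.sub_fam R hB hy hy1 hyz
    have hwc := F.ww_le_cf' hp hp1 hq hq1 hw
    have hwc' := F.ww_le_cf' hp hp1 hq hq1 hw'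
    refine h.sub_qq R hB hy hy1 hyz hq hq1 (mul_mem hwc hwc') ?_
    exact h.one p hp hp1 q hq hq1 hqp w (h.sub_ww_le R hB hy hy1 hyz hp hp1 hw) w'
      (h.sub_ww_le R hB hy hy1 hyz hp hp1 hw') (fun h1 => hwq (h.sub_qq R hB hy hy1 hyz hq hq1 hwc h1))
      (fun h1 => hwq' (h.sub_qq R hB hy hy1 hyz hq hq1 hwc' h1))
  comm' := fun p hp hp1 q hq hq1 hqp a ha b hb => h.comm' p hp hp1 q hq hq1 hqp a
    (h.sub_ww_le R hB hy hy1 hyz hp hp1 ha) b (h.sub_ww_le R hB hy hy1 hyz hq hq1 hb)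

theorem sub_pts {t : G} : t ∈ pts V (h.cfc R hB hy hy1 hyz) z ↔
    t ∈ pts V cf z ∧ R.pi t ∈ cmp (TT R) B (R.pi y) := by
  obtain ⟨w, hw, hwz⟩ := h.exists_not_qq hy hy1 h.z_mem h.z_ne (Ne.symm hyz)
  have key : ∀ y' ∈ V, y' ≠ 1 → y' ≠ z → R.pi y' = R.pi y := by
    intro y' hy' hy1' hyz'
    obtain ⟨w', hw', hwz'⟩ := h.exists_not_qq hy' hy1' h.z_mem h.z_ne (Ne.symm hyz')
    exact (h.pi_phi_eq R hy hy1 hyz hw hwz hy' hy1' hyz' hw' hwz').1
  constructor
  · rintro ⟨y', hy', hy1', hyz', c, hc, rfl⟩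
    rw [h.cfc_z] at hc
    obtain ⟨hc1, hc2⟩ := R.mem_pre.mp hc
    refine ⟨mem_pts_conj hy' hy1' hyz' hc1, ?_⟩
    rw [← R.act c hc1 y' (h.V_le hy'), key y' hy' hy1' hyz']
    exact hc2
  · rintro ⟨⟨y', hy', hy1', hyz', c, hc, rfl⟩, ht⟩
    refine mem_pts_conj hy' hy1' hyz' ?_
    rw [h.cfc_z, R.mem_pre]
    refine ⟨hc, ?_⟩
    rw [← R.act c hc y' (h.V_le hy'), key y' hy' hy1' hyz'] at ht
    exact ht

theorem sub_wt_le {t : G} (ht : t ∈ pts V (h.cfc R hB hy hy1 hyz) z) :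
    wt V (h.cfc R hB hy hy1 hyz) z t ≤ wt V cf z t := by
  have F := h.sub R hB hy hy1 hyz
  obtain ⟨y', hy', hy1', hyz', c, hc, e1, e2⟩ := F.wt_ex ht
  have hc' : c ∈ cf z := h.cfc_le R hB hy hy1 hyz h.z_mem h.z_ne hc
  rw [e2, e1, wt_conj h.toFam hy' hy1' hyz' hc']
  exact cj_mono (h.sub_ww_le R hB hy hy1 hyz hy' hy1')

section form

variable {M' H' : Type u} [AddCommGroup M'] [Group H'] [DistribMulAction H' M']
  (R' : MRep V (h.cfc R hB hy hy1 hyz) z M' H') {B' : M' → M' → ZMod 2} (hB' : IsB R' B')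
include hB'

/-- the form of the subfamily is the restriction -/
theorem sub_form_pt {a t : G} (ha : a ∈ ww V (h.cfc R hB hy hy1 hyz) z) (ht : t ∈ pts V (h.cfc R hB hy hy1 hyz) z) :
    B' (R'.pi a) (R'.pi t) = B (R.pi a) (R.pi t) := by
  have F := h.sub R hB hy hy1 hyz
  have ht' := ((h.sub_pts R hB hy hy1 hyz).mp ht).1
  have ha' := h.sub_ww_le R hB hy hy1 hyz h.z_mem h.z_ne ha
  rcases z2 (B (R.pi a) (R.pi t)) with e | e
  · rw [e, F.form_pt R' hB' ht ha]
    exact fun b hb => (h.form_pt R hB ht' ha').mp e b (h.sub_wt_le R hB hy hy1 hyz ht hb)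
  · rw [e]
    refine z2_ne fun e1 => ?_
    obtain ⟨b, hb, hbz⟩ := F.exists_wt ht
    have hbz' : b ∉ qq V cf z := fun h1 =>
      hbz (h.sub_qq R hB hy hy1 hyz h.z_mem h.z_ne (F.wt_le_cf ht hb) h1)
    exact h.not_comm R hB ht' ha' (h.sub_wt_le R hB hy hy1 hyz ht hb) hbz' e ((F.form_pt R' hB' ht ha).mp e1 b hb)

/-- the subfamily is connected -/
theorem sub_conn : Conn (TT R') B' := by
  have F := h.sub R hB hy hy1 hyz
  have S := h.sys R hB
  intro D hD ⟨_, hd⟩ hcl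
  obtain ⟨t0, ht0, e0⟩ := hD hd
  subst e0
  have hv := pi_mem_TT R (mem_pts (cf := cf) hy hy1 hyz)
  obtain ⟨ht0', ht0c⟩ := (h.sub_pts R hB hy hy1 hyz).mp ht0
  have hsub : cmp (TT R) B (R.pi t0) ⊆
      {m | ∃ t ∈ pts V (h.cfc R hB hy hy1 hyz) z, R.pi t = m ∧ R'.pi t ∈ D} := by
    intro u hu
    refine hu {m | ∃ t ∈ pts V (h.cfc R hB hy hy1 hyz) z, R.pi t = m ∧ R'.pi t ∈ D} ⟨t0, ht0, rfl, hd⟩ ?_
    rintro _ ⟨t, ht, rfl, htD⟩ _ ⟨s, hs, rfl⟩ hts
    have hsc : s ∈ pts V (h.cfc R hB hy hy1 hyz) z := (h.sub_pts R hB hy hy1 hyz).mpr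
      ⟨hs, cmp_step ((h.sub_pts R hB hy hy1 hyz).mp ht).2 (pi_mem_TT R hs) hts⟩
    refine ⟨s, hsc, rfl, hcl _ htD _ (pi_mem_TT R' hsc) ?_⟩
    rw [h.sub_form_pt R hB hy hy1 hyz R' hB' (F.pt_mem ht) hsc]
    exact hts
  rintro _ ⟨t, ht, rfl⟩
  obtain ⟨ht', htc⟩ := (h.sub_pts R hB hy hy1 hyz).mp ht
  obtain ⟨s, hs, e, hsD⟩ := hsub (cmp_trans (cmp_symm S.symm hv ht0c) htc)
  have : R'.pi t = R'.pi s := by
    rw [R'.pi_eq F.toFam (F.pt_mem ht) (F.pt_mem hs)]
    rcases (R.pi_eq h.toFam (h.pt_mem ht') (h.pt_mem ((h.sub_pts R hB hy hy1 hyz).mp hs).1)).mp e.symm with e1 | e1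
    · exact Or.inl e1
    · exact Or.inr e1
  rw [this]
  exact hsD

end form

include h in
/-- **the connected subfamily**, summary -/
theorem exists_conn : ∃ cf' : G → Subgroup G, (∀ p ∈ V, p ≠ 1 → cf' p ≤ cf p) ∧ Tvf T V z cf' ∧
    ∀ (M H : Type u) [AddCommGroup M] [Group H] [DistribMulAction H M] (R : MRep V cf' z M H)
      (B : M → M → ZMod 2), IsB R B → Conn (TT R) B := by
  obtain ⟨y, hy, hy1, hyz⟩ := h.ln.exists_y
  obtain ⟨M, H, _, _, _, _, _, _, ⟨R⟩⟩ := h.exists_mrep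
  obtain ⟨B, hB⟩ := h.exists_isB R
  exact ⟨h.cfc R hB hy hy1 hyz, fun p hp hp1 => h.cfc_le R hB hy hy1 hyz hp hp1, h.sub R hB hy hy1 hyz,
    fun M' H' _ _ _ R' B' hB' => h.sub_conn R hB hy hy1 hyz R' hB'⟩

end Tvf

/-- `jj` is monotone -/
theorem jj_mono {cf' : G → Subgroup G} (hle : ∀ p ∈ V, p ≠ 1 → cf' p ≤ cf p) : jj V cf' ≤ jj V cf :=
  fun _ hu p hp hp1 => wf_mono (hle p hp hp1) (hu p hp hp1)

end Cfsg.Agent.Omega.NO3S.TV

end

section


/-!
# NO-3a.4, transvection types (helper311's text #16747): the outer end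

* `Sys.exists_abelian` : if `u ⟂ v`, `u` in the component of `v`, implies `u = v`, then `H` has an abelian normal
  subgroup which is centralised by no transvection `a_v`;
* `Tvf.exists_abelian_of` : the same for the full family, from a statement on the connected subfamily.
-/

set_option autoImplicit false
set_option linter.unusedSectionVars false

namespace Cfsg.Agent.Omega.NO3S.TV

open Subgroup Cfsg Cfsg.Agent.ZN Cfsg.Agent.MinSimple.Geo Cfsg.Agent.Omega.CaseL Cfsg.Agent.Omega.NO3S.Fit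
open Cfsg.Agent.ZN.Block (conj_mem_of_normalizer conj_mem_of_normalizer' le_normalizer_of_forall
  mem_normalizer_of)

universe u

namespace Sys

variable {M : Type*} [AddCommGroup M] {X : Set M} {B : M → M → ZMod 2} {H : Type*} [Group H]
  [DistribMulAction H M]

/-- `a` is the transvection with centre `v` -/
def IsTv (B : M → M → ZMod 2) (a : H) (v : M) : Prop :=
  ∀ m : M, (B m v = 0 → a • m = m) ∧ (B m v = 1 → a • m = m + v)

theorem isTv_unique [FaithfulSMul H M] {a b : H} {v : M} (ha : IsTv B a v) (hb : IsTv B b v) : a = b := by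
  refine FaithfulSMul.eq_of_smul_eq_smul (M := H) (α := M) fun m => ?_
  rcases z2 (B m v) with e | e
  · rw [(ha m).1 e, (hb m).1 e]
  · rw [(ha m).2 e, (hb m).2 e]

theorem isTv_conj (A : Act X B H) {a x : H} {v : M} (ha : IsTv B a v) : IsTv B (x * a * x⁻¹) (x • v) := by
  intro m
  have e : B (x⁻¹ • m) v = B m (x • v) := by
    rw [← A.form x (x⁻¹ • m) v, smul_inv_smul]
  constructor
  · intro h1
    rw [mul_smul, mul_smul, (ha _).1 (e.trans h1), smul_inv_smul]
  · intro h1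
    rw [mul_smul, mul_smul, (ha _).2 (e.trans h1), smul_add, smul_inv_smul]

theorem exists_abelian (S : Sys X B) (A : Act X B H) [FaithfulSMul H M]
    (hP : ∀ v ∈ X, ∀ u ∈ cmp X B v, B u v = 0 → u = v) :
    ∃ N : Subgroup H, N.Normal ∧ (∀ a ∈ N, ∀ b ∈ N, a * b = b * a) ∧
      ∀ v ∈ X, ∀ a : H, IsTv B a v → ∃ n ∈ N, a * n ≠ n * a := by
  classical
  choose! τ hτ using A.tv
  have hτ' : ∀ v ∈ X, IsTv B (τ v) v := hτ
  have h3 : ∀ u ∈ X, ∀ v ∈ X, ∀ w ∈ X, B u v = 1 → B v w = 1 → w = u ∨ w = u + v := by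
    intro u hu v hv w hw huv hvw
    have hvu : B v u = 1 := by rw [S.symm]; exact huv
    rcases z2 (B w u) with e | e
    · left
      exact hP u hu w (cmp_step (cmp_step (self_mem_cmp u) hv huv) hw hvw) e
    · right
      have e' : B u w = 1 := by rw [S.symm]; exact e
      have h1 : u + w ∈ X := S.refl u hu w hw e'
      have h2 : u + w ∈ cmp X B v := cmp_step (cmp_step (self_mem_cmp v) hu hvu) h1
        (by rw [S.add_right, S.alt, e', zero_add])
      have h4 : u + w = v := hP v hv _ h2 (by rw [S.add_left, huv, S.symm w v, hvw]; decide)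
      rw [← h4, S.add_cancel]
  have hsq : ∀ v ∈ X, τ v * τ v = 1 := by
    intro v hv
    refine FaithfulSMul.eq_of_smul_eq_smul (M := H) (α := M) fun m => ?_
    rw [one_smul, mul_smul]
    rcases z2 (B m v) with e | e
    · rw [(hτ v hv m).1 e, (hτ v hv m).1 e]
    · rw [(hτ v hv m).2 e, (hτ v hv _).2 (by rw [S.add_left, e, S.alt, add_zero]), S.add_cancel']
  -- `τ u` and `τ v` commute if `u ⟂ v`
  have hcomm : ∀ u ∈ X, ∀ v ∈ X, B u v = 0 → τ u * τ v = τ v * τ u := by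
    intro u hu v hv e
    have h1 := isTv_conj A (x := τ u) (hτ' v hv)
    have h2 : τ u • v = v := (hτ u hu v).1 (by rw [S.symm]; exact e)
    rw [h2] at h1
    exact mul_inv_eq_iff_eq_mul.mp (isTv_unique h1 (hτ' v hv))
  -- `τ (u + v) = τ u τ v τ u`
  have hadd : ∀ u ∈ X, ∀ v ∈ X, B u v = 1 → τ (u + v) = τ u * τ v * τ u := by
    intro u hu v hv e
    have h1 := isTv_conj A (x := τ u) (hτ' v hv)
    have h2 : τ u • v = u + v := by
      rw [(hτ u hu v).2 (by rw [S.symm]; exact e), add_comm]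
    rw [h2] at h1
    have h4 : (τ u)⁻¹ = τ u := inv_eq_of_mul_eq_one_left (hsq u hu)
    rw [h4] at h1
    exact isTv_unique (hτ' _ (S.refl u hu v hv e)) h1
  -- neighbours
  have hstep : ∀ u ∈ X, ∀ v ∈ X, ∀ w ∈ X, B u v = 1 → B v w = 1 →
      τ v * τ w = τ u * τ v ∨ τ v * τ w = τ v * τ u := by
    intro u hu v hv w hw huv hvw
    rcases h3 u hu v hv w hw huv hvw with e | e
    · right; rw [e]
    · left
      have hvu : B v u = 1 := by rw [S.symm]; exact huv
      rw [e, add_comm, hadd v hv u hu hvu]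
      calc τ v * (τ v * τ u * τ v) = (τ v * τ v) * (τ u * τ v) := by group
        _ = τ u * τ v := by rw [hsq v hv, one_mul]
  have hinv : ∀ u ∈ X, ∀ v ∈ X, (τ u * τ v)⁻¹ = τ v * τ u := by
    intro u hu v hv
    rw [mul_inv_rev, inv_eq_of_mul_eq_one_left (hsq u hu), inv_eq_of_mul_eq_one_left (hsq v hv)]
  -- the generators of one component
  have hpar : ∀ u ∈ X, ∀ v ∈ X, ∀ w ∈ X, B u v = 1 → B v w = 1 →
      τ v * τ w = τ u * τ v ∨ τ v * τ w = (τ u * τ v)⁻¹ := by
    intro u hu v hv w hw huv hvw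
    rcases hstep u hu v hv w hw huv hvw with e | e
    · exact Or.inl e
    · right; rw [e, hinv u hu v hv]
  have hsame : ∀ u ∈ X, ∀ v ∈ X, ∀ u' ∈ X, ∀ v' ∈ X, B u v = 1 → B u' v' = 1 → B u u' = 1 →
      τ u' * τ v' = τ u * τ v ∨ τ u' * τ v' = (τ u * τ v)⁻¹ := by
    intro u hu v hv u' hu' v' hv' huv huv' huu
    have h1 := hpar v hv u hu u' hu' (by rw [S.symm]; exact huv) huu
    have h2 := hpar u hu u' hu' v' hv' huu huv'
    have h4 := hinv u hu v hv
    rcases h1 with e1 | e1 <;> rcases h2 with e2 | e2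
    · right; rw [e2, e1, h4]
    · left; rw [e2, e1, ← h4, inv_inv]
    · left; rw [e2, e1, ← h4, inv_inv]
    · right; rw [e2, e1, ← h4, inv_inv]
  -- generators commute
  have hgc : ∀ u ∈ X, ∀ v ∈ X, ∀ u' ∈ X, ∀ v' ∈ X, B u v = 1 → B u' v' = 1 →
      (τ u * τ v) * (τ u' * τ v') = (τ u' * τ v') * (τ u * τ v) := by
    intro u hu v hv u' hu' v' hv' huv huv'
    have key : ∀ g k : H, (k = g ∨ k = g⁻¹) → g * k = k * g := by
      rintro g k (rfl | rfl)
      · rfl
      · rw [mul_inv_cancel, inv_mul_cancel]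
    have huvs : B v u = 1 := by rw [S.symm]; exact huv
    have huvs' : B v' u' = 1 := by rw [S.symm]; exact huv'
    have i1 := hinv u hu v hv
    have i2 := hinv u' hu' v' hv'
    rcases z2 (B u u') with e1 | e1
    · rcases z2 (B u v') with e2 | e2
      · rcases z2 (B v u') with e3 | e3
        · rcases z2 (B v v') with e4 | e4
          · have c1 := hcomm u hu u' hu' e1
            have c2 := hcomm u hu v' hv' e2
            have c3 := hcomm v hv u' hu' e3
            have c4 := hcomm v hv v' hv' e4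
            calc (τ u * τ v) * (τ u' * τ v') = τ u * (τ v * τ u') * τ v' := by group
              _ = τ u * (τ u' * τ v) * τ v' := by rw [c3]
              _ = (τ u * τ u') * (τ v * τ v') := by group
              _ = (τ u' * τ u) * (τ v' * τ v) := by rw [c1, c4]
              _ = τ u' * (τ u * τ v') * τ v := by group
              _ = τ u' * (τ v' * τ u) * τ v := by rw [c2]
              _ = (τ u' * τ v') * (τ u * τ v) := by group
          · apply key
            rcases hsame v hv u hu v' hv' u' hu' huvs huvs' e4 with e | e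
            · left; rw [← i1, ← i2] at e; exact inv_injective e
            · right; rw [← i1, ← i2] at e; exact inv_injective e
        · apply key
          rcases hsame v hv u hu u' hu' v' hv' huvs huv' e3 with e | e
          · right; rw [e, i1]
          · left; rw [e, ← i1, inv_inv]
      · apply key
        rcases hsame u hu v hv v' hv' u' hu' huv huvs' e2 with e | e
        · right; rw [← i2] at e; rw [← e, inv_inv]
        · left; rw [← i2] at e; exact inv_injective e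
    · exact key _ _ (hsame u hu v hv u' hu' v' hv' huv huv' e1)
  let Y : Set H := {g | ∃ u ∈ X, ∃ v ∈ X, B u v = 1 ∧ g = τ u * τ v}
  refine ⟨closure Y, ?_, ?_, ?_⟩
  · refine ⟨fun n hn x => ?_⟩
    have key : closure Y ≤ (closure Y).comap (MulAut.conj x).toMonoidHom := by
      rw [closure_le]
      rintro _ ⟨u, hu, v, hv, huv, rfl⟩
      change x * (τ u * τ v) * x⁻¹ ∈ closure Y
      have hu' := A.smul_mem x u hu
      have hv' := A.smul_mem x v hv
      have e1 := isTv_unique (isTv_conj A (x := x) (hτ' u hu)) (hτ' _ hu')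
      have e2 := isTv_unique (isTv_conj A (x := x) (hτ' v hv)) (hτ' _ hv')
      refine subset_closure ⟨x • u, hu', x • v, hv', by rw [A.form]; exact huv, ?_⟩
      rw [← e1, ← e2]; group
    exact key hn
  · have h5 : closure Y ≤ centralizer (closure Y : Set H) := by
      have h6 : closure Y ≤ centralizer Y := by
        rw [closure_le]
        rintro _ ⟨u, hu, v, hv, huv, rfl⟩
        rw [SetLike.mem_coe, mem_centralizer_iff]
        rintro _ ⟨u', hu', v', hv', huv', rfl⟩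
        exact (hgc u hu v hv u' hu' v' hv' huv huv').symm
      rw [centralizer_closure]
      exact h6
    intro a ha b hb
    exact (mem_centralizer_iff.mp (h5 ha) b hb).symm
  · intro v hv a ha
    obtain ⟨u, hu, hvu⟩ := S.exists_nd hv
    refine ⟨τ v * τ u, subset_closure ⟨v, hv, u, hu, hvu, rfl⟩, fun e => ?_⟩
    rw [isTv_unique ha (hτ' v hv)] at e
    -- `τ v` commutes with `τ u`
    have h7 : τ u = τ v * τ u * τ v := by
      calc τ u = (τ v * τ v) * τ u := by rw [hsq v hv, one_mul]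
        _ = τ v * (τ v * τ u) := by group
        _ = τ v * τ u * τ v := e
    have e1 : τ v * τ u = τ u * τ v := by
      calc τ v * τ u = τ v * (τ v * τ u * τ v) := by rw [← h7]
        _ = (τ v * τ v) * τ u * τ v := by group
        _ = τ u * τ v := by rw [hsq v hv, one_mul]
    have e2 := congrArg (fun g : H => g • v) e1
    simp only [mul_smul] at e2
    have huv : B u v = 1 := by rw [S.symm]; exact hvu
    rw [(hτ u hu v).2 hvu, (hτ v hv v).1 (S.alt v), (hτ u hu v).2 hvu, smul_add, (hτ v hv v).1 (S.alt v),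
      (hτ v hv u).2 huv] at e2
    have e3 : u + v = u := add_left_cancel e2
    exact S.ne_zero hv (by simpa using e3)

end Sys

namespace Tvf

variable {G : Type u} [Group G] {T V : Subgroup G} {z : G} {cf : G → Subgroup G}

/-- **the outer end**: if the connected subfamilies have `TT' ∩ v0^⊥ = {v0}`, then `H` has an abelian normal subgroup
which is not centralised by `A` -/
theorem exists_abelian_of (h : Tvf T V z cf) [Finite G] {M H : Type u} [AddCommGroup M] [Group H]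
    [DistribMulAction H M] [FaithfulSMul H M] (R : MRep V cf z M H) {y : G} (hy : y ∈ V) (hy1 : y ≠ 1) (hyz : y ≠ z)
    (hM : ∀ cf' : G → Subgroup G, Tvf T V z cf' → (∀ p ∈ V, p ≠ 1 → cf' p ≤ cf p) →
      ∀ (M' H' : Type u) [AddCommGroup M'] [Group H'] [DistribMulAction H' M'] [FaithfulSMul H' M']
        (R' : MRep V cf' z M' H') (B' : M' → M' → ZMod 2), IsB R' B' → Conn (TT R') B' →
        ∀ t ∈ pts V cf' z, B' (R'.pi t) (R'.pi y) = 0 → R'.pi t = R'.pi y) :
    ∃ N : Subgroup H, N.Normal ∧ (∀ a ∈ N, ∀ b ∈ N, a * b = b * a) ∧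
      ∀ w ∈ ww V cf y, w ∉ qq V cf z → ∃ n ∈ N, R.phi w * n ≠ n * R.phi w := by
  obtain ⟨B, hB⟩ := h.exists_isB R
  have S := h.sys R hB
  have A := h.act R hB
  have hyp := mem_pts (cf := cf) hy hy1 hyz
  have hv := pi_mem_TT R hyp
  have F := h.sub R hB hy hy1 hyz
  -- the component of `v0`
  have h0 : ∀ u ∈ cmp (TT R) B (R.pi y), B u (R.pi y) = 0 → u = R.pi y := by
    intro u hu hu0
    obtain ⟨t, ht, rfl⟩ := cmp_sub hv hu
    obtain ⟨M', H', _, _, _, _, _, _, ⟨R'⟩⟩ := F.exists_mrep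
    obtain ⟨B', hB'⟩ := F.exists_isB R'
    have ht' := (h.sub_pts R hB hy hy1 hyz).mpr ⟨ht, hu⟩
    have hy' : y ∈ pts V (h.cfc R hB hy hy1 hyz) z := mem_pts hy hy1 hyz
    have e := h.sub_form_pt R hB hy hy1 hyz R' hB' (F.pt_mem ht') hy'
    have e1 := hM _ F (fun p hp hp1 => h.cfc_le R hB hy hy1 hyz hp hp1) M' H' R' B' hB'
      (h.sub_conn R hB hy hy1 hyz R' hB') t ht' (e.trans hu0)
    rw [R'.pi_eq F.toFam (F.pt_mem ht') (F.pt_mem hy')] at e1
    exact (R.pi_eq h.toFam (h.pt_mem ht) (h.pt_mem hyp)).mpr e1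
  have hP : ∀ v ∈ TT R, ∀ u ∈ cmp (TT R) B v, B u v = 0 → u = v := by
    intro v hvv u hu hu0
    obtain ⟨x, hx⟩ := h.TT_trans R hvv hv
    have h1 := cmp_smul A x hu
    rw [hx] at h1
    have h2 : B (x • u) (R.pi y) = 0 := by rw [← hx, A.form]; exact hu0
    have h3 := h0 _ h1 h2
    rw [← hx] at h3
    exact smul_left_cancel x h3
  obtain ⟨N, hN, hN1, hN2⟩ := S.exists_abelian A hP
  refine ⟨N, hN, hN1, fun w hw hwz => hN2 _ hv _ ?_⟩
  have hwt : w ∈ wt V cf z y := by rw [wt_eq h.toFam hy hy1 hyz]; exact hw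
  exact fun m => h.phi_wt R hB hyp hwt hwz m

end Tvf

end Cfsg.Agent.Omega.NO3S.TV

end
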